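import Cfsg.Agent.Lib.CI.Covers

/-!
# A simple group with central Sylow intersections has abelian Sylow 2-subgroups or a strongly embedded subgroup

Without covers the involutions of `U = S' ∩ Ω₁Z(S)` are good, and the stabiliser in `N(S)` of each bad involution is
transitive on them. Then the orbit of some bad involution under `N(S)` is invariant under multiplication by an element
of `U`, but has odd length.
-/

set_option autoImplicit false
set_option linter.style.haveILetI false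
set_option linter.unusedSectionVars false
set_option linter.dupNamespace false

namespace Cfsg.Agent.CI

open Subgroup Cfsg.Agent
open scoped commutatorElement

universe u

variable {G : Type u} [Group G] [Finite G]

/-- Two involutions with product of even order: the central involution, and what its products are conjugate to. -/
theorem dihedral {a b : G} (ha : orderOf a = 2) (hb : orderOf b = 2) :
    Odd (orderOf (a * b)) ∨ ∃ v : G, orderOf v = 2 ∧ Commute v a ∧ Commute v b ∧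
      ((∃ g : G, g * a * g⁻¹ = v * a) ∨ ∃ g : G, g * b * g⁻¹ = v * a) := by
  rcases Nat.even_or_odd (orderOf (a * b)) with ⟨k, hk⟩ | h
  swap
  · exact Or.inl h
  right
  have hai := Fusion.SEPairs.inv_self ha
  have hbi := Fusion.SEPairs.inv_self hb
  have haa := Fusion.SEPairs.sq_one ha
  have hpos := orderOf_pos (a * b)
  set r := a * b with hr
  have hww : r ^ k * r ^ k = 1 := by rw [← pow_add, ← hk, pow_orderOf_eq_one]
  have hw1 : r ^ k ≠ 1 := fun e => by
    have := Nat.le_of_dvd (by omega) (orderOf_dvd_of_pow_eq_one e)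
    omega
  have hwi : (r ^ k)⁻¹ = r ^ k := inv_eq_of_mul_eq_one_right hww
  have hflip : ∀ i : ℕ, a * r ^ i * a⁻¹ = (r ^ i)⁻¹ := fun i => by
    rw [← conj_pow, hr, show a * (a * b) * a⁻¹ = (a * a) * b * a⁻¹ by group, haa, one_mul, hai,
      show b * a = (a * b)⁻¹ by rw [mul_inv_rev, hai, hbi], inv_pow]
  have hflip' : ∀ i : ℕ, a * (r ^ i)⁻¹ = r ^ i * a := fun i => by
    have h1 := hflip i
    rw [mul_inv_eq_iff_eq_mul] at h1
    calc a * (r ^ i)⁻¹ = a * ((r ^ i)⁻¹ * a) * a⁻¹ := by group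
      _ = a * (a * r ^ i) * a⁻¹ := by rw [h1]
      _ = r ^ i * a := by rw [← mul_assoc, haa, one_mul, hai]
  refine ⟨r ^ k, orderOf_eq_prime (by rw [pow_two]; exact hww) hw1,
    (mul_inv_eq_iff_eq_mul.1 ((hflip k).trans hwi)).symm, ?_, ?_⟩
  · have h2 : b * r ^ k * b⁻¹ = r ^ k := by
      rw [← conj_pow, hr, show b * (a * b) * b⁻¹ = b * a by group, show b * a = (a * b)⁻¹ by rw [mul_inv_rev, hai, hbi],
        inv_pow]
      exact hwi
    exact (mul_inv_eq_iff_eq_mul.1 h2).symm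
  · rcases Nat.even_or_odd k with ⟨m, hm⟩ | ⟨m, hm⟩
    · left
      refine ⟨r ^ m, ?_⟩
      rw [mul_assoc, hflip', ← mul_assoc, ← pow_add, hm]
    · right
      refine ⟨r ^ m * a, ?_⟩
      calc r ^ m * a * b * (r ^ m * a)⁻¹ = r ^ m * (a * b) * (a⁻¹ * (r ^ m)⁻¹) := by group
        _ = r ^ m * r * (r ^ m * a) := by rw [← hr, hai, hflip']
        _ = r ^ k * a := by rw [hm, two_mul, pow_add, pow_add, pow_one]; group

/-- An orbit of `N(S)` on the centre of `S` has odd length. -/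
theorem odd_orbit {S : Sylow 2 G} {v : G} (hv : Cen S v) :
    Odd (Nat.card {x : G // ∃ n ∈ normalizer ((S : Subgroup G) : Set G), n * v * n⁻¹ = x}) := by
  set N := normalizer ((S : Subgroup G) : Set G) with hN
  letI : MulAction N G := MulAction.compHom G (MulAut.conj.comp N.subtype)
  have he : Nat.card {x : G // ∃ n ∈ N, n * v * n⁻¹ = x} = Nat.card (MulAction.orbit N v) :=
    Nat.card_congr (Equiv.subtypeEquivRight fun x =>
      ⟨fun ⟨n, hn, e⟩ => ⟨⟨n, hn⟩, e⟩, fun ⟨⟨n, hn⟩, e⟩ => ⟨n, hn, e⟩⟩)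
  rw [he, Nat.card_coe_set_eq, ← MulAction.index_stabilizer]
  refine Nat.not_even_iff_odd.1 fun hev => (S.subtype (le_normalizer : (S : Subgroup G) ≤ N)).not_dvd_index
    (hev.two_dvd.trans (Subgroup.index_dvd_of_le fun n hn => ?_))
  show (n : G) * v * (n : G)⁻¹ = v
  rw [(hv _ (mem_subgroupOf.1 hn)).eq, mul_inv_cancel_right]

/-- A set with a fixed-point-free involution has even cardinality. -/
theorem even_of_involutive {α : Type u} [Finite α] (f : α → α) (h1 : ∀ x, f (f x) = x) (h2 : ∀ x, f x ≠ x) :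
    Even (Nat.card α) := by
  haveI := Fintype.ofFinite α
  have h : ∑ _x : α, (1 : ZMod 2) = 0 :=
    Finset.sum_involution (fun a _ => f a) (fun a _ => by decide) (fun a _ _ => h2 a) (fun a _ => Finset.mem_univ _)
      fun a _ => h1 a
  rw [Finset.sum_const, Finset.card_univ, nsmul_one] at h
  rw [Nat.card_eq_fintype_card]
  exact even_iff_two_dvd.2 ((ZMod.natCast_eq_zero_iff_even.1 h).two_dvd)

variable {S : Sylow 2 G}

theorem InU.conj (h : CI G) {z n : G} (hz : InU S z) (hn : n ∈ normalizer ((S : Subgroup G) : Set G)) :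
    InU S (n * z * n⁻¹) := by
  have hnS : n * z * n⁻¹ ∈ (S : Subgroup G) := (mem_normalizer_iff.1 hn z).1 hz.2.1
  refine ⟨?_, hnS, ?_, h.cen_conj hz.2.1 hz.2.2.2 hnS⟩
  · have h1 : n * z * n⁻¹ ∈ (⁅(S : Subgroup G), (S : Subgroup G)⁆).map (MulAut.conj n).toMonoidHom := ⟨z, hz.1, rfl⟩
    rwa [Subgroup.map_commutator, show (S : Subgroup G).map (MulAut.conj n).toMonoidHom = (S : Subgroup G) from
      Fusion.mem_normalizer_iff_cj.1 hn] at h1
  · rw [← hz.2.2.1]; exact orderOf_injective (MulAut.conj n).toMonoidHom (MulAut.conj n).injective z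

theorem InU.mul {z z' : G} (hz : InU S z) (hz' : InU S z') (hne : z * z' ≠ 1) : InU S (z * z') :=
  ⟨mul_mem hz.1 hz'.1, mul_mem hz.2.1 hz'.2.1, orderOf_eq_prime (by
    rw [(hz'.2.2.2 z hz.2.1).mul_pow, ← hz.2.2.1, pow_orderOf_eq_one, one_mul, hz.2.2.1, ← hz'.2.2.1,
      pow_orderOf_eq_one]) hne, fun s hs => (hz.2.2.2 s hs).mul_right (hz'.2.2.2 s hs)⟩

/-- Goodness moves along `N(S)`. -/
theorem good_conj {w e n : G} (hgood : centralizer ({w} : Set G) ≤ normalizer ((S : Subgroup G) : Set G))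
    (hn : n ∈ normalizer ((S : Subgroup G) : Set G)) (he : n * w * n⁻¹ = e) :
    centralizer ({e} : Set G) ≤ normalizer ((S : Subgroup G) : Set G) := by
  subst he
  intro x hx
  have h1 : Commute x (n * w * n⁻¹) := mem_centralizer_singleton_iff.1 hx
  have h2 : n⁻¹ * x * n ∈ centralizer ({w} : Set G) := mem_centralizer_singleton_iff.2 (by
    have := h1.map (MulAut.conj n⁻¹).toMonoidHom
    simpa [mul_assoc] using this.eq)
  have := mul_mem (mul_mem hn (hgood h2)) (inv_mem hn)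
  rwa [show n * (n⁻¹ * x * n) * n⁻¹ = x by group] at this

namespace Ctx

variable (c : Ctx S)
include c

theorem no_bad (hnc : ∀ e J, Bad S e J → Subgroup.center J = ⊥) {e₀ : G} {J₀ : Subgroup G} (b₀ : Bad S e₀ J₀) :
    False := by
  haveI := c.simple
  set N := normalizer ((S : Subgroup G) : Set G) with hN
  -- the involutions of `U` are good
  have hgood : ∀ u, InU S u → centralizer ({u} : Set G) ≤ N := by
    intro u hu
    by_contra hb
    obtain ⟨J, b⟩ := c.exists_bad hu.2 hb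
    have huJ : u ∈ J := (b.derived_le c.ci hu.1).2
    have h1 : (⟨u, huJ⟩ : J) ∈ Subgroup.center J := Subgroup.mem_center_iff.2 fun j =>
      Subtype.ext (mem_centralizer_singleton_iff.1 (b.le j.2))
    rw [hnc u J b, mem_bot] at h1
    have h2 : u = 1 := congrArg Subtype.val h1
    have := hu.2.2.1
    rw [h2, orderOf_one] at this
    exact absurd this (by decide)
  -- transitivity
  have htrans : ∀ e J, Bad S e J → ∀ w w', InU S w → InU S w' →
      ∃ n ∈ N, Commute n e ∧ n * w * n⁻¹ = w' := by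
    intro e J b w w' hw hw'
    obtain ⟨k, hk, hkn⟩ : ∃ k ∈ J, k ∉ N := SetLike.not_le_iff_exists.1 b.not_norm
    have hwJ : w ∈ J := (b.derived_le c.ci hw.1).2
    have hw'J : w' ∈ J := (b.derived_le c.ci hw'.1).2
    set w'' := k * w' * k⁻¹ with hw''
    have hw''J : w'' ∈ J := mul_mem (mul_mem hk hw'J) (inv_mem hk)
    have hw''2 : orderOf w'' = 2 := by
      rw [← hw'.2.2.1]; exact orderOf_injective (MulAut.conj k).toMonoidHom (MulAut.conj k).injective w'
    have ha : orderOf (⟨w, hwJ⟩ : J) = 2 := by rw [← Subgroup.orderOf_coe]; exact hw.2.2.1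
    have hb : orderOf (⟨w'', hw''J⟩ : J) = 2 := by rw [← Subgroup.orderOf_coe]; exact hw''2
    rcases Fusion.SEPairs.odd_or_common ha hb with hodd | ⟨v, hv2, hva, hvb⟩
    · obtain ⟨i, -, hi, -⟩ := Fusion.SEPairs.exists_middle ha hb hodd
      have hi' : (i : G) * w * (i : G)⁻¹ = w'' := congrArg Subtype.val hi
      set g := k⁻¹ * (i : G) with hg
      have hgw : g * w * g⁻¹ = w' := by
        rw [hg, show k⁻¹ * (i : G) * w * (k⁻¹ * (i : G))⁻¹ = k⁻¹ * ((i : G) * w * (i : G)⁻¹) * k by group, hi', hw'']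
        group
      have hle := b.inv.cle
      set C := centralizer ({e} : Set G)
      obtain ⟨n, hn, hn'⟩ := (c.ci.subgroup C).fusion (S := S.subtype hle) (x := ⟨w, hle hw.2.1⟩)
        (g := ⟨g, b.le (mul_mem (inv_mem hk) i.2)⟩) (mem_subgroupOf.2 hw.2.1)
        (mem_subgroupOf.2 (by show g * w * g⁻¹ ∈ (S : Subgroup G); rw [hgw]; exact hw'.2.1))
      refine ⟨n, mem_normalizer_fintype fun s hs => ?_, mem_centralizer_singleton_iff.1 n.2,
        (congrArg Subtype.val hn').trans hgw⟩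
      exact mem_subgroupOf.1 ((mem_normalizer_iff.1 hn ⟨s, hle hs⟩).1 (mem_subgroupOf.2 hs))
    · exfalso
      have hvG2 : orderOf (v : G) = 2 := by rw [Subgroup.orderOf_coe]; exact hv2
      have hvp : (v : G) ^ 2 ^ 1 = 1 := by rw [pow_one, ← hvG2, pow_orderOf_eq_one]
      have hvS : (v : G) ∈ (S : Subgroup G) :=
        mem_sylow_of_norm hvp (hgood w hw (mem_centralizer_singleton_iff.2 (hva.map J.subtype).eq))
      have hvT : (v : G) ∈ ((k • S : Sylow 2 G) : Subgroup G) := by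
        refine sylow_mem_smul.2 (mem_sylow_of_norm (k := 1) ?_ (hgood w' hw' (mem_centralizer_singleton_iff.2 ?_)))
        · rw [pow_one, show k⁻¹ * (v : G) * k = k⁻¹ * v * k⁻¹⁻¹ by group, conj_pow]
          rw [pow_one] at hvp
          rw [hvp]; group
        · have := (hvb.map J.subtype).map (MulAut.conj k⁻¹).toMonoidHom
          simpa [hw'', mul_assoc] using this.eq
      have hne : S ≠ k • S := fun e => hkn (Sylow.smul_eq_iff_mem_normalizer.1 e.symm)
      obtain ⟨P, hP⟩ := b.exists_P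
      have hQP : (⟨k, hk⟩ : J) • P ≠ P := fun eq => by
        obtain ⟨x, hx, hxn⟩ := b.nc
        refine hkn (c.ci.mem_norm hx.1 hxn ((hP ⟨k * x * k⁻¹, mul_mem (mul_mem hk hx.2) (inv_mem hk)⟩).1 ?_))
        rw [← eq]
        refine sylow_mem_smul.2 ?_
        rw [show (⟨k, hk⟩ : J)⁻¹ * ⟨k * x * k⁻¹, mul_mem (mul_mem hk hx.2) (inv_mem hk)⟩ * ⟨k, hk⟩ =
          (⟨x, hx.2⟩ : J) from Subtype.ext (by show k⁻¹ * (k * x * k⁻¹) * k = x; group)]
        exact (hP _).2 hx.1
      have hsup : (P : Subgroup J) ⊔ (((⟨k, hk⟩ : J) • P : Sylow 2 J) : Subgroup J) ≤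
          (centralizer ({(v : G)} : Set G)).comap J.subtype := sup_le
        (fun p hp => mem_centralizer_singleton_iff.2 (c.ci S (k • S) hne v hvS hvT _ ((hP p).1 hp)).eq)
        (fun q hq => mem_centralizer_singleton_iff.2 (c.ci (k • S) S hne.symm v hvT hvS _
          (sylow_mem_smul.2 ((hP _).1 (sylow_mem_smul.1 hq)))).eq)
      rw [b.tt.sup_eq_top b.perfect_top hQP] at hsup
      have hvc : v ∈ Subgroup.center J := Subgroup.mem_center_iff.2 fun j =>
        Subtype.ext (mem_centralizer_singleton_iff.1 (hsup (mem_top j)))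
      rw [hnc e J b, mem_bot] at hvc
      rw [hvc, orderOf_one] at hv2
      exact absurd hv2 (by decide)
  obtain ⟨w, hw⟩ := c.exists_U
  have hw2 : w * w = 1 := Fusion.SEPairs.sq_one hw.2.2.1
  obtain ⟨y, ⟨g, hg⟩, hyN⟩ : ∃ y, (∃ g, g * e₀ * g⁻¹ = y) ∧ y ∉ N := by
    by_contra hall
    push Not at hall
    have hle : normalClosure ({e₀} : Set G) ≤ N := by
      refine (closure_le N).2 fun x hx => ?_
      obtain ⟨a, ha, hax⟩ := Group.mem_conjugatesOfSet_iff.1 hx
      rw [Set.mem_singleton_iff] at ha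
      subst ha
      obtain ⟨g, rfl⟩ := isConj_iff.1 hax
      exact hall _ ⟨g, rfl⟩
    rcases (inferInstance : (normalClosure ({e₀} : Set G)).Normal).eq_bot_or_eq_top with h | h
    · have h1 : e₀ ∈ normalClosure ({e₀} : Set G) := subset_normalClosure rfl
      rw [h, mem_bot] at h1
      have := b₀.inv.2.1
      rw [h1, orderOf_one] at this
      exact absurd this (by decide)
    · exact c.norm_ne_top (top_le_iff.1 (h ▸ hle))
  have hy2 : orderOf y = 2 := by
    rw [← hg, ← b₀.inv.2.1]; exact orderOf_injective (MulAut.conj g).toMonoidHom (MulAut.conj g).injective e₀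
  have hbad₀ : ¬ centralizer ({e₀} : Set G) ≤ N := fun h => b₀.not_norm (b₀.le.trans h)
  rcases dihedral hw.2.2.1 hy2 with hodd | ⟨v, hv2, hvw, hvy, hcase⟩
  · obtain ⟨i, -, hi, -⟩ := Fusion.SEPairs.exists_middle hw.2.2.1 hy2 hodd
    have h1 : (g⁻¹ * i) * w * (g⁻¹ * i)⁻¹ = e₀ := by
      rw [show (g⁻¹ * i) * w * (g⁻¹ * i)⁻¹ = g⁻¹ * (i * w * i⁻¹) * g by group, hi, ← hg]; group
    obtain ⟨n, hn, hn'⟩ := c.ci.fusion hw.2.1 (g := g⁻¹ * i) (h1 ▸ b₀.inv.1)
    exact hbad₀ (good_conj (hgood w hw) hn (hn'.trans h1))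
  have hvp : v ^ 2 ^ 1 = 1 := by rw [pow_one, ← hv2, pow_orderOf_eq_one]
  have hvS : v ∈ (S : Subgroup G) := mem_sylow_of_norm hvp (hgood w hw (mem_centralizer_singleton_iff.2 hvw.eq))
  have hyv : y ∈ centralizer ({v} : Set G) := mem_centralizer_singleton_iff.2 hvy.eq.symm
  have hvc : Cen S v := by_contra fun hn => hyN (c.ci.cent_le_norm hvS hn hyv)
  obtain ⟨Jv, bv⟩ := c.exists_bad ⟨hvS, hv2, hvc⟩ fun h => hyN (h hyv)
  have hvwS : v * w ∈ (S : Subgroup G) := mul_mem hvS hw.2.1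
  rcases hcase with ⟨g', hg'⟩ | ⟨g', hg'⟩
  · obtain ⟨n, hn, hn'⟩ := c.ci.fusion hw.2.1 (g := g') (hg' ▸ hvwS)
    have hU : InU S (v * w) := by
      have := hw.conj c.ci hn
      rwa [hn', hg'] at this
    have hvU : InU S v := by
      have h1 := hU.mul hw (by rw [mul_assoc, hw2, mul_one]; intro e1; rw [e1, orderOf_one] at hv2; exact absurd hv2 (by decide))
      rwa [mul_assoc, hw2, mul_one] at h1
    exact hyN (hgood v hvU hyv)
  have h1 : (g' * g) * e₀ * (g' * g)⁻¹ = v * w := by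
    rw [show (g' * g) * e₀ * (g' * g)⁻¹ = g' * (g * e₀ * g⁻¹) * g'⁻¹ by group, hg, hg']
  obtain ⟨n₁, hn₁, hn₁'⟩ := c.ci.fusion b₀.inv.1 (g := g' * g) (h1 ▸ hvwS)
  rw [h1] at hn₁'
  -- the orbit of `e₀`
  let InOrb : G → Prop := fun x => ∃ n ∈ N, n * e₀ * n⁻¹ = x
  have hmove : ∀ x n, InOrb x → n ∈ N → InOrb (n * x * n⁻¹) := by
    rintro x n ⟨m, hm, rfl⟩ hn
    exact ⟨n * m, mul_mem hn hm, by group⟩
  have horb : ∀ u, InU S u → InOrb (v * u) := by
    intro u hu
    obtain ⟨n, hn, hnv, hnu⟩ := htrans v Jv bv w u hw hu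
    have h2 := hmove _ n ⟨n₁, hn₁, hn₁'⟩ hn
    rwa [show n * (v * w) * n⁻¹ = (n * v * n⁻¹) * (n * w * n⁻¹) by group, hnu, hnv.eq, mul_inv_cancel_right] at h2
  obtain ⟨n₂, hn₂, hne⟩ : ∃ n ∈ N, n * w * n⁻¹ ≠ w := by
    by_contra hall
    push Not at hall
    exact c.ci.isolated_false c.nonab hw.2.2.1 hw.2.1 hall
  set u₁ := n₂ * w * n₂⁻¹ with hu₁d
  have hu₁ : InU S u₁ := hw.conj c.ci hn₂
  have hxc : Inv S (v * w) := ⟨hvwS, by
    rw [← hn₁', ← b₀.inv.2.1]
    exact orderOf_injective (MulAut.conj n₁).toMonoidHom (MulAut.conj n₁).injective e₀,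
    fun s hs => (hvc s hs).mul_right (hw.2.2.2 s hs)⟩
  obtain ⟨Jx, bx⟩ := c.exists_bad hxc fun h => hbad₀ (good_conj h (inv_mem hn₁) (by rw [← hn₁']; group))
  have hvOrb : InOrb v := by
    obtain ⟨n, hn, hnx, hnu⟩ := htrans _ Jx bx u₁ w hu₁ hw
    have hwu : InU S (w * u₁) := hw.mul hu₁ fun e1 => hne (by
      rw [← inv_eq_of_mul_eq_one_right e1, inv_eq_of_mul_eq_one_right hw2])
    have h2 := hmove _ n (horb _ hwu) hn
    rwa [show n * (v * (w * u₁)) * n⁻¹ = (n * (v * w) * n⁻¹) * (n * u₁ * n⁻¹) by group, hnu, hnx.eq,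
      mul_inv_cancel_right, mul_assoc, hw2, mul_one] at h2
  obtain ⟨m, hm, hmv⟩ := hvOrb
  have hinv : ∀ x, InOrb x → InOrb (x * w) := by
    rintro _ ⟨n, hn, rfl⟩
    have hnm : n * m⁻¹ ∈ N := mul_mem hn (inv_mem hm)
    have h2 := hmove _ _ (horb _ (hw.conj c.ci (inv_mem hnm))) hnm
    rwa [← hmv, show n * m⁻¹ * (m * e₀ * m⁻¹ * ((n * m⁻¹)⁻¹ * w * (n * m⁻¹)⁻¹⁻¹)) * (n * m⁻¹)⁻¹ =
      n * e₀ * n⁻¹ * w by group] at h2
  refine Nat.not_even_iff_odd.2 (odd_orbit (S := S) b₀.inv.2.2) (even_of_involutive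
    (fun x : {x : G // InOrb x} => ⟨x * w, hinv _ x.2⟩) (fun x => Subtype.ext (by
      show (x : G) * w * w = x; rw [mul_assoc, hw2, mul_one])) fun x e1 => ?_)
  have h2 : (x : G) * w = x := congrArg Subtype.val e1
  have h3 := hw.2.2.1
  rw [mul_eq_left.1 h2, orderOf_one] at h3
  exact absurd h3 (by decide)

theorem false : False := by
  obtain ⟨e, J, f, J', b, b', hne⟩ := c.exists_two
  refine c.no_bad (fun g L bg => ?_) b
  by_contra hZ
  exact hne ((c.cover_same bg hZ b).symm.trans (c.cover_same bg hZ b'))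

end Ctx

/-- A simple group with central Sylow intersections has abelian Sylow 2-subgroups or a strongly embedded subgroup. -/
theorem base_all : ∀ n, Base.{u} n := by
  intro n
  induction n using Nat.strong_induction_on with
  | _ n ih =>
  intro L _ _ _ hna hci hc
  by_contra hcon
  push Not at hcon
  obtain ⟨hab, hse⟩ := hcon
  obtain ⟨S, hS⟩ : ∃ S : Sylow 2 L, ¬ IsMulCommutative (S : Subgroup L) := by
    simpa [Solv.AbelianTwo.Ab2] using hab
  exact Ctx.false (S := S) ⟨inferInstance, hna, hci, hS, fun m hm => ih m (lt_of_lt_of_le hm hc), hse⟩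

end Cfsg.Agent.CI
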