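import Cfsg.Agent.S3183
import Cfsg.Agent.Lib.Fusion.Basic
import Cfsg.Agent.Lib.Char.ZStar
import Cfsg.Agent.Lib.Solv.Component
import Cfsg.Agent.Lib.Bender.AbelianSolvable

/-!
# Central intersections of Sylow 2-subgroups

`CI G`: an element in two distinct Sylow 2-subgroups is central in each of them. It passes to subgroups, to quotients by
normal subgroups of odd order and by central 2-subgroups. A non-central element of `S` lies in no other Sylow 2-subgroup,
so `N(S)` controls fusion in `S`.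
-/

set_option autoImplicit false
set_option linter.style.haveILetI false
set_option linter.unusedSectionVars false
set_option linter.dupNamespace false

namespace Cfsg.Agent.CI

open Subgroup Cfsg.Agent

universe u v

/-- The intersection of two distinct Sylow 2-subgroups is central in both. -/
def CI (G : Type u) [Group G] : Prop :=
  ∀ S T : Sylow 2 G, S ≠ T → ∀ x ∈ (S : Subgroup G), x ∈ (T : Subgroup G) → ∀ s ∈ (S : Subgroup G), Commute s x

variable {G : Type u} [Group G] [Finite G]

theorem of_template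
    (hCI : ∀ S T : Sylow 2 G, S ≠ T → ∃ U : Sylow 2 G,
      (S : Subgroup G) ⊓ (T : Subgroup G) ≤ (Subgroup.center ↥(U : Subgroup G)).map (U : Subgroup G).subtype) :
    CI G := by
  intro S T hne x hxS hxT s hs
  obtain ⟨⟨c, hc, rfl⟩, -⟩ := ((S3183.result hCI S).2 T hne.symm) ⟨hxS, hxT⟩
  exact congrArg Subtype.val (Subgroup.mem_center_iff.1 hc ⟨s, hs⟩)

theorem sylow_mem_smul {g x : G} {S : Sylow 2 G} : x ∈ ((g • S : Sylow 2 G) : Subgroup G) ↔ g⁻¹ * x * g ∈ (S : Subgroup G) :=
  Small.sylow_smul_mem_iff S g x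

/-- A 2-subgroup containing a Sylow subgroup is that subgroup. -/
theorem sylow_eq_of_le {P : Subgroup G} (hP : IsPGroup 2 P) {S : Sylow 2 G} (h : (S : Subgroup G) ≤ P) :
    P = (S : Subgroup G) :=
  S.is_maximal' hP h

/-- The property passes to a group embedded in `G`. -/
theorem CI.of_injective {H : Type v} [Group H] [Finite H] (h : CI G) (f : H →* G) (hf : Function.Injective f) : CI H := by
  intro S T hne x hxS hxT s hs
  obtain ⟨S', hS'⟩ := (S.2.map f).exists_le_sylow
  obtain ⟨T', hT'⟩ := (T.2.map f).exists_le_sylow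
  have hne' : S' ≠ T' := by
    rintro rfl
    refine hne (Sylow.ext ?_)
    have hp : IsPGroup 2 ((S' : Subgroup G).comap f) := S'.2.comap_of_injective f hf
    rw [← sylow_eq_of_le hp (map_le_iff_le_comap.1 hS'), ← sylow_eq_of_le hp (map_le_iff_le_comap.1 hT')]
  have := h S' T' hne' (f x) (hS' ⟨x, hxS, rfl⟩) (hT' ⟨x, hxT, rfl⟩) (f s) (hS' ⟨s, hs, rfl⟩)
  exact hf (by rw [map_mul, map_mul]; exact this.eq)

theorem CI.subgroup (h : CI G) (H : Subgroup G) : CI H :=
  h.of_injective H.subtype H.subtype_injective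

theorem CI.of_equiv {H : Type v} [Group H] [Finite H] (h : CI G) (e : H ≃* G) : CI H :=
  h.of_injective e.toMonoidHom e.injective

/-- The property passes to a quotient by a normal subgroup of odd order. -/
theorem CI.quotient_odd (h : CI G) {N : Subgroup G} [N.Normal] (hN : Odd (Nat.card N)) : CI (G ⧸ N) := by
  intro S' T' hne x' hxS hxT s' hs
  have hf := QuotientGroup.mk'_surjective N
  obtain ⟨S, rfl⟩ := Sylow.mapSurjective_surjective hf 2 S'
  obtain ⟨T, rfl⟩ := Sylow.mapSurjective_surjective hf 2 T'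
  rw [Sylow.coe_mapSurjective] at hxS hxT hs
  obtain ⟨x, hx, rfl⟩ := hxS
  obtain ⟨s, hs', rfl⟩ := hs
  obtain ⟨t, ht, e⟩ := hxT
  have hle : (T : Subgroup G) ≤ (T : Subgroup G) ⊔ N := le_sup_left
  have hxTN : zpowers x ≤ (T : Subgroup G) ⊔ N := zpowers_le.2 (by
    have : t⁻¹ * x ∈ N := QuotientGroup.eq.1 e
    rw [show x = t * (t⁻¹ * x) by group]
    exact mul_mem (mem_sup_left ht) (mem_sup_right this))
  obtain ⟨k, hk, hkT⟩ := Small.exists_smul_sylow_ge_inside (zpowers x) (S.2.to_le (zpowers_le.2 hx)) hxTN T hle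
  have hne' : S ≠ k • T := by
    intro eq
    refine hne (Sylow.ext ?_)
    rw [Sylow.coe_mapSurjective, Sylow.coe_mapSurjective]
    refine le_antisymm ?_ ?_
    all_goals rintro _ ⟨y, hy, rfl⟩
    · rw [eq] at hy
      replace hy := sylow_mem_smul.1 hy
      obtain ⟨a, ha, b, hb, rfl⟩ := (Subgroup.mem_sup_of_normal_right.1 hk)
      refine ⟨a * ((a * b)⁻¹ * y * (a * b)) * a⁻¹, mul_mem (mul_mem ha hy) (inv_mem ha), ?_⟩
      simp only [map_mul, map_inv, show QuotientGroup.mk' N b = 1 from (QuotientGroup.eq_one_iff b).2 hb, mul_one]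
      group
    · obtain ⟨a, ha, b, hb, rfl⟩ := (Subgroup.mem_sup_of_normal_right.1 hk)
      refine ⟨a * b * (a⁻¹ * y * a) * (a * b)⁻¹, ?_, ?_⟩
      · rw [eq]
        refine sylow_mem_smul.2 ?_
        convert mul_mem (mul_mem (inv_mem ha) hy) ha using 1
        group
      · simp only [map_mul, map_inv, show QuotientGroup.mk' N b = 1 from (QuotientGroup.eq_one_iff b).2 hb, mul_one]
        group
  have := h S (k • T) hne' x hx (hkT (mem_zpowers x)) s hs'
  exact this.map (QuotientGroup.mk' N)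

/-- The property passes to a quotient by a normal 2-subgroup. -/
theorem CI.quotient_two (h : CI G) {N : Subgroup G} [N.Normal] (hN : IsPGroup 2 N) : CI (G ⧸ N) := by
  intro S' T' hne x' hxS hxT s' hs
  have hf := QuotientGroup.mk'_surjective N
  obtain ⟨S, rfl⟩ := Sylow.mapSurjective_surjective hf 2 S'
  obtain ⟨T, rfl⟩ := Sylow.mapSurjective_surjective hf 2 T'
  rw [Sylow.coe_mapSurjective] at hxS hxT hs
  obtain ⟨x, hx, rfl⟩ := hxS
  obtain ⟨s, hs', rfl⟩ := hs
  obtain ⟨t, ht, e⟩ := hxT
  have hxT' : x ∈ (T : Subgroup G) := by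
    rw [show x = t * (t⁻¹ * x) by group]
    exact mul_mem ht (hN.le_sylow_of_normal T (QuotientGroup.eq.1 e))
  exact (h S T (fun eq => hne (by rw [eq])) x hx hxT' s hs').map (QuotientGroup.mk' N)

/-- `x` is central in `S`. -/
def Cen (S : Sylow 2 G) (x : G) : Prop := ∀ s ∈ (S : Subgroup G), Commute s x

variable (h : CI G)
include h

/-- A non-central element of `S` lies in `S` only. -/
theorem CI.mem_norm {S : Sylow 2 G} {x g : G} (hx : x ∈ (S : Subgroup G)) (hc : ¬ Cen S x)
    (hg : g * x * g⁻¹ ∈ (S : Subgroup G)) : g ∈ normalizer ((S : Subgroup G) : Set G) := by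
  have hx' : x ∈ ((g⁻¹ • S : Sylow 2 G) : Subgroup G) := sylow_mem_smul.2 (by rwa [inv_inv])
  refine Sylow.smul_eq_iff_mem_normalizer.1 ?_
  by_contra hne
  exact hc (h S (g⁻¹ • S) (fun e => hne (by nth_rw 1 [e]; rw [smul_inv_smul])) x hx hx')

theorem CI.cent_le_norm {S : Sylow 2 G} {x : G} (hx : x ∈ (S : Subgroup G)) (hc : ¬ Cen S x) :
    centralizer ({x} : Set G) ≤ normalizer ((S : Subgroup G) : Set G) := fun g hg =>
  h.mem_norm hx hc (by rw [(mem_centralizer_singleton_iff.1 hg), mul_inv_cancel_right]; exact hx)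

/-- Fusion preserves centrality. -/
theorem CI.cen_conj {S : Sylow 2 G} {x g : G} (hx : x ∈ (S : Subgroup G)) (hc : Cen S x)
    (hg : g * x * g⁻¹ ∈ (S : Subgroup G)) : Cen S (g * x * g⁻¹) := by
  by_contra hn
  have hN := h.mem_norm hg hn (g := g⁻¹) (by simpa [mul_assoc] using hx)
  have hN' : g ∈ normalizer ((S : Subgroup G) : Set G) := by simpa using inv_mem hN
  refine hn fun s hs => ?_
  have := (hc _ ((mem_normalizer_iff.1 hN (s)).1 hs)).map (MulAut.conj g).toMonoidHom
  simpa [mul_assoc] using this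

/-- `N(S)` controls fusion in `S`. -/
theorem CI.fusion {S : Sylow 2 G} {x g : G} (hx : x ∈ (S : Subgroup G)) (hg : g * x * g⁻¹ ∈ (S : Subgroup G)) :
    ∃ n ∈ normalizer ((S : Subgroup G) : Set G), n * x * n⁻¹ = g * x * g⁻¹ := by
  by_cases hc : Cen S x
  · set y := g * x * g⁻¹ with hy
    have hS : (S : Subgroup G) ≤ centralizer ({y} : Set G) := fun s hs =>
      mem_centralizer_singleton_iff.2 (h.cen_conj hx hc hg s hs).eq
    have hS' : ((g • S : Sylow 2 G) : Subgroup G) ≤ centralizer ({y} : Set G) := fun s hs => by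
      rw [sylow_mem_smul] at hs
      have := (hc _ hs).map (MulAut.conj g).toMonoidHom
      exact mem_centralizer_singleton_iff.2 (by simpa [hy, mul_assoc] using this.eq)
    obtain ⟨c, hc', hcS⟩ := Small.exists_smul_sylow_ge_inside (S : Subgroup G) S.2 hS (g • S) hS'
    have e : c • (g • S) = S := (Sylow.ext (sylow_eq_of_le (c • (g • S)).2 hcS))
    refine ⟨c * g, Sylow.smul_eq_iff_mem_normalizer.1 (by rw [mul_smul, e]), ?_⟩
    have hcy : c * y = y * c := mem_centralizer_singleton_iff.1 hc'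
    rw [show c * g * x * (c * g)⁻¹ = c * y * c⁻¹ by rw [hy]; group, hcy, mul_inv_cancel_right]
  · exact ⟨g, h.mem_norm hx hc hg, rfl⟩

omit h in
theorem simple_center [IsSimpleGroup G] (hna : ¬ IsMulCommutative G) : Subgroup.center G = ⊥ :=
  (inferInstance : (Subgroup.center G).Normal).eq_bot_or_eq_top.resolve_right fun e =>
    hna ⟨⟨fun a b => (Subgroup.mem_center_iff.1 (e ▸ mem_top a) b).symm⟩⟩

omit h in
theorem simple_core [IsSimpleGroup G] (hna : ¬ IsMulCommutative G) : Cfsg.oddCore G = ⊥ :=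
  (inferInstance : (Cfsg.oddCore G).Normal).eq_bot_or_eq_top.resolve_right fun e => by
    have ho : Odd (Nat.card (Cfsg.oddCore G)) := Char.card_oddCore_odd G
    rw [e, Subgroup.card_top] at ho
    haveI := Bender.AbelianSolvable.odd_solvable' ho
    exact hna ⟨⟨IsSimpleGroup.comm_iff_isSolvable.2 inferInstance⟩⟩

/-- No involution of a simple group is fixed by the normaliser of its Sylow 2-subgroup. -/
theorem CI.isolated_false [IsSimpleGroup G] (hna : ¬ IsMulCommutative G) {S : Sylow 2 G} {z : G} (hz : orderOf z = 2)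
    (hzS : z ∈ (S : Subgroup G)) (hfix : ∀ n ∈ normalizer ((S : Subgroup G) : Set G), n * z * n⁻¹ = z) : False := by
  have hO : Char.OddInvol z := Char.oddInvol_of_isolated_sylow hz hzS fun g hg => by
    obtain ⟨n, hn, e⟩ := h.fusion hzS hg
    rw [← e]
    exact hfix n hn
  have hzc : z ∈ Subgroup.center G :=
    Subgroup.mem_center_iff.2 fun g => (Char.zStar_central hO (simple_core hna) g).symm
  rw [simple_center hna, mem_bot] at hzc
  rw [hzc, orderOf_one] at hz
  exact one_ne_zero (by omega : (1:ℕ) = 0)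

end Cfsg.Agent.CI
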