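import Cfsg.Agent.Lib.CI.TwoTrans
import Cfsg.Agent.Lib.LocalEven.ParabolicInherit
import Cfsg.Agent.Lib.GW.MaxCfg
import Cfsg.Agent.S4593

/-!
# The component of a group with central Sylow intersections

With trivial odd core and a non-abelian, non-normal Sylow 2-subgroup `S` there is a component, it is unique, and `S ∩ J`
is not central in `S`.
-/

set_option autoImplicit false
set_option linter.style.haveILetI false
set_option linter.unusedSectionVars false
set_option linter.dupNamespace false

namespace Cfsg.Agent.CI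

open Subgroup Cfsg.Agent Cfsg.Agent.Solv.AbelianTwo

universe u

variable {X : Type u} [Group X] [Finite X]

/-- Without odd core the Fitting subgroup is a 2-group. -/
theorem fitting_two (hO : Cfsg.oddCore X = ⊥) : IsPGroup 2 (Cfsg.fittingSubgroup X) := by
  haveI : Group.IsNilpotent (Cfsg.fittingSubgroup X) := Solv.fittingSubgroup_nilpotent
  haveI : (Cfsg.fittingSubgroup X).Normal := Solv.fittingSubgroup_normal
  refine IsPGroup.of_card (Nat.eq_prime_pow_of_unique_prime_dvd Nat.card_pos.ne' fun {q} hq hqd => ?_)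
  by_contra hq2
  haveI : Fact q.Prime := ⟨hq⟩
  obtain ⟨Q⟩ := (inferInstance : Nonempty (Sylow q (Cfsg.fittingSubgroup X)))
  haveI : (Q : Subgroup (Cfsg.fittingSubgroup X)).Characteristic :=
    Q.characteristic_of_normal (Sylow.normal_of_normalizerCondition Group.normalizerCondition_of_isNilpotent Q)
  have hn : ((Q : Subgroup (Cfsg.fittingSubgroup X)).map (Cfsg.fittingSubgroup X).subtype).Normal := inferInstance
  have ho : Odd (Nat.card ((Q : Subgroup (Cfsg.fittingSubgroup X)).map (Cfsg.fittingSubgroup X).subtype)) := by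
    rw [Subgroup.card_map_of_injective (Subgroup.subtype_injective _)]
    obtain ⟨i, hi⟩ := IsPGroup.iff_card.1 Q.isPGroup'
    rw [hi]
    exact (hq.odd_of_ne_two hq2).pow
  have hb : (Q : Subgroup (Cfsg.fittingSubgroup X)).map (Cfsg.fittingSubgroup X).subtype = ⊥ :=
    le_bot_iff.1 (hO ▸ le_sSup ⟨hn, Nat.coprime_two_left.2 ho |>.symm⟩)
  have h1 := Q.dvd_card_of_dvd_card hqd
  rw [← Subgroup.card_map_of_injective (Subgroup.subtype_injective (Cfsg.fittingSubgroup X)), hb,
    Subgroup.card_bot] at h1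
  exact hq.one_lt.ne' (Nat.dvd_one.1 h1)

theorem fitting_le_sylow (hO : Cfsg.oddCore X = ⊥) (S : Sylow 2 X) : Cfsg.fittingSubgroup X ≤ (S : Subgroup X) :=
  haveI : (Cfsg.fittingSubgroup X).Normal := Solv.fittingSubgroup_normal
  (fitting_two hO).le_sylow_of_normal S

/-- A component exists. -/
theorem exists_component (h : CI X) (hO : Cfsg.oddCore X = ⊥) {S : Sylow 2 X} (hn : ¬ (S : Subgroup X).Normal) :
    ∃ J : Subgroup X, Cfsg.IsComponent J := by
  by_contra hc
  push Not at hc
  refine hn ?_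
  obtain ⟨g, hg⟩ : ∃ g : X, g • S ≠ S := by
    by_contra hall
    push Not at hall
    exact hn (normalizer_eq_top_iff.1 (eq_top_iff.2 fun g _ => Sylow.smul_eq_iff_mem_normalizer.1 (hall g)))
  have hSc : (S : Subgroup X) ≤ centralizer (Cfsg.generalizedFittingSubgroup X : Set X) := fun s hs =>
    mem_centralizer_iff.2 fun x hx => by
      have hle : Cfsg.generalizedFittingSubgroup X ≤ Cfsg.fittingSubgroup X :=
        sup_le (sSup_le fun K hK => (hc K hK).elim) le_rfl
      exact (h S (g • S) hg.symm x (fitting_le_sylow hO S (hle hx)) (fitting_le_sylow hO _ (hle hx)) s hs).eq.symm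
  have e : (S : Subgroup X) = Cfsg.fittingSubgroup X :=
    le_antisymm (hSc.trans GW.centralizer_gfit_le_fit) (fitting_le_sylow hO S)
  rw [e]
  exact Solv.fittingSubgroup_normal

section Comp

variable {J : Subgroup X} (hJ : Cfsg.IsComponent J) (S : Sylow 2 X)
include hJ

theorem comp_perfect : ⁅(⊤ : Subgroup J), (⊤ : Subgroup J)⁆ = ⊤ := by
  refine Subgroup.map_injective J.subtype_injective ?_
  rw [Subgroup.map_commutator, ← MonoidHom.range_eq_map, Subgroup.range_subtype, Solv.qs_self_commutator hJ.2]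

theorem comp_sylIn : Fusion.SylIn 2 ((S : Subgroup X) ⊓ J) J :=
  LocalEven.sylIn_inf_subnormal S hJ.1

/-- A component does not normalise its Sylow 2-subgroup. -/
theorem comp_not_norm : ¬ J ≤ normalizer (((S : Subgroup X) ⊓ J : Subgroup X) : Set X) := fun hle => by
  haveI : (((S : Subgroup X) ⊓ J).subgroupOf J).Normal := normal_subgroupOf_of_le_normalizer hle
  have ho : Odd (((S : Subgroup X) ⊓ J).subgroupOf J).index :=
    Nat.not_even_iff_odd.1 fun he => (comp_sylIn hJ S).not_dvd he.two_dvd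
  have htop := top_le_iff.1 (Walter.perfect_le_of_odd_index ho (comp_perfect hJ))
  rw [subgroupOf_eq_top] at htop
  have hp : IsPGroup 2 J := S.2.to_le (htop.trans inf_le_left)
  haveI : Group.IsNilpotent J := hp.isNilpotent
  haveI := Solv.qs_nontrivial hJ.2
  exact top_ne_bot (Walter.perfect_eq_bot (comp_perfect hJ))

/-- A component does not normalise a Sylow 2-subgroup. -/
theorem comp_not_le_norm : ¬ J ≤ normalizer ((S : Subgroup X) : Set X) := fun hle =>
  comp_not_norm hJ S fun g hg => Fusion.mem_normalizer_iff_cj.2 (by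
    rw [Fusion.cj_inf, Fusion.cj_eq_self (hle hg), Fusion.cj_eq_self_of_mem hg])

theorem comp_center_two (hO : Cfsg.oddCore X = ⊥) : IsPGroup 2 (Subgroup.center J) := by
  refine fun z => ?_
  have hzF : ((z : J) : X) ∈ Cfsg.fittingSubgroup X := Solv.center_component_le_fitting hJ ⟨z, z.2, rfl⟩
  obtain ⟨j, hj⟩ := fitting_two hO ⟨_, hzF⟩
  exact ⟨j, Subtype.ext (Subtype.ext (by simpa using congrArg Subtype.val hj))⟩

variable (h : CI X)
include h

/-- An element centralising a component is central in every Sylow subgroup containing it. -/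
theorem cen_of_centralises {c : X} (hc : c ∈ (S : Subgroup X)) (hcJ : c ∈ centralizer (J : Set X)) : Cen S c :=
  by_contra fun hn => comp_not_le_norm hJ S (le_trans (fun j hj => mem_centralizer_singleton_iff.2
    (mem_centralizer_iff.1 hcJ j hj)) (h.cent_le_norm hc hn))

/-- The trace of `S` in a component is not central in `S`. -/
theorem exists_noncentral (hO : Cfsg.oddCore X = ⊥) (hab : ¬ IsMulCommutative (S : Subgroup X)) :
    ∃ x ∈ (S : Subgroup X) ⊓ J, ¬ Cen S x := by
  by_contra hP
  push Not at hP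
  have hT := comp_sylIn hJ S
  have hnorm : (S : Subgroup X) ≤ normalizer (J : Set X) := by
    intro s hs
    refine Fusion.mem_normalizer_iff_cj.2 ?_
    by_contra e
    have hc := Subgroup.commutator_eq_bot_iff_le_centralizer.1
      (Solv.components_commute (Solv.component_conj hJ s) hJ e)
    refine comp_not_norm hJ S fun g hg => Fusion.mem_normalizer_of_cj_le ?_
    rintro _ ⟨x, hx, rfl⟩
    have hxs : x ∈ J.map (MulAut.conj s).toMonoidHom :=
      ⟨x, hx.2, by
        show s * x * s⁻¹ = x
        rw [(hP x hx s hs).eq, mul_inv_cancel_right]⟩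
    show g * x * g⁻¹ ∈ _
    rw [mem_centralizer_iff.1 (hc hxs) g hg, mul_inv_cancel_right]
    exact hx
  obtain ⟨P, hPe⟩ := hT.exists_sylow_subgroupOf
  have hPab : IsMulCommutative (P : Subgroup J) := ⟨⟨fun a b => by
    have ha : ((a : J) : X) ∈ (S : Subgroup X) ⊓ J := mem_subgroupOf.1 (hPe ▸ a.2)
    have hb : ((b : J) : X) ∈ (S : Subgroup X) ⊓ J := mem_subgroupOf.1 (hPe ▸ b.2)
    exact Subtype.ext (Subtype.ext (hP _ hb _ ha.1).eq)⟩⟩
  have hAb : Ab2 J := fun T => by
    obtain ⟨g, rfl⟩ := MulAction.exists_smul_eq J P T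
    haveI := hPab
    exact ⟨⟨fun a b => (Sylow.equivSMul P g).symm.injective (by
      rw [map_mul, map_mul]; exact IsMulCommutative.is_comm.comm _ _)⟩⟩
  have hZ : Subgroup.center J = ⊥ := (Subgroup.eq_bot_iff_forall _).2 fun z hz => by
    obtain ⟨j, hj⟩ := comp_center_two hJ hO ⟨z, hz⟩
    exact Walter.center_two (comp_perfect hJ) hAb hz (congrArg Subtype.val hj)
  haveI := hJ.2.2
  haveI : Nontrivial J := Solv.qs_nontrivial hJ.2
  haveI : IsSimpleGroup J := IsSimpleGroup.isSimpleGroup_of_surjective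
    ((QuotientGroup.quotientMulEquivOfEq hZ).trans QuotientGroup.quotientBot).toMonoidHom (MulEquiv.surjective _)
  have hnaJ : ¬ IsMulCommutative J := Walter.CoreFree.comp_nonab hJ
  have hall : ∀ a ∈ (S : Subgroup X), Cen S a := by
    intro a ha
    let α : MulAut J := Subgroup.normalizerMonoidHom J ⟨a, hnorm ha⟩
    have hα : ∀ x : J, ((α x : J) : X) = a * x * a⁻¹ := fun x => rfl
    obtain ⟨j, hj⟩ := S.isPGroup' ⟨a, ha⟩
    have hj' : a ^ 2 ^ j = 1 := congrArg Subtype.val hj
    have hα2 : ∃ i : ℕ, orderOf α = 2 ^ i := by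
      have h1 : α ^ 2 ^ j = 1 := by
        show Subgroup.normalizerMonoidHom J _ ^ 2 ^ j = 1
        rw [← map_pow, show (⟨a, hnorm ha⟩ : normalizer (J : Set X)) ^ 2 ^ j = 1 from Subtype.ext hj', map_one]
      obtain ⟨i, -, hi⟩ := (Nat.dvd_prime_pow Nat.prime_two).1 (orderOf_dvd_of_pow_eq_one h1)
      exact ⟨i, hi⟩
    have hfix : ∀ x ∈ (P : Subgroup J), α x = x := fun x hx => by
      rw [hPe, mem_subgroupOf] at hx
      refine Subtype.ext ?_
      rw [hα, (hP _ hx a ha).eq, mul_inv_cancel_right]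
    obtain ⟨k, hk⟩ := S4593.main (simple_core hnaJ) P hPab α hα2 hfix
    set c := (k : X)⁻¹ * a with hc
    have hcJ : ∀ x ∈ J, c * x = x * c := fun x hx => by
      have h1 := congrArg Subtype.val (hk ⟨x, hx⟩)
      rw [hα, Subgroup.coe_mul, Subgroup.coe_mul, Subgroup.coe_inv] at h1
      calc c * x = (k : X)⁻¹ * (a * x * a⁻¹) * a := by rw [hc]; group
        _ = x * c := by rw [h1, hc]; group
    have hkc : Commute (k : X) c := (hcJ k k.2).symm
    have hpow : (k : X) ^ 2 ^ j = 1 := by
      have h1 : (k : X) ^ 2 ^ j * c ^ 2 ^ j = 1 := by rw [← hkc.mul_pow, hc, mul_inv_cancel_left, hj']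
      have h2 : k ^ 2 ^ j ∈ Subgroup.center J := Subgroup.mem_center_iff.2 fun x => Subtype.ext (by
        have e1 : (k : X) ^ 2 ^ j = (c ^ 2 ^ j)⁻¹ := eq_inv_of_mul_eq_one_left h1
        rw [Subgroup.coe_mul, Subgroup.coe_mul, SubgroupClass.coe_pow, e1]
        exact (((show Commute c (x : X) from hcJ x x.2).pow_left (2 ^ j)).inv_left).eq.symm)
      rw [hZ, Subgroup.mem_bot] at h2
      simpa using congrArg Subtype.val h2
    have hQn : zpowers (k : X) ≤ normalizer (((S : Subgroup X) ⊓ J : Subgroup X) : Set X) := by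
      refine zpowers_le.2 (Fusion.mem_normalizer_of_cj_le ?_)
      rintro _ ⟨x, hx, rfl⟩
      show (k : X) * x * (k : X)⁻¹ ∈ _
      have h2 : Commute a x := hP x hx a ha
      have h3 := h2.mul_left ((show Commute c x from hcJ x hx.2).inv_left)
      rw [hc, mul_inv_rev, inv_inv, mul_inv_cancel_left] at h3
      rw [h3.eq, mul_inv_cancel_right]
      exact hx
    have hQp := hT.isPGroup.to_sup_of_normal_left' (IsPGroup.iff_card.2 (by
      rw [Nat.card_zpowers]
      obtain ⟨i, -, hi⟩ := (Nat.dvd_prime_pow Nat.prime_two).1 (orderOf_dvd_of_pow_eq_one hpow)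
      exact ⟨i, hi⟩)) hQn
    have hk' : (k : X) ∈ (S : Subgroup X) ⊓ J :=
      (hT.eq_of_le hQp le_sup_left (sup_le inf_le_right (zpowers_le.2 k.2))) ▸
        mem_sup_right (mem_zpowers (k : X))
    have hcS : c ∈ (S : Subgroup X) := mul_mem (inv_mem hk'.1) ha
    have hcc := cen_of_centralises hJ S h hcS (mem_centralizer_iff.2 fun x hx => (hcJ x hx).symm)
    intro s hs
    have := (hP _ hk' s hs).mul_right (hcc s hs)
    rwa [hc, mul_inv_cancel_left] at this
  exact hab ⟨⟨fun a b => Subtype.ext (hall b b.2 a a.2).eq⟩⟩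

/-- The component is unique. -/
theorem comp_unique (hO : Cfsg.oddCore X = ⊥) (hab : ¬ IsMulCommutative (S : Subgroup X)) {L : Subgroup X}
    (hL : Cfsg.IsComponent L) : L = J := by
  by_contra hne
  obtain ⟨x, hx, hxn⟩ := exists_noncentral hJ S h hO hab
  have hc := Subgroup.commutator_eq_bot_iff_le_centralizer.1 (Solv.components_commute hL hJ hne)
  exact comp_not_le_norm hL S (le_trans (fun l hl => mem_centralizer_singleton_iff.2
    (mem_centralizer_iff.1 (hc hl) x hx.2).symm) (h.cent_le_norm hx.1 hxn))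

theorem comp_normal (hO : Cfsg.oddCore X = ⊥) (hab : ¬ IsMulCommutative (S : Subgroup X)) : J.Normal :=
  Fusion.normal_iff_cj.2 fun g => comp_unique hJ S h hO hab (Solv.component_conj hJ g)

end Comp

end Cfsg.Agent.CI
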