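import Cfsg.Agent.Lib.CI.Basic
import Cfsg.Agent.Lib.Solv.UniqueSub
import Cfsg.Agent.Lib.Lead.PGV.TwoConf
import Mathlib.GroupTheory.SpecificGroups.Quaternion

/-!
# A 2-group on a group of odd order

If the elements of a group `U` of odd order fixed by a non-central element of `S` are fixed by all of `S`, then `S`
centralises `U` or the commutators of `S` lie in one cyclic subgroup: on a minimal `U` the action is free on the moved
elements, so `S` modulo its central kernel is cyclic or a generalised quaternion group.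
-/

set_option autoImplicit false
set_option linter.style.haveILetI false
set_option linter.unusedSectionVars false
set_option linter.dupNamespace false

namespace Cfsg.Agent.CI

open Subgroup Cfsg.Agent
open scoped commutatorElement

universe u

/-- The commutators of `S` lie in one cyclic subgroup of `S`. -/
def CycDerived {G : Type u} [Group G] (S : Subgroup G) : Prop :=
  ∃ c ∈ S, ∀ a ∈ S, ∀ b ∈ S, ⁅a, b⁆ ∈ zpowers c

variable {G : Type u} [Group G] [Finite G]

/-- Two generators of which one inverts the other modulo the centre. -/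
theorem cycDerived_of_pair {S : Subgroup G} {K : Set G} (hK : ∀ k ∈ K, k ∈ S ∧ ∀ s ∈ S, Commute s k) {a b k₀ : G}
    (ha : a ∈ S) (hb : b ∈ S) (hgen : S ≤ closure ({a, b} ∪ K)) (hk₀ : k₀ ∈ K)
    (hinv : b * a * b⁻¹ = a⁻¹ * k₀) : CycDerived S := by
  set c : G := ⁅a, b⁆ with hc
  have hcS : c ∈ S := by
    rw [hc, commutatorElement_def]
    exact mul_mem (mul_mem (mul_mem ha hb) (inv_mem ha)) (inv_mem hb)
  have hka : Commute k₀ a := ((hK _ hk₀).2 a ha).symm
  have hkb : Commute k₀ b := ((hK _ hk₀).2 b hb).symm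
  have h1 : c = a * a * k₀⁻¹ := by
    rw [hc, commutatorElement_def, show a * b * a⁻¹ * b⁻¹ = a * (b * a * b⁻¹)⁻¹ by group, hinv, mul_inv_rev, inv_inv,
      hka.inv_left.eq, ← mul_assoc]
  have hac : a * c * a⁻¹ = c := by
    have : Commute a c := by rw [h1]; exact ((Commute.refl a).mul_right (Commute.refl a)).mul_right hka.symm.inv_right
    rw [this.eq, mul_inv_cancel_right]
  have hbc : b * c * b⁻¹ = c⁻¹ := by
    rw [h1, show b * (a * a * k₀⁻¹) * b⁻¹ = (b * a * b⁻¹) * (b * a * b⁻¹) * (b * k₀⁻¹ * b⁻¹) by group, hinv,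
      hkb.symm.inv_right.eq, mul_inv_cancel_right, mul_inv_rev, inv_inv, mul_inv_rev,
      show a⁻¹ * k₀ * (a⁻¹ * k₀) = a⁻¹ * (k₀ * a⁻¹) * k₀ by group, hka.inv_right.eq]
    group
    exact (hka.symm.zpow_left (-2)).eq
  have hstable : ∀ g ∈ S, ∀ i : ℤ, ∃ j : ℤ, g * c ^ i * g⁻¹ = c ^ j := by
    intro g hg
    have hg' := hgen hg
    clear hg
    induction hg' using closure_induction with
    | mem x hx =>
      intro i
      rcases hx with (rfl | rfl) | hx
      · exact ⟨i, by rw [← conj_zpow, hac]⟩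
      · exact ⟨-i, by rw [← conj_zpow, hbc, inv_zpow, zpow_neg]⟩
      · exact ⟨i, by rw [← (((hK x hx).2 c hcS).zpow_left i).eq, mul_inv_cancel_right]⟩
    | one => exact fun i => ⟨i, by group⟩
    | mul x y _ _ ihx ihy =>
      intro i
      obtain ⟨j, hj⟩ := ihy i
      obtain ⟨m, hm⟩ := ihx j
      exact ⟨m, by rw [show x * y * c ^ i * (x * y)⁻¹ = x * (y * c ^ i * y⁻¹) * x⁻¹ by group, hj, hm]⟩
    | inv x _ ihx =>
      intro i
      have key : ∀ z ∈ zpowers c, x * z * x⁻¹ ∈ zpowers c := by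
        rintro _ ⟨j, rfl⟩
        obtain ⟨m, hm⟩ := ihx j
        exact ⟨m, hm.symm⟩
      have hn : x ∈ normalizer ((zpowers c : Subgroup G) : Set G) := mem_normalizer_fintype key
      obtain ⟨m, hm⟩ := (mem_normalizer_iff.1 (inv_mem hn) (c ^ i)).1 ⟨i, rfl⟩
      exact ⟨m, hm.symm⟩
  have hnorm : ∀ g ∈ S, g ∈ normalizer ((zpowers c : Subgroup G) : Set G) := fun g hg =>
    mem_normalizer_fintype (by
      rintro _ ⟨i, rfl⟩
      obtain ⟨j, hj⟩ := hstable g hg i
      exact ⟨j, hj.symm⟩)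
  -- the elements commuting with `g` modulo `zpowers c`
  have step : ∀ g ∈ S, ∀ T : Set G, T ⊆ S → (∀ y ∈ T, ⁅g, y⁆ ∈ zpowers c) → ∀ y ∈ closure T, ⁅g, y⁆ ∈ zpowers c := by
    intro g hg T hT hTc y hy
    induction hy using closure_induction with
    | mem x hx => exact hTc x hx
    | one => rw [commutatorElement_one_right]; exact one_mem _
    | mul x y hx _ ihx ihy =>
      rw [show ⁅g, x * y⁆ = ⁅g, x⁆ * (x * ⁅g, y⁆ * x⁻¹) by simp only [commutatorElement_def]; group]
      exact mul_mem ihx ((mem_normalizer_iff.1 (hnorm x ((closure_le S).2 hT hx)) _).1 ihy)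
    | inv x hx ih =>
      rw [show ⁅g, x⁻¹⁆ = x⁻¹ * ⁅g, x⁆⁻¹ * x⁻¹⁻¹ by simp only [commutatorElement_def]; group]
      exact (mem_normalizer_iff.1 (inv_mem (hnorm x ((closure_le S).2 hT hx))) _).1 (inv_mem ih)
  have hgenS : ({a, b} ∪ K : Set G) ⊆ S := by
    rintro x ((rfl | rfl) | hx)
    exacts [ha, hb, (hK x hx).1]
  have hK1 : ∀ g ∈ S, ∀ k ∈ K, ⁅g, k⁆ ∈ zpowers c ∧ ⁅k, g⁆ ∈ zpowers c := fun g hg k hk => by
    rw [commutatorElement_eq_one_iff_commute.2 ((hK k hk).2 g hg),
      commutatorElement_eq_one_iff_commute.2 ((hK k hk).2 g hg).symm]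
    exact ⟨one_mem _, one_mem _⟩
  refine ⟨c, hcS, fun x hx y hy => step x hx _ hgenS (fun g hg => ?_) y (hgen hy)⟩
  have hg' := hgenS hg
  rw [← inv_mem_iff, commutatorElement_inv]
  refine step g hg' _ hgenS (fun d hd => ?_) x (hgen hx)
  rcases hg with hg | hg
  · rcases hd with hd | hd
    · rcases hg with rfl | rfl <;> rcases hd with rfl | rfl
      · rw [commutatorElement_self]; exact one_mem _
      · exact mem_zpowers _
      · rw [← commutatorElement_inv]; exact inv_mem (mem_zpowers _)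
      · rw [commutatorElement_self]; exact one_mem _
    · exact (hK1 g hg' d hd).1
  · exact (hK1 d (hgenS hd) g hg).2

theorem core_lemma_aux : ∀ n : ℕ, ∀ (S U : Subgroup G), Nat.card U = n → IsPGroup 2 S → Odd (Nat.card U) →
    S ≤ normalizer (U : Set G) →
    (∀ x ∈ S, ¬ (∀ s ∈ S, Commute s x) → ∀ u ∈ U, Commute u x → ∀ s ∈ S, Commute u s) →
    (∀ u ∈ U, ∀ s ∈ S, Commute u s) ∨ CycDerived S := by
  intro n
  induction n using Nat.strong_induction_on with
  | _ n ih =>
  intro S U hn hS hU hSU hcond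
  by_contra hcon
  push Not at hcon
  obtain ⟨⟨u₀, hu₀, s₀, hs₀, hne⟩, hcyc⟩ := hcon
  have hfree : ∀ s ∈ S, (∃ u ∈ U, ¬ Commute u s) → ∀ u ∈ U, Commute u s → ∀ t ∈ S, Commute u t := by
    intro s hs hmove u hu hus
    by_cases hc : ∀ t ∈ S, Commute t s
    · have hlt : Nat.card (U ⊓ centralizer ({s} : Set G) : Subgroup G) < n := by
        rw [← hn]
        refine lt_of_le_of_ne (card_le_of_le inf_le_left) fun e => ?_
        obtain ⟨v, hv, hvs⟩ := hmove
        have h1 := eq_of_le_of_card_ge (inf_le_left : U ⊓ centralizer ({s} : Set G) ≤ U) e.ge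
        rw [← h1] at hv
        exact hvs (mem_centralizer_singleton_iff.1 hv.2)
      have hn' : S ≤ normalizer ((U ⊓ centralizer ({s} : Set G) : Subgroup G) : Set G) := fun t ht =>
        mem_normalizer_fintype fun v hv => ⟨(mem_normalizer_iff.1 (hSU ht) v).1 hv.1,
          mem_centralizer_singleton_iff.2 (by
            have h1 : Commute t⁻¹ s := (hc t ht).inv_left
            have h2 := ((hc t ht).mul_left (mem_centralizer_singleton_iff.1 hv.2 : Commute v s)).mul_left h1
            exact h2.eq)⟩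
      rcases ih _ hlt S _ rfl hS (hU.of_dvd_nat (card_dvd_of_le inf_le_left)) hn'
          (fun x hx hxc v hv hvx => hcond x hx hxc v hv.1 hvx) with h | h
      · exact h u ⟨hu, mem_centralizer_singleton_iff.2 hus.eq⟩
      · exact (hcyc h).elim
    · exact hcond s hs hc u hu hus
  let φ : S →* MulAut U := (Subgroup.normalizerMonoidHom U).comp (Subgroup.inclusion hSU)
  have hφ : ∀ (s : S) (u : U), ((φ s u : U) : G) = s * u * (s : G)⁻¹ := fun s u => rfl
  have hker : ∀ s : S, φ s = 1 → ∀ t ∈ S, Commute t (s : G) := fun s hs => by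
    by_contra hc
    have hall : ∀ u ∈ U, Commute u (s : G) := fun u hu => by
      have h1 := hφ s ⟨u, hu⟩
      rw [hs] at h1
      exact (eq_mul_inv_iff_mul_eq.1 h1 : u * (s : G) = s * u)
    exact hne (hcond s s.2 hc u₀ hu₀ (hall u₀ hu₀) s₀ hs₀)
  set R := φ.range with hR
  have hRp : IsPGroup 2 R := hS.of_surjective φ.rangeRestrict φ.rangeRestrict_surjective
  haveI : Nontrivial R := by
    refine ⟨⟨⟨φ ⟨s₀, hs₀⟩, _, rfl⟩, 1, fun e => hne ?_⟩⟩
    have h1 := hφ ⟨s₀, hs₀⟩ ⟨u₀, hu₀⟩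
    rw [show φ ⟨s₀, hs₀⟩ = 1 from congrArg Subtype.val e] at h1
    exact (eq_mul_inv_iff_mul_eq.1 h1 : u₀ * s₀ = s₀ * u₀)
  have hfix : ∀ (β : R), β ≠ 1 → ∀ u : U, (β : MulAut U) u = u → ∀ α : R, (α : MulAut U) u = u := by
    rintro ⟨_, s, rfl⟩ hβ u hu ⟨_, t, rfl⟩
    have hmove : ∃ v ∈ U, ¬ Commute v (s : G) := by
      by_contra hall
      push Not at hall
      refine hβ (Subtype.ext (MulEquiv.ext fun v => Subtype.ext ?_))
      rw [hφ, ← (hall v v.2).eq, mul_inv_cancel_right]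
      rfl
    have h1 : Commute (u : G) (s : G) := by
      have h2 := hφ s u
      rw [show φ s u = u from hu] at h2
      exact (eq_mul_inv_iff_mul_eq.1 h2 : (u : G) * s = s * u)
    refine Subtype.ext ?_
    rw [show ((⟨φ t, t, rfl⟩ : R) : MulAut U) = φ t from rfl, hφ, ← (hfree s s.2 hmove u u.2 h1 t t.2).eq,
      mul_inv_cancel_right]
  -- the image has one involution
  have hu : Solv.UniqueOrderP 2 R := by
    haveI := hRp.center_nontrivial
    obtain ⟨z, hz⟩ := exists_prime_orderOf_dvd_card' (G := Subgroup.center R) 2 (by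
      obtain ⟨k, hk⟩ := IsPGroup.iff_card.1 (hRp.to_subgroup (Subgroup.center R))
      rw [hk]
      exact dvd_pow_self 2 fun h0 => by
        rw [h0, pow_zero] at hk
        exact Finite.one_lt_card.ne' hk)
    rw [← Subgroup.orderOf_coe] at hz
    have hz1 : (z : R) * z = 1 := by rw [← pow_two, ← hz, pow_orderOf_eq_one]
    have hzne : (z : R) ≠ 1 := fun e => by rw [e, orderOf_one] at hz; exact absurd hz (by decide)
    have key : ∀ x : R, x * x = 1 → x = 1 ∨ x = (z : R) := by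
      intro x hx
      by_contra hc
      push Not at hc
      obtain ⟨hx1, hxz⟩ := hc
      have hcm : Commute (z : R) x := (Subgroup.mem_center_iff.1 z.2 x).symm
      have hzfix : ∀ v : U, ((z : R) : MulAut U) v = v := by
        intro v
        refine PGV.four_generation hU ((z : R) : MulAut U) (x : MulAut U)
          (congrArg Subtype.val hz1) (congrArg Subtype.val hx) (hcm.map R.subtype)
          ((MonoidHom.eqLocus ((z : R) : MulAut U).toMonoidHom (MonoidHom.id U))) (fun w hw => hw)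
          (fun w hw => hfix x hx1 w hw z) (fun w hw => hfix (z * x) (fun e => hxz ?_) w hw z) v
        rw [eq_inv_of_mul_eq_one_right e, inv_eq_of_mul_eq_one_right hz1]
      exact hzne (Subtype.ext (MulEquiv.ext hzfix))
    intro x y hx hy hy1
    rw [pow_two] at hx hy
    rcases key x hx with rfl | rfl
    · exact one_mem _
    · rcases key y hy with rfl | rfl
      · exact absurd rfl hy1
      · exact mem_zpowers _
  let K : Set G := {g | ∃ h : g ∈ S, φ ⟨g, h⟩ = 1}
  have hK : ∀ k ∈ K, k ∈ S ∧ ∀ s ∈ S, Commute s k := fun k ⟨h, e⟩ => ⟨h, hker ⟨k, h⟩ e⟩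
  have hlift : ∀ (s t : S), φ s = φ t → (t : G)⁻¹ * s ∈ K := fun s t e =>
    ⟨mul_mem (inv_mem t.2) s.2, by
      rw [show (⟨(t : G)⁻¹ * s, mul_mem (inv_mem t.2) s.2⟩ : S) = t⁻¹ * s from rfl, map_mul, map_inv, e,
        inv_mul_cancel]⟩
  rcases Solv.cyclic_or_quaternion hRp hu with hc | ⟨-, n', ⟨e⟩⟩
  · obtain ⟨⟨_, a, rfl⟩, hg⟩ := hc.exists_generator
    refine hcyc ⟨1, one_mem _, fun x hx y hy => ?_⟩
    have hwr : ∀ s ∈ S, ∃ i : ℤ, ∃ k ∈ K, s = (a : G) ^ i * k := fun s hs => by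
      obtain ⟨i, hi⟩ := hg ⟨φ ⟨s, hs⟩, ⟨s, hs⟩, rfl⟩
      have h1 : φ ⟨s, hs⟩ = φ (a ^ i) := by rw [map_zpow]; exact (congrArg Subtype.val hi).symm
      exact ⟨i, _, hlift _ _ h1, by rw [Subgroup.coe_zpow]; group⟩
    obtain ⟨i, k, hk, rfl⟩ := hwr x hx
    obtain ⟨j, l, hl, rfl⟩ := hwr y hy
    rw [commutatorElement_eq_one_iff_commute.2]
    · exact one_mem _
    refine Commute.mul_left (Commute.mul_right (Commute.zpow_zpow_self _ i j) ?_) ?_
    · exact (hK l hl).2 _ (zpow_mem a.2 i)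
    · exact ((hK k hk).2 _ hy).symm
  · obtain ⟨⟨_, a, rfl⟩, ha⟩ := e.surjective.comp (Function.surjective_id) (QuaternionGroup.a 1)
    obtain ⟨⟨_, b, rfl⟩, hb⟩ := e.surjective.comp (Function.surjective_id) (QuaternionGroup.xa 0)
    have htop : ∀ q : QuaternionGroup (2 ^ n'), ∃ i j : ℕ, q = QuaternionGroup.xa 0 ^ j * QuaternionGroup.a 1 ^ i := by
      rintro (i | i)
      · exact ⟨i.val, 0, by rw [pow_zero, one_mul, QuaternionGroup.a_one_pow, ZMod.natCast_zmod_val]⟩
      · exact ⟨i.val, 1, by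
          rw [pow_one, QuaternionGroup.a_one_pow, ZMod.natCast_zmod_val, QuaternionGroup.xa_mul_a, zero_add]⟩
    refine hcyc (cycDerived_of_pair hK a.2 b.2 (fun s hs => ?_)
      (k₀ := (a : G) * ((b : G) * a * (b : G)⁻¹)) ?_ (by group))
    · obtain ⟨i, j, hij⟩ := htop (e ⟨φ ⟨s, hs⟩, ⟨s, hs⟩, rfl⟩)
      simp only [Function.comp_apply, id] at ha hb
      rw [← ha, ← hb, ← map_pow, ← map_pow, ← map_mul] at hij
      have h1 : φ ⟨s, hs⟩ = φ (b ^ j * a ^ i) := by
        rw [map_mul, map_pow, map_pow]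
        exact congrArg Subtype.val (e.injective hij)
      have h2 := hlift _ _ h1
      rw [show s = ((b ^ j * a ^ i : S) : G) * (((b ^ j * a ^ i : S) : G)⁻¹ * s) by group]
      refine mul_mem ?_ (Subgroup.subset_closure (Or.inr h2))
      rw [Subgroup.coe_mul, Subgroup.coe_pow, Subgroup.coe_pow]
      exact mul_mem
        (pow_mem (Subgroup.subset_closure (show (b : G) ∈ ({(a : G), (b : G)} ∪ K : Set G) from Or.inl (Or.inr rfl))) j)
        (pow_mem (Subgroup.subset_closure (show (a : G) ∈ ({(a : G), (b : G)} ∪ K : Set G) from Or.inl (Or.inl rfl))) i)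
    · have h0 : e.toMonoidHom ((⟨φ a, a, rfl⟩ : R) * (⟨φ b, b, rfl⟩ * ⟨φ a, a, rfl⟩ * (⟨φ b, b, rfl⟩ : R)⁻¹)) = 1 := by
        simp only [Function.comp_apply, id] at ha hb
        rw [map_mul, map_mul, map_mul, map_inv]
        show e _ * (e _ * e _ * (e _)⁻¹) = 1
        have hba : (QuaternionGroup.xa 0 : QuaternionGroup (2 ^ n')) * QuaternionGroup.a 1 =
            QuaternionGroup.a (-1) * QuaternionGroup.xa 0 := by
          rw [QuaternionGroup.xa_mul_a, QuaternionGroup.a_mul_xa, sub_neg_eq_add]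
        rw [ha, hb, hba, mul_inv_cancel_right, QuaternionGroup.a_mul_a, add_neg_cancel, QuaternionGroup.a_zero]
      have h1 : (⟨φ a, a, rfl⟩ : R) * (⟨φ b, b, rfl⟩ * ⟨φ a, a, rfl⟩ * (⟨φ b, b, rfl⟩ : R)⁻¹) = 1 :=
        e.injective (by rw [map_one]; exact h0)
      have h2 : φ (a * (b * a * b⁻¹)) = φ 1 := by
        rw [map_mul, map_mul, map_mul, map_inv, map_one]; exact congrArg Subtype.val h1
      simpa using hlift _ _ h2

/-- A 2-group on a group of odd order. -/
theorem core_lemma {S U : Subgroup G} (hS : IsPGroup 2 S) (hU : Odd (Nat.card U)) (hSU : S ≤ normalizer (U : Set G))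
    (hcond : ∀ x ∈ S, ¬ (∀ s ∈ S, Commute s x) → ∀ u ∈ U, Commute u x → ∀ s ∈ S, Commute u s) :
    (∀ u ∈ U, ∀ s ∈ S, Commute u s) ∨ CycDerived S :=
  core_lemma_aux _ S U rfl hS hU hSU hcond

end Cfsg.Agent.CI
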