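import Cfsg.Agent.Lib.CI.Ident
import Cfsg.Agent.Lib.CI.Core

/-!
# The Sylow 2-subgroups of a cover with central preimage of the centre

If the preimage of the centre of `P̄` is central in the cover `P`, then `P'` is generated by three involutions at most,
but it maps onto a group of order 8 with non-trivial kernel; or the commutators lie in a cyclic group.
-/

set_option autoImplicit false
set_option linter.style.haveILetI false
set_option linter.unusedSectionVars false
set_option linter.dupNamespace false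

namespace Cfsg.Agent.CI

open Subgroup Cfsg.Agent
open scoped commutatorElement

universe u

section ClassTwo

variable {P : Type u} [Group P] (hc : ∀ x y : P, ⁅x, y⁆ ∈ Subgroup.center P)
include hc

theorem comm_mul_right (g x y : P) : ⁅g, x * y⁆ = ⁅g, x⁆ * ⁅g, y⁆ := by
  rw [show ⁅g, x * y⁆ = ⁅g, x⁆ * (x * ⁅g, y⁆ * x⁻¹) by simp only [commutatorElement_def]; group,
    Subgroup.mem_center_iff.1 (hc g y) x, mul_inv_cancel_right]

theorem comm_mem_step {W : Subgroup P} {g : P} {T : Set P} (hT : ∀ y ∈ T, ⁅g, y⁆ ∈ W) {y : P}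
    (hy : y ∈ closure T) : ⁅g, y⁆ ∈ W := by
  induction hy using closure_induction with
  | mem x hx => exact hT x hx
  | one => rw [commutatorElement_one_right]; exact one_mem _
  | mul x y _ _ ihx ihy => rw [comm_mul_right hc]; exact mul_mem ihx ihy
  | inv x _ ih =>
    have h1 := comm_mul_right hc g x x⁻¹
    rw [mul_inv_cancel, commutatorElement_one_right] at h1
    rw [eq_inv_of_mul_eq_one_right h1.symm]
    exact inv_mem ih

/-- Three generators modulo the centre. -/
theorem commutator_le_three {a b c : P} (hgen : closure ({a, b, c} : Set P) ⊔ Subgroup.center P = ⊤) {W : Subgroup P}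
    (hab : ⁅a, b⁆ ∈ W) (hac : ⁅a, c⁆ ∈ W) (hbc : ⁅b, c⁆ ∈ W) : commutator P ≤ W := by
  have key : ∀ g : P, (∀ y ∈ ({a, b, c} : Set P), ⁅g, y⁆ ∈ W) → ∀ y : P, ⁅g, y⁆ ∈ W := by
    intro g hg y
    obtain ⟨y₁, hy₁, y₂, hy₂, rfl⟩ := Subgroup.mem_sup_of_normal_right.1 (hgen.ge (mem_top y))
    rw [comm_mul_right hc, commutatorElement_eq_one_iff_commute.2 (Subgroup.mem_center_iff.1 hy₂ g : Commute g y₂),
      mul_one]
    exact comm_mem_step hc hg hy₁
  have hsw : ∀ x y : P, ⁅x, y⁆ ∈ W → ⁅y, x⁆ ∈ W := fun x y h => by rw [← commutatorElement_inv]; exact inv_mem h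
  have hg : ∀ g ∈ ({a, b, c} : Set P), ∀ y : P, ⁅g, y⁆ ∈ W := by
    intro g hg
    refine key g fun y hy => ?_
    rcases hg with rfl | rfl | rfl <;> rcases hy with rfl | rfl | rfl
    all_goals first
      | (rw [commutatorElement_self]; exact one_mem _)
      | assumption
      | exact hsw _ _ (by assumption)
  rw [_root_.commutator_def, Subgroup.commutator_le]
  exact fun x _ y _ => key x (fun g hg' => hsw _ _ (hg g hg' x)) y

end ClassTwo

/-- An element enlarging a proper subgroup at least doubles it. -/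
theorem exists_double {Q : Type u} [Group Q] [Finite Q] (H : Subgroup Q) :
    ∃ x : Q, H = ⊤ ∨ 2 * Nat.card H ≤ Nat.card (H ⊔ zpowers x : Subgroup Q) := by
  by_cases h : H = ⊤
  · exact ⟨1, Or.inl h⟩
  obtain ⟨x, -, hx⟩ := SetLike.exists_of_lt (lt_top_iff_ne_top.2 h)
  refine ⟨x, Or.inr ?_⟩
  have hlt : H < H ⊔ zpowers x := lt_of_le_not_ge le_sup_left fun hle => hx (hle (mem_sup_right (mem_zpowers x)))
  obtain ⟨k, hk⟩ := Subgroup.card_dvd_of_le hlt.le
  have h1 : k ≠ 1 := fun e => hlt.ne (eq_of_le_of_card_ge hlt.le (by rw [hk, e, mul_one]))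
  have h0 : k ≠ 0 := fun e => Nat.card_pos.ne' (hk.trans (by rw [e, mul_zero]))
  rw [hk, mul_comm]
  exact Nat.mul_le_mul_left _ (by omega)

theorem card_sup_le_mul {Q : Type u} [Group Q] [Finite Q] {H K : Subgroup Q} (hK : H ≤ normalizer (K : Set Q)) :
    Nat.card (H ⊔ K : Subgroup Q) ≤ Nat.card H * Nat.card K := by
  rw [← SetLike.coe_sort_coe, coe_mul_of_left_le_normalizer_right H K hK, ← SetLike.coe_sort_coe,
    ← SetLike.coe_sort_coe, Nat.card_coe_set_eq, Nat.card_coe_set_eq, Nat.card_coe_set_eq]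
  exact Set.natCard_mul_le

/-- A two-element `c` of the centre of a perfect group lies in the derived group of a Sylow 2-subgroup. -/
theorem mem_commutator_sylow {J : Type u} [Group J] [Finite J] (hperf : ⁅(⊤ : Subgroup J), (⊤ : Subgroup J)⁆ = ⊤)
    {z : J} (hz : z ∈ Subgroup.center J) (P : Sylow 2 J) (hzP : z ∈ (P : Subgroup J)) :
    (⟨z, hzP⟩ : (P : Subgroup J)) ∈ commutator (P : Subgroup J) := by
  let f : (P : Subgroup J) →* Abelianization (P : Subgroup J) := Abelianization.of
  have htriv : MonoidHom.transfer f z = 1 := by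
    have h1 : ((⊤ : Subgroup J).map (MonoidHom.transfer f)) = ⊥ := by
      rw [← hperf, Subgroup.map_commutator, commutator_eq_bot_iff_le_centralizer]
      exact fun x _ => mem_centralizer_iff.2 fun y _ => mul_comm y x
    exact (Subgroup.eq_bot_iff_forall _).1 h1 _ ⟨z, mem_top z, rfl⟩
  rw [MonoidHom.transfer_eq_pow f z fun k g _ => by
    rw [mul_assoc, ← Subgroup.mem_center_iff.1 (pow_mem hz k) g, inv_mul_cancel_left]] at htriv
  have h2 : (⟨z, hzP⟩ : (P : Subgroup J)) ^ (P : Subgroup J).index ∈ commutator (P : Subgroup J) := by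
    rw [← Abelianization.ker_of, MonoidHom.mem_ker]
    exact htriv
  obtain ⟨k, hk⟩ := P.2 ⟨z, hzP⟩
  have hco : (P : Subgroup J).index.Coprime (orderOf (⟨z, hzP⟩ : (P : Subgroup J))) :=
    (((Nat.prime_two.coprime_iff_not_dvd.2 P.not_dvd_index).symm).pow_right k).coprime_dvd_right
      (orderOf_dvd_of_pow_eq_one hk)
  obtain ⟨m, hm⟩ := exists_pow_eq_self_of_coprime hco
  rw [← hm]
  exact pow_mem h2 m

/-- In a cover the commutators lie in a cyclic group, when the preimage of the centre of `P̄` is central in `P`. -/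
theorem cover_cyc {J : Type u} [Group J] [Finite J] (hperf : ⁅(⊤ : Subgroup J), (⊤ : Subgroup J)⁆ = ⊤)
    {Z : Subgroup J} [Z.Normal] (hZc : Z ≤ Subgroup.center J) (hZ2 : IsPGroup 2 Z) (hZ : Z ≠ ⊥)
    [IsSimpleGroup (J ⧸ Z)] (hna : ¬ IsMulCommutative (J ⧸ Z)) {H : Subgroup (J ⧸ Z)}
    (hH : Cfsg.IsStronglyEmbedded H) (P : Sylow 2 J) (P' : Sylow 2 (J ⧸ Z))
    (hP' : (P' : Subgroup (J ⧸ Z)) = (P : Subgroup J).map (QuotientGroup.mk' Z))
    (hcen : Nat.card (P' : Subgroup (J ⧸ Z)) = 64 → ∀ y : (P : Subgroup J),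
      (⟨QuotientGroup.mk' Z y, hP' ▸ mem_map_of_mem _ y.2⟩ : (P' : Subgroup (J ⧸ Z))) ∈
        Subgroup.center (P' : Subgroup (J ⧸ Z)) → y ∈ Subgroup.center (P : Subgroup J)) :
    CycDerived (P : Subgroup J) := by
  let f : (P : Subgroup J) →* (P' : Subgroup (J ⧸ Z)) :=
    { toFun := fun y => ⟨QuotientGroup.mk' Z y, hP' ▸ mem_map_of_mem _ y.2⟩
      map_one' := Subtype.ext (by simp)
      map_mul' := fun a b => Subtype.ext (by simp) }
  have hfs : Function.Surjective f := fun y => by
    obtain ⟨x, hx, e⟩ : (y : J ⧸ Z) ∈ (P : Subgroup J).map (QuotientGroup.mk' Z) := hP' ▸ y.2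
    exact ⟨⟨x, hx⟩, Subtype.ext e⟩
  have hfker : f.ker ≤ Subgroup.center (P : Subgroup J) := fun y hy => by
    have h1 : (y : J) ∈ Z := by
      rw [← QuotientGroup.ker_mk' Z]; exact congrArg Subtype.val (MonoidHom.mem_ker.1 hy)
    exact Subgroup.mem_center_iff.2 fun x => Subtype.ext (Subgroup.mem_center_iff.1 (hZc h1) (x : J))
  have gen2 : (∀ x y : (P : Subgroup J), ⁅x, y⁆ ∈ Subgroup.center (P : Subgroup J)) →
      ∀ a b : (P : Subgroup J), closure ({a, b, 1} : Set (P : Subgroup J)) ⊔ Subgroup.center (P : Subgroup J) = ⊤ →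
      CycDerived (P : Subgroup J) := by
    intro hc a b hgen
    have h1 := commutator_le_three hc hgen (W := zpowers ⁅a, b⁆) (mem_zpowers _)
      (by rw [commutatorElement_one_right]; exact one_mem _) (by rw [commutatorElement_one_right]; exact one_mem _)
    refine ⟨(⁅a, b⁆ : (P : Subgroup J)), SetLike.coe_mem _, fun x hx y hy => ?_⟩
    have h2 : ⁅(⟨x, hx⟩ : (P : Subgroup J)), ⟨y, hy⟩⁆ ∈ zpowers ⁅a, b⁆ :=
      h1 (by rw [_root_.commutator_def]; exact commutator_mem_commutator (mem_top _) (mem_top _))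
    obtain ⟨i, hi⟩ := h2
    exact ⟨i, congrArg Subtype.val hi⟩
  -- generators modulo the centre
  have lift : ∀ T : Finset (P : Subgroup J),
      closure ((QuotientGroup.mk' (Subgroup.center (P : Subgroup J))) '' (T : Set (P : Subgroup J))) = ⊤ →
      closure (T : Set (P : Subgroup J)) ⊔ Subgroup.center (P : Subgroup J) = ⊤ := fun T h => by
    rw [← MonoidHom.map_closure] at h
    rw [← QuotientGroup.ker_mk' (Subgroup.center (P : Subgroup J)), ← comap_map_eq, h, comap_top]
  rcases cover_cases hperf hZc hZ2 hZ hna hH P' with ⟨h4, hab⟩ | ⟨h64, hZP, h8, -⟩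
  · have hc : ∀ x y : (P : Subgroup J), ⁅x, y⁆ ∈ Subgroup.center (P : Subgroup J) := fun x y => hfker (by
      haveI := hab
      rw [MonoidHom.mem_ker, map_commutatorElement, commutatorElement_eq_one_iff_commute]
      exact IsMulCommutative.is_comm.comm _ _)
    obtain ⟨a', ha⟩ := exists_double (⊥ : Subgroup (P' : Subgroup (J ⧸ Z)))
    obtain ⟨b', hb⟩ := exists_double (⊥ ⊔ zpowers a' : Subgroup (P' : Subgroup (J ⧸ Z)))
    have htop : (⊥ ⊔ zpowers a' ⊔ zpowers b' : Subgroup (P' : Subgroup (J ⧸ Z))) = ⊤ := by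
      rcases ha with ha | ha
      · exact top_le_iff.1 (ha.ge.trans (le_sup_left.trans le_sup_left))
      rcases hb with hb | hb
      · exact top_le_iff.1 (hb.ge.trans le_sup_left)
      rw [Subgroup.card_bot] at ha
      refine eq_top_of_le_card _ ?_
      rw [h4]
      omega
    obtain ⟨a, rfl⟩ := hfs a'
    obtain ⟨b, rfl⟩ := hfs b'
    refine gen2 hc a b (top_le_iff.1 ?_)
    have h1 : closure ({a, b, 1} : Set (P : Subgroup J)) ⊔ f.ker = ⊤ := by
      rw [← comap_map_eq, MonoidHom.map_closure, eq_top_iff]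
      refine le_trans ?_ (comap_mono (htop.symm.le.trans (sup_le (sup_le bot_le ?_) ?_)))
      · exact le_of_eq (comap_top _).symm
      · exact zpowers_le.2 (Subgroup.subset_closure ⟨a, Or.inl rfl, rfl⟩)
      · exact zpowers_le.2 (Subgroup.subset_closure ⟨b, Or.inr (Or.inl rfl), rfl⟩)
    rw [← h1]
    exact sup_le_sup_left hfker _
  have hpre : (Subgroup.center (P' : Subgroup (J ⧸ Z))).comap f ≤ Subgroup.center (P : Subgroup J) :=
    fun y hy => hcen h64 y hy
  have hcc : ∀ x y : (P : Subgroup J), ⁅x, y⁆ ∈ Subgroup.center (P : Subgroup J) := fun x y => hpre (by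
    rw [Subgroup.mem_comap, map_commutatorElement, hZP, _root_.commutator_def]
    exact commutator_mem_commutator (mem_top _) (mem_top _))
  set q := QuotientGroup.mk' (Subgroup.center (P : Subgroup J)) with hq
  have hQ8 : Nat.card ((P : Subgroup J) ⧸ Subgroup.center (P : Subgroup J)) ≤ 8 := by
    rw [← Subgroup.index_eq_card]
    have h1 := Nat.le_of_dvd (Nat.pos_of_ne_zero Subgroup.index_ne_zero_of_finite) (Subgroup.index_dvd_of_le hpre)
    rw [Subgroup.index_comap_of_surjective _ hfs] at h1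
    have h2 := Subgroup.card_mul_index (Subgroup.center (P' : Subgroup (J ⧸ Z)))
    rw [h8, h64] at h2
    omega
  have himg : ∀ a b c : (P : Subgroup J),
      closure ({q a, q b, q c} : Set _) = ⊤ → closure ({a, b, c} : Set (P : Subgroup J)) ⊔ Subgroup.center _ = ⊤ := by
    classical
    intro a b c h
    have h1 := lift {a, b, c} (by rwa [Finset.coe_insert, Finset.coe_insert, Finset.coe_singleton, Set.image_insert_eq,
      Set.image_insert_eq, Set.image_singleton])
    simpa using h1
  by_cases hsq : ∀ y : (P : Subgroup J), q y * q y = 1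
  swap
  · push Not at hsq
    obtain ⟨a, ha⟩ := hsq
    obtain ⟨b', hb⟩ := exists_double (zpowers (q a))
    obtain ⟨b, rfl⟩ := QuotientGroup.mk'_surjective (Subgroup.center (P : Subgroup J)) b'
    have h4 : 4 ≤ Nat.card (zpowers (q a)) := by
      have hp : IsPGroup 2 ((P : Subgroup J) ⧸ Subgroup.center (P : Subgroup J)) := P.2.to_quotient _
      obtain ⟨k, hk⟩ := IsPGroup.iff_orderOf.1 hp (q a)
      rw [Nat.card_zpowers, hk]
      rcases k with _ | _ | k
      · exact absurd (by rw [orderOf_eq_one_iff.1 (hk.trans (pow_zero 2)), one_mul]) ha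
      · have h1 := pow_orderOf_eq_one (q a)
        rw [hk, zero_add, pow_one, pow_two] at h1
        exact absurd h1 ha
      · exact Nat.le_of_eq (by norm_num : 4 = 2 ^ 2) |>.trans (Nat.pow_le_pow_right two_pos (by omega))
    refine gen2 hcc a b (himg a b 1 (top_le_iff.1 ?_))
    have htop : zpowers (q a) ⊔ zpowers (q b) = ⊤ := by
      rcases hb with hb | hb
      · exact top_le_iff.1 (hb.ge.trans le_sup_left)
      · exact eq_top_of_le_card _ (le_trans hQ8 (le_trans (by omega) hb))
    rw [← htop]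
    exact sup_le (zpowers_le.2 (Subgroup.subset_closure (Or.inl rfl)))
      (zpowers_le.2 (Subgroup.subset_closure (Or.inr (Or.inl rfl))))
  exfalso
  obtain ⟨a', ha⟩ := exists_double (⊥ : Subgroup ((P : Subgroup J) ⧸ Subgroup.center (P : Subgroup J)))
  obtain ⟨b', hb⟩ := exists_double (⊥ ⊔ zpowers a')
  obtain ⟨c', hc'⟩ := exists_double (⊥ ⊔ zpowers a' ⊔ zpowers b')
  have htop : ⊥ ⊔ zpowers a' ⊔ zpowers b' ⊔ zpowers c' = ⊤ := by
    rcases ha with ha | ha
    · exact top_le_iff.1 (ha.ge.trans (le_sup_left.trans (le_sup_left.trans le_sup_left)))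
    rcases hb with hb | hb
    · exact top_le_iff.1 (hb.ge.trans (le_sup_left.trans le_sup_left))
    rcases hc' with hc' | hc'
    · exact top_le_iff.1 (hc'.ge.trans le_sup_left)
    rw [Subgroup.card_bot] at ha
    exact eq_top_of_le_card _ (le_trans hQ8 (by omega))
  obtain ⟨a, rfl⟩ := QuotientGroup.mk'_surjective (Subgroup.center (P : Subgroup J)) a'
  obtain ⟨b, rfl⟩ := QuotientGroup.mk'_surjective (Subgroup.center (P : Subgroup J)) b'
  obtain ⟨c, rfl⟩ := QuotientGroup.mk'_surjective (Subgroup.center (P : Subgroup J)) c'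
  have hgen := himg a b c (top_le_iff.1 (by
    rw [← htop]
    exact sup_le (sup_le (sup_le bot_le (zpowers_le.2 (Subgroup.subset_closure (Or.inl rfl))))
      (zpowers_le.2 (Subgroup.subset_closure (Or.inr (Or.inl rfl)))))
      (zpowers_le.2 (Subgroup.subset_closure (Or.inr (Or.inr rfl))))))
  have hord : ∀ x y : (P : Subgroup J), Nat.card (zpowers ⁅x, y⁆) ≤ 2 := fun x y => by
    have h1 := comm_mul_right hcc x y y
    have h2 : y * y ∈ Subgroup.center (P : Subgroup J) := (QuotientGroup.eq_one_iff (y * y)).1 (hsq y)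
    rw [commutatorElement_eq_one_iff_commute.2 (Subgroup.mem_center_iff.1 h2 x : Commute x (y * y))] at h1
    rw [Nat.card_zpowers]
    exact Nat.le_of_dvd two_pos (orderOf_dvd_of_pow_eq_one (by rw [pow_two, ← h1]))
  have hnorm : ∀ (H : Subgroup (P : Subgroup J)) (x y : (P : Subgroup J)),
      H ≤ normalizer ((zpowers ⁅x, y⁆ : Subgroup (P : Subgroup J)) : Set (P : Subgroup J)) := fun H x y => by
    refine fun g _ => mem_normalizer_fintype ?_
    intro w hw
    have hwc : w ∈ Subgroup.center (P : Subgroup J) := (zpowers_le.2 (hcc x y)) hw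
    rw [Subgroup.mem_center_iff.1 hwc g, mul_inv_cancel_right]
    exact hw
  have hle := commutator_le_three hcc hgen (W := zpowers ⁅a, b⁆ ⊔ zpowers ⁅a, c⁆ ⊔ zpowers ⁅b, c⁆)
    (mem_sup_left (mem_sup_left (mem_zpowers _))) (mem_sup_left (mem_sup_right (mem_zpowers _)))
    (mem_sup_right (mem_zpowers _))
  have hW : Nat.card (commutator (P : Subgroup J)) ≤ 8 := by
    refine (Subgroup.card_le_of_le hle).trans ((card_sup_le_mul (hnorm _ b c)).trans ?_)
    refine (Nat.mul_le_mul ((card_sup_le_mul (hnorm _ a c)).trans (Nat.mul_le_mul (hord a b) (hord a c))) (hord b c))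
  let g : commutator (P : Subgroup J) →* (P' : Subgroup (J ⧸ Z)) := f.comp (commutator (P : Subgroup J)).subtype
  have hrange : g.range = commutator (P' : Subgroup (J ⧸ Z)) := by
    rw [show g.range = (commutator (P : Subgroup J)).map f by
      rw [MonoidHom.range_comp, Subgroup.range_subtype], map_commutator_eq, MonoidHom.range_eq_top.2 hfs,
      _root_.commutator_def]
  obtain ⟨z, hzne⟩ := Subgroup.ne_bot_iff_exists_ne_one.1 hZ
  have hzP : (z : J) ∈ (P : Subgroup J) := hZ2.le_sylow_of_normal P z.2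
  have hker : 2 ≤ Nat.card g.ker := by
    have hne : g.ker ≠ ⊥ := fun e => hzne (Subtype.ext (by
      have h1 : (⟨_, mem_commutator_sylow hperf (hZc z.2) P hzP⟩ : commutator (P : Subgroup J)) ∈ g.ker :=
        Subtype.ext ((QuotientGroup.eq_one_iff (z : J)).2 z.2)
      rw [e, Subgroup.mem_bot] at h1
      exact congrArg (fun w => ((Subtype.val w : (P : Subgroup J)) : J)) h1))
    exact (Subgroup.one_lt_card_iff_ne_bot _).2 hne
  have h16 : Nat.card (commutator (P : Subgroup J)) = Nat.card g.range * Nat.card g.ker := by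
    rw [Subgroup.card_eq_card_quotient_mul_card_subgroup g.ker,
      Nat.card_congr (QuotientGroup.quotientKerEquivRange g).toEquiv]
  rw [hrange, ← hZP, h8] at h16
  omega

end Cfsg.Agent.CI
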