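import Cfsg.Agent.Lib.CI.Simple
import Cfsg.Agent.Lib.CI.Cover
import Cfsg.Agent.Lib.Fusion.StronglyEmbeddedPairs

/-!
# Simple groups: the covers among the components

A component with non-trivial centre is the only component: a second one would be simple, so its Sylow 2-subgroups, and
with them `S`, would have central commutators.
-/

set_option autoImplicit false
set_option linter.style.haveILetI false
set_option linter.unusedSectionVars false
set_option linter.dupNamespace false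

namespace Cfsg.Agent.CI

open Subgroup Cfsg.Agent
open scoped commutatorElement

universe u

variable {G : Type u} [Group G] [Finite G] {S : Sylow 2 G}

/-- The involutions of `S'` central in `S`. -/
def InU (S : Sylow 2 G) (z : G) : Prop := z ∈ ⁅(S : Subgroup G), (S : Subgroup G)⁆ ∧ Inv S z

/-- A 2-element normalising a Sylow 2-subgroup lies in it. -/
theorem mem_sylow_of_norm {T : Sylow 2 G} {x : G} {k : ℕ} (hk : x ^ 2 ^ k = 1)
    (hx : x ∈ normalizer ((T : Subgroup G) : Set G)) : x ∈ (T : Subgroup G) := by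
  obtain ⟨i, -, hi⟩ := (Nat.dvd_prime_pow Nat.prime_two).1 (orderOf_dvd_of_pow_eq_one hk)
  have hp := T.2.to_sup_of_normal_left' (IsPGroup.iff_card.2 ⟨i, by rw [Nat.card_zpowers, hi]⟩ :
    IsPGroup 2 (zpowers x)) (zpowers_le.2 hx)
  rw [← sylow_eq_of_le hp le_sup_left]
  exact mem_sup_right (mem_zpowers x)

theorem exists_pow_two (S : Sylow 2 G) {x : G} (hx : x ∈ (S : Subgroup G)) : ∃ k : ℕ, x ^ 2 ^ k = 1 := by
  obtain ⟨k, hk⟩ := S.2 ⟨x, hx⟩
  exact ⟨k, congrArg Subtype.val hk⟩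

namespace Bad

variable {e : G} {J : Subgroup G} (b : Bad S e J)
include b

theorem cen (h : CI G) {u : G} (hu : u ∈ (S : Subgroup G)) (huJ : u ∈ centralizer (J : Set G)) : Cen S u :=
  by_contra fun hn => b.not_norm (le_trans (fun j hj => mem_centralizer_singleton_iff.2
    (mem_centralizer_iff.1 huJ j hj)) (h.cent_le_norm hu hn))

theorem exists_P : ∃ P : Sylow 2 J, ∀ y : J, y ∈ (P : Subgroup J) ↔ (y : G) ∈ (S : Subgroup G) := by
  obtain ⟨P, hPe⟩ := b.syl.exists_sylow_subgroupOf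
  exact ⟨P, fun y => by rw [hPe, mem_subgroupOf]; exact ⟨fun h => h.1, fun h => ⟨h, y.2⟩⟩⟩

theorem perfect_top : ⁅(⊤ : Subgroup J), (⊤ : Subgroup J)⁆ = ⊤ := by
  refine Subgroup.map_injective J.subtype_injective ?_
  rw [Subgroup.map_commutator, ← MonoidHom.range_eq_map, Subgroup.range_subtype, b.perfect]

/-- Modulo the central factor commutators come from `S ∩ J`. -/
theorem comm_eq (h : CI G) {x y : G} (hx : x ∈ (S : Subgroup G)) (hy : y ∈ (S : Subgroup G)) :
    ∃ p ∈ (S : Subgroup G) ⊓ J, ∃ q ∈ (S : Subgroup G) ⊓ J, ⁅x, y⁆ = ⁅p, q⁆ := by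
  obtain ⟨p, hp, hpx⟩ := b.split x hx
  obtain ⟨q, hq, hqy⟩ := b.split y hy
  obtain ⟨α, hα, hαS⟩ : ∃ α, Cen S α ∧ α ∈ (S : Subgroup G) ∧ x = p⁻¹ * α :=
    ⟨_, b.cen h hpx.1 hpx.2, hpx.1, by group⟩
  obtain ⟨β, hβ, hβS⟩ : ∃ β, Cen S β ∧ β ∈ (S : Subgroup G) ∧ y = q⁻¹ * β :=
    ⟨_, b.cen h hqy.1 hqy.2, hqy.1, by group⟩
  refine ⟨p⁻¹, inv_mem hp, q⁻¹, inv_mem hq, ?_⟩
  obtain ⟨-, rfl⟩ := hαS
  obtain ⟨-, rfl⟩ := hβS
  have h1 : Commute α (q⁻¹ * β) := (hα _ hy).symm
  have h2 : Commute β p⁻¹ := (hβ _ (inv_mem hp.1)).symm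
  calc ⁅p⁻¹ * α, q⁻¹ * β⁆
      = p⁻¹ * (α * (q⁻¹ * β) * α⁻¹) * p * (q⁻¹ * β)⁻¹ := by rw [commutatorElement_def]; group
    _ = p⁻¹ * q⁻¹ * (β * p⁻¹⁻¹) * β⁻¹ * q := by rw [h1.eq, mul_inv_cancel_right]; group
    _ = p⁻¹ * q⁻¹ * (p⁻¹⁻¹ * β) * β⁻¹ * q := by rw [h2.inv_right.eq]
    _ = ⁅p⁻¹, q⁻¹⁆ := by rw [commutatorElement_def]; group

theorem derived_le (h : CI G) : ⁅(S : Subgroup G), (S : Subgroup G)⁆ ≤ (S : Subgroup G) ⊓ J :=
  commutator_le.2 fun x hx y hy => by
    obtain ⟨p, hp, q, hq, e⟩ := b.comm_eq h hx hy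
    rw [e, commutatorElement_def]
    exact mul_mem (mul_mem (mul_mem hp hq) (inv_mem hp)) (inv_mem hq)

/-- The component inside the centraliser of `f` is the component there. -/
theorem eq_of_le (h : CI G) {f : G} {J' : Subgroup G} (b' : Bad S f J') (hle : J ≤ centralizer ({f} : Set G)) :
    J = J' := by
  have hJJ : J ≤ J' := b'.perfect_le J hle b.perfect
  refine le_antisymm hJJ (b.perfect_le J' ?_ b'.perfect)
  obtain ⟨x, hx, hxn⟩ := b.nc
  obtain ⟨k, hk, hkn⟩ : ∃ k ∈ J, k ∉ normalizer ((S : Subgroup G) : Set G) := SetLike.not_le_iff_exists.1 b.not_norm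
  set y := k * x * k⁻¹ with hy
  have hyJ : y ∈ J := mul_mem (mul_mem hk hx.2) (inv_mem hk)
  have hyS : y ∉ (S : Subgroup G) := fun hyS => hkn (h.mem_norm hx.1 hxn hyS)
  have hyT : y ∈ ((k • S : Sylow 2 G) : Subgroup G) := sylow_mem_smul.2 (by
    rw [hy, show k⁻¹ * (k * x * k⁻¹) * k = x by group]; exact hx.1)
  have hyn : ¬ Cen (k • S) y := fun hc => hxn fun s hs => by
    have h1 := (hc (k * s * k⁻¹) (sylow_mem_smul.2 (by rwa [show k⁻¹ * (k * s * k⁻¹) * k = s by group]))).map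
      (MulAut.conj k⁻¹).toMonoidHom
    simpa [hy, mul_assoc] using h1
  obtain ⟨i, hi⟩ := exists_pow_two _ hyT
  obtain ⟨R, hR, hyR⟩ := Fusion.exists_sylIn_ge (p := 2) (Q := zpowers y) (H := J')
    ((k • S).2.to_le (zpowers_le.2 hyT)) (zpowers_le.2 (hJJ hyJ))
  obtain ⟨T', hT'⟩ := hR.isPGroup.exists_le_sylow
  have hTT : T' = k • S := by
    by_contra hne
    exact hyn (h (k • S) T' (fun e => hne e.symm) y hyT (hT' (hyR (mem_zpowers y))))
  rw [hTT] at hT'
  have heT : e ∈ ((k • S : Sylow 2 G) : Subgroup G) :=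
    mem_sylow_of_norm (k := 1) (by rw [pow_one, ← b.inv.2.1, pow_orderOf_eq_one])
      (h.cent_le_norm hyT hyn (mem_centralizer_singleton_iff.2
        (mem_centralizer_singleton_iff.1 (b.le hyJ)).symm))
  have hne : S ≠ k • S := fun eq => hyS (eq ▸ hyT)
  obtain ⟨P, hP⟩ := b'.exists_P
  obtain ⟨Q, hQ⟩ := hR.exists_sylow_subgroupOf
  have hQP : Q ≠ P := fun eq => hyS ((hP ⟨y, hJJ hyJ⟩).1 (by
    rw [← eq, hQ, mem_subgroupOf]
    exact hyR (mem_zpowers y)))
  have hsup : (P : Subgroup J') ⊔ (Q : Subgroup J') ≤ (centralizer ({e} : Set G)).comap J'.subtype := sup_le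
    (fun p hp => mem_centralizer_singleton_iff.2 (b.inv.2.2 _ ((hP p).1 hp)).eq)
    (fun q hq => mem_centralizer_singleton_iff.2 (h (k • S) S hne.symm e heT b.inv.1 _
      (hT' (by rw [hQ, mem_subgroupOf] at hq; exact hq))).eq)
  rw [b'.tt.sup_eq_top b'.perfect_top hQP] at hsup
  exact fun j hj => hsup (mem_top ⟨j, hj⟩)

end Bad

namespace Ctx

variable (c : Ctx S)
include c

theorem norm_ne_top : normalizer ((S : Subgroup G) : Set G) ≠ ⊤ := fun h => by
  haveI := c.simple
  rcases (normalizer_eq_top_iff.1 h).eq_bot_or_eq_top with e | e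
  · exact c.sylow_ne_bot e
  · haveI : Group.IsNilpotent G := (IsPGroup.iff_card.2 (by
      obtain ⟨k, hk⟩ := IsPGroup.iff_card.1 S.2
      rw [e, Subgroup.card_top] at hk
      exact ⟨k, hk⟩) : IsPGroup 2 G).isNilpotent
    exact c.nonab ⟨⟨IsSimpleGroup.comm_iff_isSolvable.2 inferInstance⟩⟩

theorem share {e f u : G} {J J' : Subgroup G} (b : Bad S e J) (b' : Bad S f J') (hu : u ∈ (S : Subgroup G))
    (hu2 : orderOf u = 2) (h1 : u ∈ centralizer (J : Set G)) (h2 : u ∈ centralizer (J' : Set G)) : J = J' := by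
  have hle : ∀ {K : Subgroup G}, u ∈ centralizer (K : Set G) → K ≤ centralizer ({u} : Set G) := fun h k hk =>
    mem_centralizer_singleton_iff.2 (mem_centralizer_iff.1 h k hk)
  obtain ⟨L, bu⟩ := c.exists_bad ⟨hu, hu2, b.cen c.ci hu h1⟩ fun h => b.not_norm ((hle h1).trans h)
  rw [b.eq_of_le c.ci bu (hle h1), b'.eq_of_le c.ci bu (hle h2)]

/-- Two bad involutions with different components. -/
theorem exists_two : ∃ e J f J', Bad S e J ∧ Bad S f J' ∧ J ≠ J' := by
  haveI := c.simple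
  by_contra hc
  push Not at hc
  by_cases h0 : ∃ e J, Bad S e J
  · obtain ⟨e, J, b⟩ := h0
    have hN : normalizer ((S : Subgroup G) : Set G) ≤ normalizer (J : Set G) := by
      intro n hn
      have he' : n * e * n⁻¹ ∈ (S : Subgroup G) := (mem_normalizer_iff.1 hn e).1 b.inv.1
      have hle : Fusion.cj J n ≤ centralizer ({n * e * n⁻¹} : Set G) := by
        rintro _ ⟨j, hj, rfl⟩
        have h1 : Commute j e := mem_centralizer_singleton_iff.1 (b.le hj)
        exact mem_centralizer_singleton_iff.2 (h1.map (MulAut.conj n).toMonoidHom).eq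
      obtain ⟨L, bL⟩ := c.exists_bad ⟨he', by
        rw [← b.inv.2.1]; exact orderOf_injective (MulAut.conj n).toMonoidHom (MulAut.conj n).injective e,
        c.ci.cen_conj b.inv.1 b.inv.2.2 he'⟩ fun h => b.not_norm fun j hj => by
          have h1 := h (hle ⟨j, hj, rfl⟩)
          have h2 := mul_mem (mul_mem (inv_mem hn) h1) hn
          rwa [show n⁻¹ * (MulAut.conj n).toMonoidHom j * n = j by simp [mul_assoc]] at h2
      refine Fusion.mem_normalizer_of_cj_le ?_
      have h3 := bL.perfect_le _ hle (by rw [← Fusion.cj_commutator, b.perfect])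
      rwa [← hc e J _ L b bL] at h3
    refine c.se_of (M := normalizer (J : Set G)) (fun htop => ?_) hN (fun f hf => ?_)
    · rcases (normalizer_eq_top_iff.1 htop).eq_bot_or_eq_top with h | h
      · exact b.not_norm (h ▸ bot_le)
      · exact c.cent_ne_top b.inv.2.1 (top_le_iff.1 (h ▸ b.le))
    · by_cases hg : centralizer ({f} : Set G) ≤ normalizer ((S : Subgroup G) : Set G)
      · exact hg.trans hN
      · obtain ⟨L, bL⟩ := c.exists_bad hf hg
        rw [hc e J f L b bL]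
        exact bL.norm
  · push Not at h0
    refine c.se_of c.norm_ne_top le_rfl fun f hf => ?_
    by_contra hg
    obtain ⟨L, bL⟩ := c.exists_bad hf hg
    exact h0 f L bL

theorem exists_U : ∃ z, InU S z := by
  have hne : commutator (S : Subgroup G) ≠ ⊥ := fun e => c.sab ⟨⟨fun x y => by
    have h1 : ⁅x, y⁆ ∈ commutator (S : Subgroup G) := by
      rw [_root_.commutator_def]; exact commutator_mem_commutator (mem_top _) (mem_top _)
    rw [e, mem_bot] at h1
    exact commutatorElement_eq_one_iff_commute.1 h1⟩⟩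
  obtain ⟨z0, hz0⟩ := Subgroup.ne_bot_iff_exists_ne_one.1 (Small.normal_meets_center S.2 inferInstance hne)
  obtain ⟨k, hk⟩ := IsPGroup.iff_card.1 (S.2.to_subgroup (commutator (S : Subgroup G) ⊓ Subgroup.center (S : Subgroup G)))
  obtain ⟨z, hz⟩ := exists_prime_orderOf_dvd_card' (G := ↥(commutator (S : Subgroup G) ⊓ Subgroup.center (S : Subgroup G)))
    2 (hk ▸ dvd_pow_self 2 fun e => hz0 (by
      rw [e, pow_zero] at hk
      exact Subtype.ext ((Subgroup.eq_bot_iff_forall _).1 (Subgroup.card_eq_one.1 hk) _ z0.2)))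
  rw [← Subgroup.orderOf_coe, ← Subgroup.orderOf_coe] at hz
  refine ⟨(z : (S : Subgroup G)), ?_, SetLike.coe_mem _, hz, fun s hs => ?_⟩
  · have h1 : ((z : (S : Subgroup G)) : G) ∈ (commutator (S : Subgroup G)).map (S : Subgroup G).subtype :=
      mem_map_of_mem (S : Subgroup G).subtype z.2.1
    have key : (commutator (S : Subgroup G)).map (S : Subgroup G).subtype = ⁅(S : Subgroup G), (S : Subgroup G)⁆ := by
      rw [_root_.commutator_def, Subgroup.map_commutator, ← MonoidHom.range_eq_map, Subgroup.range_subtype]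
    rwa [key] at h1
  · exact congrArg Subtype.val (Subgroup.mem_center_iff.1 z.2.2 ⟨s, hs⟩)

/-- A cover with central preimage of the centre is impossible. -/
theorem cover_false {e : G} {J : Subgroup G} (b : Bad S e J) (hZ : Subgroup.center J ≠ ⊥)
    (hcen : ∀ P : Sylow 2 J, (∀ y : J, y ∈ (P : Subgroup J) ↔ (y : G) ∈ (S : Subgroup G)) →
      ∀ (P' : Sylow 2 (J ⧸ Subgroup.center J))
        (hP' : (P' : Subgroup _) = (P : Subgroup J).map (QuotientGroup.mk' (Subgroup.center J))),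
      Nat.card (P' : Subgroup (J ⧸ Subgroup.center J)) = 64 → ∀ y : (P : Subgroup J),
        (⟨QuotientGroup.mk' _ y, hP' ▸ mem_map_of_mem _ y.2⟩ : (P' : Subgroup (J ⧸ Subgroup.center J))) ∈
          Subgroup.center (P' : Subgroup (J ⧸ Subgroup.center J)) → Cen S ((y : J) : G)) : False := by
  haveI := b.qs.2
  obtain ⟨H, hH⟩ := b.se
  obtain ⟨P, hP⟩ := b.exists_P
  set P' := Sylow.mapSurjective (QuotientGroup.mk'_surjective (Subgroup.center J)) P with hP'
  obtain ⟨d, hd, hall⟩ := cover_cyc b.perfect_top le_rfl b.center_two hZ (quotient_center_nonab b.qs) hH P P'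
    (Sylow.coe_mapSurjective _ P) fun h64 y hy => Subgroup.mem_center_iff.2 fun x => Subtype.ext (Subtype.ext
      ((hcen P hP P' (Sylow.coe_mapSurjective _ P) h64 y hy) _ ((hP x).1 x.2)).eq)
  refine c.not_cyc ⟨d, (hP d).1 hd, fun x hx y hy => ?_⟩
  obtain ⟨p, hp, q, hq, e⟩ := b.comm_eq c.ci hx hy
  obtain ⟨i, hi⟩ := hall ⟨p, hp.2⟩ ((hP _).2 hp.1) ⟨q, hq.2⟩ ((hP _).2 hq.1)
  exact ⟨i, by rw [e]; simpa [commutatorElement_def] using congrArg Subtype.val hi⟩

theorem cen_center {e : G} {J : Subgroup G} (b : Bad S e J) {z : J} (hz : z ∈ Subgroup.center J)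
    (hzS : (z : G) ∈ (S : Subgroup G)) : Cen S (z : G) :=
  b.cen c.ci hzS (mem_centralizer_iff.2 fun j hj => congrArg Subtype.val (Subgroup.mem_center_iff.1 hz ⟨j, hj⟩))

/-- In a cover `U` centralises the component. -/
theorem U_le_cent {e : G} {J : Subgroup G} (b : Bad S e J) (hZ : Subgroup.center J ≠ ⊥) {u : G} (hu : InU S u) :
    u ∈ centralizer (J : Set G) := by
  by_contra hn
  refine c.cover_false b hZ fun P hP P' hP' h64 y hy => ?_
  haveI := b.qs.2
  obtain ⟨H, hH⟩ := b.se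
  set π := QuotientGroup.mk' (Subgroup.center J) with hπ
  rcases cover_cases b.perfect_top le_rfl b.center_two hZ (quotient_center_nonab b.qs) hH P' with ⟨h4, -⟩ |
    ⟨-, -, -, hsq⟩
  · omega
  have huJ : u ∈ J := (b.derived_le c.ci hu.1).2
  have hy2 : π y * π y = 1 := congrArg Subtype.val (hsq _ hy)
  have hu1 : π ⟨u, huJ⟩ ≠ 1 := fun e1 => hn (mem_centralizer_iff.2 fun j hj =>
    congrArg Subtype.val (Subgroup.mem_center_iff.1 ((QuotientGroup.eq_one_iff _).1 e1) ⟨j, hj⟩))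
  have hu2 : orderOf (π ⟨u, huJ⟩) = 2 := orderOf_eq_prime (by
    rw [← map_pow, show (⟨u, huJ⟩ : J) ^ 2 = 1 from Subtype.ext (by
      show u ^ 2 = 1; rw [← hu.2.2.1, pow_orderOf_eq_one]), map_one]) hu1
  by_cases hy1 : π y = 1
  · exact c.cen_center b ((QuotientGroup.eq_one_iff _).1 hy1) ((hP y).1 y.2)
  obtain ⟨k', hk⟩ := isConj_iff.1 (Fusion.SEPairs.involutions_conj hH hu2 (orderOf_eq_prime (by rw [pow_two]; exact hy2) hy1))
  obtain ⟨k, rfl⟩ := QuotientGroup.mk'_surjective (Subgroup.center J) k'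
  rw [← map_inv, ← map_mul, ← map_mul] at hk
  set w : J := k * ⟨u, huJ⟩ * k⁻¹ with hw
  have hz : (y : J)⁻¹ * w ∈ Subgroup.center J := QuotientGroup.eq.1 hk.symm
  have hzS : (((y : J)⁻¹ * w : J) : G) ∈ (S : Subgroup G) := (hP _).1 (b.center_two.le_sylow_of_normal P hz)
  have hwS : (w : G) ∈ (S : Subgroup G) := by
    have h1 := mul_mem ((hP y).1 y.2) hzS
    simpa using h1
  have hwc : Cen S (w : G) := by
    have h1 : (w : G) = k * u * (k : G)⁻¹ := by simp [hw]
    rw [h1]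
    exact c.ci.cen_conj hu.2.1 hu.2.2.2 (h1 ▸ hwS)
  intro s hs
  have h2 := (hwc s hs).mul_right ((c.cen_center b hz hzS s hs).inv_right)
  simpa [mul_assoc] using h2

/-- With a cover the commutators of `S` are not central. -/
theorem derived_central_false {e : G} {J : Subgroup G} (b : Bad S e J) (hZ : Subgroup.center J ≠ ⊥)
    (hD : ∀ x ∈ ⁅(S : Subgroup G), (S : Subgroup G)⁆, Cen S x) : False := by
  refine c.cover_false b hZ fun P hP P' hP' h64 y hy => ?_
  haveI := b.qs.2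
  obtain ⟨H, hH⟩ := b.se
  rcases cover_cases b.perfect_top le_rfl b.center_two hZ (quotient_center_nonab b.qs) hH P' with ⟨h4, -⟩ |
    ⟨-, hcc, -, -⟩
  · omega
  rw [hcc] at hy
  have h1 := mem_map_of_mem (P' : Subgroup (J ⧸ Subgroup.center J)).subtype hy
  have key : (commutator (P' : Subgroup (J ⧸ Subgroup.center J))).map (P' : Subgroup (J ⧸ Subgroup.center J)).subtype =
      (⁅(P : Subgroup J), (P : Subgroup J)⁆).map (QuotientGroup.mk' (Subgroup.center J)) := by
    rw [_root_.commutator_def, Subgroup.map_commutator, ← MonoidHom.range_eq_map, Subgroup.range_subtype,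
      Subgroup.map_commutator, hP']
  rw [key] at h1
  obtain ⟨d, hd, he⟩ := h1
  have hz : d⁻¹ * (y : J) ∈ Subgroup.center J := QuotientGroup.eq.1 he
  have hdD : (d : G) ∈ ⁅(S : Subgroup G), (S : Subgroup G)⁆ := by
    have h2 : (d : G) ∈ (⁅(P : Subgroup J), (P : Subgroup J)⁆).map J.subtype := mem_map_of_mem J.subtype hd
    rw [Subgroup.map_commutator] at h2
    refine commutator_mono ?_ ?_ h2 <;>
      exact fun _ ⟨a, ha, e'⟩ => e' ▸ (hP a).1 ha
  intro s hs
  have h3 := (hD _ hdD s hs).mul_right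
    (c.cen_center b hz ((hP _).1 (b.center_two.le_sylow_of_normal P hz)) s hs)
  simpa [← mul_assoc] using h3

/-- A simple component makes the commutators of `S` central. -/
theorem derived_central {e : G} {J : Subgroup G} (b : Bad S e J) (hZ : Subgroup.center J = ⊥) :
    ∀ x ∈ ⁅(S : Subgroup G), (S : Subgroup G)⁆, Cen S x := by
  haveI := b.qs.2
  obtain ⟨H, hH⟩ := b.se
  obtain ⟨P, hP⟩ := b.exists_P
  set π := QuotientGroup.mk' (Subgroup.center J) with hπ
  set P' := Sylow.mapSurjective (QuotientGroup.mk'_surjective (Subgroup.center J)) P with hP'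
  have hm : ∀ p : J, p ∈ (P : Subgroup J) → π p ∈ (P' : Subgroup (J ⧸ Subgroup.center J)) := fun p hp => by
    rw [Sylow.coe_mapSurjective]; exact mem_map_of_mem π hp
  have hinj : ∀ a b : J, π a = π b → a = b := fun a b e1 => by
    have h1 : a⁻¹ * b ∈ Subgroup.center J := QuotientGroup.eq.1 e1
    rw [hZ, mem_bot, inv_mul_eq_one] at h1
    exact h1
  have key : ∀ p q r : J, p ∈ (P : Subgroup J) → q ∈ (P : Subgroup J) → r ∈ (P : Subgroup J) →
      Commute r ⁅p, q⁆ := fun p q r hp hq hr => by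
    have h1 := sylow_class_two (quotient_center_nonab b.qs) hH P'
      (show ⁅(⟨π p, hm p hp⟩ : (P' : Subgroup (J ⧸ Subgroup.center J))), ⟨π q, hm q hq⟩⁆ ∈
          commutator (P' : Subgroup (J ⧸ Subgroup.center J)) by
        rw [_root_.commutator_def]; exact commutator_mem_commutator (mem_top _) (mem_top _))
    refine hinj _ _ ?_
    rw [map_mul, map_mul, map_commutatorElement]
    exact congrArg Subtype.val (Subgroup.mem_center_iff.1 h1 ⟨π r, hm r hr⟩)
  suffices h1 : ⁅(S : Subgroup G), (S : Subgroup G)⁆ ≤ centralizer ((S : Subgroup G) : Set G) from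
    fun x hx s hs => mem_centralizer_iff.1 (h1 hx) s hs
  refine commutator_le.2 fun a ha b' hb' => mem_centralizer_iff.2 fun s hs => ?_
  obtain ⟨p, hp, q, hq, e1⟩ := b.comm_eq c.ci ha hb'
  obtain ⟨r, hr, hrs⟩ := b.split s hs
  have hα : Cen S (r * s) := b.cen c.ci hrs.1 hrs.2
  have hcS : ⁅p, q⁆ ∈ (S : Subgroup G) := by
    rw [commutatorElement_def]
    exact mul_mem (mul_mem (mul_mem hp.1 hq.1) (inv_mem hp.1)) (inv_mem hq.1)
  have h2 : Commute r ⁅p, q⁆ := by
    have := (key ⟨p, hp.2⟩ ⟨q, hq.2⟩ ⟨r, hr.2⟩ ((hP _).2 hp.1) ((hP _).2 hq.1) ((hP _).2 hr.1)).map J.subtype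
    simpa [commutatorElement_def] using this
  rw [e1]
  have h3 := h2.inv_left.mul_left (hα _ hcS).symm
  rwa [inv_mul_cancel_left] at h3

/-- A cover is the only component. -/
theorem cover_same {e f : G} {J J' : Subgroup G} (b : Bad S e J) (hZ : Subgroup.center J ≠ ⊥) (b' : Bad S f J') :
    J = J' := by
  obtain ⟨u, hu⟩ := c.exists_U
  by_cases hZ' : Subgroup.center J' = ⊥
  · exact (c.derived_central_false b hZ (c.derived_central b' hZ')).elim
  · exact c.share b b' hu.2.1 hu.2.2.1 (c.U_le_cent b hZ hu) (c.U_le_cent b' hZ' hu)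

end Ctx

end Cfsg.Agent.CI
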