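import Cfsg.Agent.Lib.CI.Cover
import Cfsg.Agent.S3378

/-!
# Perfect central extensions

The derived group of a central extension of a perfect group; a perfect central extension whose kernel is as large as the
multiplier is determined; the double cover of `PSL₂(4)` with Sylow 2-subgroups of order 8 is `SL(2,5)`.
-/

set_option autoImplicit false
set_option linter.style.haveILetI false
set_option linter.unusedSectionVars false
set_option linter.dupNamespace false

namespace Cfsg.Agent.CI

open Subgroup Cfsg.Agent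
open scoped commutatorElement

universe u v w

/-- The derived group of a central extension of a perfect group is perfect and covers. -/
theorem derived_cover {Γ : Type u} [Group Γ] {M : Type v} [Group M] (f : Γ →* M) (hf : Function.Surjective f)
    (hc : f.ker ≤ Subgroup.center Γ) (hM : ⁅(⊤ : Subgroup M), (⊤ : Subgroup M)⁆ = ⊤) :
    ⁅commutator Γ, commutator Γ⁆ = commutator Γ ∧ (commutator Γ).map f = ⊤ := by
  have hmap : (commutator Γ).map f = ⊤ := by
    rw [_root_.commutator_def, Subgroup.map_commutator, Subgroup.map_top_of_surjective f hf, hM]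
  refine ⟨le_antisymm (commutator_le.2 fun a ha b hb => ?_) ?_, hmap⟩
  · rw [_root_.commutator_def]
    exact commutator_mem_commutator (mem_top _) (mem_top _)
  · conv_lhs => rw [_root_.commutator_def]
    refine commutator_le.2 fun a _ b _ => ?_
    have key : ∀ x : Γ, ∃ d ∈ commutator Γ, d⁻¹ * x ∈ Subgroup.center Γ := fun x => by
      obtain ⟨d, hd, e⟩ : f x ∈ (commutator Γ).map f := hmap ▸ mem_top _
      exact ⟨d, hd, hc (by rw [MonoidHom.mem_ker, map_mul, map_inv, e, inv_mul_cancel])⟩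
    obtain ⟨d, hd, hda⟩ := key a
    obtain ⟨d', hd', hdb⟩ := key b
    have e : ⁅a, b⁆ = ⁅d, d'⁆ := by
      have h1 := Subgroup.mem_center_iff.1 hda
      have h2 := Subgroup.mem_center_iff.1 hdb
      calc ⁅a, b⁆ = d * ((d⁻¹ * a) * b) * a⁻¹ * b⁻¹ := by rw [commutatorElement_def]; group
        _ = d * (b * (d⁻¹ * a)) * a⁻¹ * b⁻¹ := by rw [h1 b]
        _ = d * d' * ((d'⁻¹ * b) * d⁻¹) * b⁻¹ := by group
        _ = d * d' * (d⁻¹ * (d'⁻¹ * b)) * b⁻¹ := by rw [h2 d⁻¹]
        _ = ⁅d, d'⁆ := by rw [commutatorElement_def]; group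
    rw [e]
    exact commutator_mem_commutator hd hd'

/-- The derived group maps onto a perfect image. -/
theorem derived_surjective {Γ : Type u} [Group Γ] {K : Type v} [Group K] (p : Γ →* K) (hp : Function.Surjective p)
    (hK : ⁅(⊤ : Subgroup K), (⊤ : Subgroup K)⁆ = ⊤) : Function.Surjective (p.comp (commutator Γ).subtype) := by
  intro k
  have h1 : (commutator Γ).map p = ⊤ := by
    rw [_root_.commutator_def, Subgroup.map_commutator, Subgroup.map_top_of_surjective p hp, hK]
  obtain ⟨d, hd, e⟩ : k ∈ (commutator Γ).map p := h1 ▸ mem_top _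
  exact ⟨⟨d, hd⟩, e⟩

/-- In a perfect group an extension of central extensions is central. -/
theorem ker_comp_central {L : Type u} [Group L] {J : Type v} [Group J] {M : Type w} [Group M]
    (hL : ⁅(⊤ : Subgroup L), (⊤ : Subgroup L)⁆ = ⊤) (f : L →* J) (hf : f.ker ≤ Subgroup.center L) (g : J →* M)
    (hg : g.ker ≤ Subgroup.center J) : (g.comp f).ker ≤ Subgroup.center L := by
  intro x hx
  have hz : ∀ a : L, a * x * a⁻¹ * x⁻¹ ∈ Subgroup.center L := fun a => hf (by
    have h1 : f x ∈ Subgroup.center J := hg hx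
    rw [MonoidHom.mem_ker, map_mul, map_mul, map_mul, map_inv, map_inv, Subgroup.mem_center_iff.1 h1 (f a),
      mul_inv_cancel_right, mul_inv_cancel])
  let δ : L →* L :=
    { toFun := fun a => a * x * a⁻¹ * x⁻¹
      map_one' := by group
      map_mul' := fun a b => by
        calc a * b * x * (a * b)⁻¹ * x⁻¹ = a * (b * x * b⁻¹ * x⁻¹) * (x * a⁻¹ * x⁻¹) := by group
          _ = (b * x * b⁻¹ * x⁻¹) * a * (x * a⁻¹ * x⁻¹) := by rw [Subgroup.mem_center_iff.1 (hz b) a]
          _ = (b * x * b⁻¹ * x⁻¹) * (a * x * a⁻¹ * x⁻¹) := by group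
          _ = (a * x * a⁻¹ * x⁻¹) * (b * x * b⁻¹ * x⁻¹) := (Subgroup.mem_center_iff.1 (hz b) _).symm }
  have hδ : (⊤ : Subgroup L).map δ = ⊥ := by
    rw [← hL, Subgroup.map_commutator, commutator_eq_bot_iff_le_centralizer]
    rintro _ ⟨a, -, rfl⟩
    refine mem_centralizer_iff.2 ?_
    rintro _ ⟨b, -, rfl⟩
    exact Subgroup.mem_center_iff.1 (hz a) _
  refine Subgroup.mem_center_iff.2 fun a => ?_
  have h1 : a * x * a⁻¹ * x⁻¹ = 1 := (Subgroup.eq_bot_iff_forall _).1 hδ _ ⟨a, mem_top a, rfl⟩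
  exact (commutatorElement_eq_one_iff_commute.1 (by rwa [commutatorElement_def])).eq

/-- Perfect central extensions with kernels of the order of the multiplier are isomorphic. -/
theorem stem_unique {M : Type} [Group M] [Finite M] {A : Type} [CommGroup A] [Finite A]
    (h : Cfsg.HasSchurMultiplier M A) {L : Type u} [Group L] [Finite L] {E : Type v} [Group E] [Finite E]
    (σ : L →* M) (τ : E →* M) (hσ : Function.Surjective σ) (hτ : Function.Surjective τ)
    (hσc : σ.ker ≤ Subgroup.center L) (hτc : τ.ker ≤ Subgroup.center E)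
    (hL : ⁅(⊤ : Subgroup L), (⊤ : Subgroup L)⁆ = ⊤) (hE : ⁅(⊤ : Subgroup E), (⊤ : Subgroup E)⁆ = ⊤)
    (hσA : Nat.card σ.ker = Nat.card A) (hτA : Nat.card τ.ker = Nat.card A) : Nonempty (L ≃* E) := by
  let Γ : Subgroup (L × E) := (σ.comp (MonoidHom.fst L E)).eqLocus (τ.comp (MonoidHom.snd L E))
  let f : Γ →* M := σ.comp ((MonoidHom.fst L E).comp Γ.subtype)
  have hp1 : Function.Surjective ((MonoidHom.fst L E).comp Γ.subtype) := fun a => by
    obtain ⟨b, hb⟩ := hτ (σ a)
    exact ⟨⟨(a, b), hb.symm⟩, rfl⟩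
  have hp2 : Function.Surjective ((MonoidHom.snd L E).comp Γ.subtype) := fun b => by
    obtain ⟨a, ha⟩ := hσ (τ b)
    exact ⟨⟨(a, b), ha⟩, rfl⟩
  have hfs : Function.Surjective f := hσ.comp hp1
  have hfc : f.ker ≤ Subgroup.center Γ := by
    rintro ⟨⟨a, b⟩, hab⟩ hx
    have h1 : σ a = 1 := hx
    have h2 : τ b = 1 := (show σ a = τ b from hab) ▸ h1
    refine Subgroup.mem_center_iff.2 fun y => Subtype.ext (Prod.ext ?_ ?_)
    · exact Subgroup.mem_center_iff.1 (hσc h1) _
    · exact Subgroup.mem_center_iff.1 (hτc h2) _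
  have hM : ⁅(⊤ : Subgroup M), (⊤ : Subgroup M)⁆ = ⊤ := by
    rw [← Subgroup.map_top_of_surjective σ hσ, ← Subgroup.map_commutator, hL]
  obtain ⟨hD, hDM⟩ := derived_cover f hfs hfc hM
  set D := commutator Γ with hDdef
  let g : D →* M := f.comp D.subtype
  have hgs : Function.Surjective g := fun m => by
    obtain ⟨d, hd, e⟩ : m ∈ D.map f := hDM ▸ mem_top _
    exact ⟨⟨d, hd⟩, e⟩
  have hperfD : ⁅(⊤ : Subgroup D), (⊤ : Subgroup D)⁆ = ⊤ := by
    refine Subgroup.map_injective D.subtype_injective ?_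
    rw [Subgroup.map_commutator, ← MonoidHom.range_eq_map, Subgroup.range_subtype, hD]
  have hdvd := ker_card_dvd h g hgs
    (fun x hx => Subgroup.mem_center_iff.2 fun y => Subtype.ext (Subgroup.mem_center_iff.1 (hfc hx) _))
    (by rw [_root_.commutator_def, hperfD]; exact le_top)
  have hcard : Nat.card D ≤ Nat.card L ∧ Nat.card D ≤ Nat.card E := by
    have hle : Nat.card g.ker ≤ Nat.card A := Nat.le_of_dvd Nat.card_pos hdvd
    have hD' : Nat.card D = Nat.card M * Nat.card g.ker := by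
      rw [Subgroup.card_eq_card_quotient_mul_card_subgroup g.ker,
        Nat.card_congr (QuotientGroup.quotientKerEquivOfSurjective g hgs).toEquiv]
    have hL' : Nat.card L = Nat.card M * Nat.card A := by
      rw [← hσA, Subgroup.card_eq_card_quotient_mul_card_subgroup σ.ker,
        Nat.card_congr (QuotientGroup.quotientKerEquivOfSurjective σ hσ).toEquiv]
    have hE' : Nat.card E = Nat.card M * Nat.card A := by
      rw [← hτA, Subgroup.card_eq_card_quotient_mul_card_subgroup τ.ker,
        Nat.card_congr (QuotientGroup.quotientKerEquivOfSurjective τ hτ).toEquiv]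
    exact ⟨by rw [hD', hL']; exact Nat.mul_le_mul_left _ hle, by rw [hD', hE']; exact Nat.mul_le_mul_left _ hle⟩
  have s1 := derived_surjective _ hp1 hL
  have s2 := derived_surjective _ hp2 hE
  have b1 := (Nat.bijective_iff_surjective_and_card _).2
    ⟨s1, le_antisymm hcard.1 (Nat.card_le_card_of_surjective _ s1)⟩
  have b2 := (Nat.bijective_iff_surjective_and_card _).2
    ⟨s2, le_antisymm hcard.2 (Nat.card_le_card_of_surjective _ s2)⟩
  exact ⟨(MulEquiv.ofBijective _ b1).symm.trans (MulEquiv.ofBijective _ b2)⟩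

/-- A perfect central extension of `PSL₂(4)` by a non-trivial 2-group is `SL(2,5)`. -/
theorem sl_two_five {J : Type u} [Group J] [Finite J] (hperf : ⁅(⊤ : Subgroup J), (⊤ : Subgroup J)⁆ = ⊤)
    {Z : Subgroup J} [Z.Normal] (hZc : Z ≤ Subgroup.center J) (hZ2 : IsPGroup 2 Z) (hZ : Z ≠ ⊥)
    [IsSimpleGroup (J ⧸ Z)] (h60 : Nat.card (J ⧸ Z) = 60) {H : Subgroup (J ⧸ Z)}
    (hH : Cfsg.IsStronglyEmbedded H) (P : Sylow 2 J) (hP : ¬ IsMulCommutative (P : Subgroup J)) :
    Nonempty (J ≃* Matrix.SpecialLinearGroup (Fin 2) (ZMod 5)) := by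
  set π := QuotientGroup.mk' Z with hπ
  have hZP : Z ≤ (P : Subgroup J) := hZ2.le_sylow_of_normal P
  set P' := Sylow.mapSurjective (QuotientGroup.mk'_surjective Z) P with hP'
  have hP4 : Nat.card (P' : Subgroup (J ⧸ Z)) = 4 := by
    rw [Sylow.card_eq_multiplicity, h60]
    decide +kernel
  let f : (P : Subgroup J) →* (P' : Subgroup (J ⧸ Z)) :=
    { toFun := fun y => ⟨π y, (Sylow.coe_mapSurjective (QuotientGroup.mk'_surjective Z) P).symm ▸ mem_map_of_mem _ y.2⟩
      map_one' := Subtype.ext (by simp)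
      map_mul' := fun a b => Subtype.ext (by simp) }
  have hfs : Function.Surjective f := fun y => by
    obtain ⟨x, hx, e⟩ : (y : J ⧸ Z) ∈ (P : Subgroup J).map π :=
      (Sylow.coe_mapSurjective (QuotientGroup.mk'_surjective Z) P) ▸ y.2
    exact ⟨⟨x, hx⟩, Subtype.ext e⟩
  have hker : ∀ y : (P : Subgroup J), f y = 1 ↔ (y : J) ∈ Z := fun y =>
    ⟨fun h => (QuotientGroup.eq_one_iff _).1 (congrArg Subtype.val h),
      fun h => Subtype.ext ((QuotientGroup.eq_one_iff _).2 h)⟩
  have hkc : ∀ y : (P : Subgroup J), (y : J) ∈ Z → y ∈ Subgroup.center (P : Subgroup J) := fun y hy =>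
    Subgroup.mem_center_iff.2 fun x => Subtype.ext (Subgroup.mem_center_iff.1 (hZc hy) x)
  haveI : Fact (Nat.Prime 2) := ⟨Nat.prime_two⟩
  haveI hab : IsMulCommutative (P' : Subgroup (J ⧸ Z)) :=
    IsPGroup.isMulCommutative_of_card_eq_prime_sq (p := 2) (by rw [hP4]; norm_num)
  have hcc : ∀ x y : (P : Subgroup J), ⁅x, y⁆ ∈ Subgroup.center (P : Subgroup J) := fun x y => hkc _ ((hker _).1 (by
    rw [map_commutatorElement, commutatorElement_eq_one_iff_commute]
    exact IsMulCommutative.is_comm.comm _ _))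
  -- `P'` is elementary, for otherwise `P` would be abelian
  have hsq : ∀ y : (P : Subgroup J), f y * f y = 1 := by
    intro a
    by_contra ha
    have h4 : Nat.card (zpowers (f a)) = 4 := by
      have hd : Nat.card (zpowers (f a)) ∣ 2 ^ 2 := by
        rw [show 2 ^ 2 = Nat.card (P' : Subgroup (J ⧸ Z)) by rw [hP4]; norm_num]
        exact Subgroup.card_subgroup_dvd_card _
      obtain ⟨i, hi, e⟩ := (Nat.dvd_prime_pow Nat.prime_two).1 hd
      rw [Nat.card_zpowers] at e ⊢
      have h1 := pow_orderOf_eq_one (f a)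
      interval_cases i
      · rw [e, pow_zero, pow_one] at h1; exact absurd (by rw [h1, one_mul]) ha
      · rw [e, pow_one, pow_two] at h1; exact absurd h1 ha
      · rw [e]; norm_num
    have htop : zpowers (f a) = ⊤ := eq_top_of_le_card _ (by rw [h4, hP4])
    refine hP ⟨⟨fun x y => ?_⟩⟩
    obtain ⟨i, hi⟩ := mem_zpowers_iff.1 (htop.ge (mem_top (f x)))
    obtain ⟨j, hj⟩ := mem_zpowers_iff.1 (htop.ge (mem_top (f y)))
    have hx : (a ^ i)⁻¹ * x ∈ Subgroup.center (P : Subgroup J) := hkc _ ((hker _).1 (by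
      rw [map_mul, map_inv, map_zpow, hi, inv_mul_cancel]))
    have hy : (a ^ j)⁻¹ * y ∈ Subgroup.center (P : Subgroup J) := hkc _ ((hker _).1 (by
      rw [map_mul, map_inv, map_zpow, hj, inv_mul_cancel]))
    rw [show x = a ^ i * ((a ^ i)⁻¹ * x) by group, show y = a ^ j * ((a ^ j)⁻¹ * y) by group]
    exact Commute.mul_left (Commute.mul_right (Commute.zpow_zpow_self _ i j) (Subgroup.mem_center_iff.1 hy _))
      (Subgroup.mem_center_iff.1 hx _).symm
  -- two generators
  obtain ⟨a', ha⟩ := exists_double (⊥ : Subgroup (P' : Subgroup (J ⧸ Z)))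
  obtain ⟨b', hb⟩ := exists_double (⊥ ⊔ zpowers a')
  have htop : ⊥ ⊔ zpowers a' ⊔ zpowers b' = ⊤ := by
    rcases ha with ha | ha
    · exact top_le_iff.1 (ha.ge.trans (le_sup_left.trans le_sup_left))
    rcases hb with hb | hb
    · exact top_le_iff.1 (hb.ge.trans le_sup_left)
    rw [Subgroup.card_bot] at ha
    exact eq_top_of_le_card _ (by rw [hP4]; omega)
  obtain ⟨a, rfl⟩ := hfs a'
  obtain ⟨b, rfl⟩ := hfs b'
  have hgen : closure ({a, b, 1} : Set (P : Subgroup J)) ⊔ Subgroup.center (P : Subgroup J) = ⊤ := by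
    refine top_le_iff.1 fun x _ => ?_
    obtain ⟨y, hy, e⟩ : f x ∈ (closure ({a, b, 1} : Set (P : Subgroup J))).map f := by
      have h1 : (⊤ : Subgroup (P' : Subgroup (J ⧸ Z))) ≤ (closure ({a, b, 1} : Set (P : Subgroup J))).map f := by
        rw [← htop]
        exact sup_le (sup_le bot_le (zpowers_le.2 (mem_map_of_mem f (Subgroup.subset_closure (Or.inl rfl)))))
          (zpowers_le.2 (mem_map_of_mem f (Subgroup.subset_closure (Or.inr (Or.inl rfl)))))
      exact h1 (mem_top _)
    rw [show x = y * (y⁻¹ * x) by group]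
    exact mul_mem (mem_sup_left hy) (mem_sup_right (hkc _ ((hker _).1 (by rw [map_mul, map_inv, e, inv_mul_cancel]))))
  have hcom := commutator_le_three hcc hgen (W := zpowers ⁅a, b⁆) (mem_zpowers _)
    (by rw [commutatorElement_one_right]; exact one_mem _) (by rw [commutatorElement_one_right]; exact one_mem _)
  have hc2 : ⁅a, b⁆ * ⁅a, b⁆ = 1 := by
    rw [← comm_mul_right hcc, commutatorElement_eq_one_iff_commute]
    exact Subgroup.mem_center_iff.1 (hkc (b * b) ((hker _).1 (by rw [map_mul]; exact hsq b))) a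
  have hZ1 : ∀ z (hz : z ∈ Z), (⟨z, hZP hz⟩ : (P : Subgroup J)) ∈ zpowers ⁅a, b⁆ := fun z hz =>
    hcom (mem_commutator_sylow hperf (hZc hz) P (hZP hz))
  have hZ2' : Nat.card Z ≤ 2 := by
    refine (Nat.card_le_card_of_injective (fun z : Z => (⟨⟨(z : J), hZP z.2⟩, hZ1 z z.2⟩ : zpowers ⁅a, b⁆))
      fun x y e => Subtype.ext (congrArg (fun w => ((Subtype.val w : (P : Subgroup J)) : J)) e)).trans ?_
    rw [Nat.card_zpowers]
    exact Nat.le_of_dvd two_pos (orderOf_dvd_of_pow_eq_one (by rw [pow_two, hc2]))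
  have hZcard : Nat.card Z = 2 := le_antisymm hZ2' ((Subgroup.one_lt_card_iff_ne_bot _).2 hZ)
  have hJ : Nat.card J = 120 := by
    rw [Subgroup.card_eq_card_quotient_mul_card_subgroup Z, h60, hZcard]
  refine S3378.result.1 J hJ (fun hs => ?_) fun R => ?_
  · haveI := hs
    haveI : Group.IsSolvable (J ⧸ Z) := Group.isSolvable_of_surjective (f := π) (QuotientGroup.mk'_surjective Z)
    haveI : Nontrivial (J ⧸ Z) := Finite.one_lt_card_iff_nontrivial.1 (by rw [h60]; norm_num)
    have h1 : ⁅(⊤ : Subgroup (J ⧸ Z)), (⊤ : Subgroup (J ⧸ Z))⁆ = ⊤ := by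
      rw [← Subgroup.map_top_of_surjective π (QuotientGroup.mk'_surjective Z), ← Subgroup.map_commutator, hperf]
    exact top_ne_bot (Walter.perfect_eq_bot h1)
  suffices h : Nonempty ((P : Subgroup J) ≃* QuaternionGroup 2) by
    obtain ⟨e⟩ := h
    exact ⟨(Sylow.equiv R P).trans e⟩
  have hP8 : Nat.card (P : Subgroup J) = 8 := by
    rw [Sylow.card_eq_multiplicity, hJ]
    decide +kernel
  -- every involution lies in `Z`
  have hinv : ∀ x : (P : Subgroup J), x * x = 1 → (x : J) ∈ Z := by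
    intro x hx
    by_contra hxZ
    have hx2 : orderOf (π x) = 2 := orderOf_eq_prime (by
      rw [← map_pow, pow_two, show (x : J) * x = 1 from congrArg Subtype.val hx, map_one])
      fun e => hxZ ((QuotientGroup.eq_one_iff _).1 e)
    have hall : ∀ y : (P : Subgroup J), y * y = 1 := by
      intro y
      refine Subtype.ext ?_
      show (y : J) * y = 1
      by_cases hy : π y = 1
      · have h1 : ((y : J)) ∈ Z := (QuotientGroup.eq_one_iff _).1 hy
        have h2 := pow_card_eq_one' (x := (⟨y, h1⟩ : Z))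
        rw [hZcard, pow_two] at h2
        exact congrArg Subtype.val h2
      obtain ⟨k', hk⟩ := isConj_iff.1 (Fusion.SEPairs.involutions_conj hH hx2
        (orderOf_eq_prime (by rw [pow_two]; exact congrArg Subtype.val (hsq y)) hy))
      obtain ⟨k, rfl⟩ := QuotientGroup.mk'_surjective Z k'
      rw [← map_inv, ← map_mul, ← map_mul] at hk
      obtain ⟨z, hz, hyz⟩ : ∃ z ∈ Z, (y : J) = k * x * k⁻¹ * z :=
        ⟨(k * x * k⁻¹)⁻¹ * y, QuotientGroup.eq.1 hk, by group⟩
      have hz2 : z * z = 1 := by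
        have h2 := pow_card_eq_one' (x := (⟨z, hz⟩ : Z))
        rw [hZcard, pow_two] at h2
        exact congrArg Subtype.val h2
      rw [hyz]
      calc k * x * k⁻¹ * z * (k * x * k⁻¹ * z) = k * x * k⁻¹ * (z * (k * x * k⁻¹)) * z := by group
        _ = k * x * k⁻¹ * (k * x * k⁻¹ * z) * z := by rw [← Subgroup.mem_center_iff.1 (hZc hz) (k * x * k⁻¹)]
        _ = k * ((x : J) * x) * k⁻¹ * (z * z) := by group
        _ = 1 := by rw [show (x : J) * x = 1 from congrArg Subtype.val hx, hz2]; group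
    refine hP ⟨⟨fun p q => ?_⟩⟩
    have h1 := hall (p * q)
    calc p * q = p * (p * q * (p * q)) * q := by rw [h1, mul_one]
      _ = (p * p) * (q * p) * (q * q) := by group
      _ = q * p := by rw [hall p, hall q, one_mul, mul_one]
  have hu : Solv.UniqueOrderP 2 (P : Subgroup J) := by
    intro x y hx hy hy1
    rw [pow_two] at hx hy
    by_cases hx1 : x = 1
    · rw [hx1]; exact one_mem _
    obtain ⟨z, hz⟩ : ∃ z : J, ∀ w ∈ Z, w ≠ 1 → w = z := by
      obtain ⟨w, hw⟩ := Subgroup.ne_bot_iff_exists_ne_one.1 hZ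
      refine ⟨w, fun v hv hv1 => ?_⟩
      by_contra hne
      have h3 : 3 ≤ Nat.card Z := by
        classical
        haveI := Fintype.ofFinite Z
        rw [Nat.card_eq_fintype_card]
        exact (Finset.card_eq_three.2 ⟨(1 : Z), ⟨v, hv⟩, w, fun e => hv1 (congrArg Subtype.val e).symm,
          fun e => hw e.symm, fun e => hne (congrArg Subtype.val e), rfl⟩).ge.trans (Finset.card_le_univ _)
      omega
    have hxy : x = y := Subtype.ext ((hz _ (hinv x hx) fun e => hx1 (Subtype.ext e)).trans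
      (hz _ (hinv y hy) fun e => hy1 (Subtype.ext e)).symm)
    rw [hxy]; exact mem_zpowers y
  rcases Solv.cyclic_or_quaternion P.2 hu with hc | ⟨-, n, ⟨e⟩⟩
  · exact absurd (haveI := hc; (IsCyclic.isMulCommutative : IsMulCommutative (P : Subgroup J))) hP
  · have h1 := Nat.card_congr e.toEquiv
    haveI : NeZero (2 ^ n) := ⟨by positivity⟩
    rw [hP8, Nat.card_eq_fintype_card, QuaternionGroup.card] at h1
    obtain rfl : n = 1 := by
      have : 2 ^ n = 2 := by omega
      exact Nat.pow_right_injective le_rfl (this.trans (pow_one 2).symm)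
    exact ⟨e⟩

end Cfsg.Agent.CI
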