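import Cfsg.Agent.Lib.CI.Base

/-!
# The simple groups with central Sylow 2-intersections
-/

set_option autoImplicit false
set_option linter.style.haveILetI false
set_option linter.unusedSectionVars false
set_option linter.dupNamespace false

namespace Cfsg.Agent.CI

open Subgroup Cfsg.Agent Cfsg.Agent.Solv.AbelianTwo

universe u

variable {G : Type u} [Group G] [Finite G] [IsSimpleGroup G]

/-- `PSL₂(4)` with a field of five elements. -/
theorem psl_four {F : Type} [Field F] [Fintype F] (hF : Fintype.card F = 4)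
    (e : G ≃* Matrix.ProjectiveSpecialLinearGroup (Fin 2) F) :
    ∃ (K : Type) (_ : Field K) (_ : Fintype K), Fintype.card K = 5 ∧
      Nonempty (G ≃* Matrix.ProjectiveSpecialLinearGroup (Fin 2) K) := by
  obtain ⟨K, iK, iKf, hK, hK2, ⟨e'⟩⟩ := Classical.CyclicNormalizer.four_to_five hF e
  refine ⟨K, iK, iKf, ?_, ⟨e'⟩⟩
  have h1 := Classical.Dickson.card_psl F
  rw [hF, ← Nat.card_congr e.toEquiv, show Nat.gcd 2 (4 - 1) = 1 from rfl, mul_one] at h1
  have h2 := Classical.Dickson.card_psl K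
  rw [← Nat.card_congr e'.toEquiv, h1] at h2
  set q := Fintype.card K with hq
  have hg : Nat.gcd 2 (q - 1) ≤ 2 := Nat.le_of_dvd two_pos (Nat.gcd_dvd_left _ _)
  have h4 : q ≠ 4 := fun e4 => hK2 (by
    have h5 : ((4 : ℕ) : K) = 0 := by rw [← e4, hq]; exact FiniteField.cast_card_eq_zero K
    have h6 : (2 : K) * 2 = 0 := by rw [← h5]; norm_num
    exact mul_self_eq_zero.1 h6)
  by_contra h5
  have h6 : 6 ≤ q := by omega
  have h7 : 6 * (6 ^ 2 - 1) ≤ q * (q ^ 2 - 1) :=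
    Nat.mul_le_mul h6 (Nat.sub_le_sub_right (Nat.pow_le_pow_left h6 2) 1)
  have h8 : q * (q ^ 2 - 1) ≤ 120 := by rw [← h2]; omega
  omega

/-- Abelian Sylow 2-subgroups. -/
theorem abelian_case (hna : ¬ IsMulCommutative G) (hab : Ab2 G) :
    (∃ (F : Type) (_ : Field F) (_ : Fintype F),
        (Fintype.card F % 8 = 0 ∨ Fintype.card F % 8 = 3 ∨ Fintype.card F % 8 = 5) ∧
        Nonempty (G ≃* Matrix.ProjectiveSpecialLinearGroup (Fin 2) F)) ∨
    ((∀ S : Sylow 2 G, IsMulCommutative ↥(S : Subgroup G)) ∧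
      ∃ t : G, orderOf t = 2 ∧ IsCoatom (Subgroup.centralizer ({t} : Set G)) ∧
        ∃ E : Subgroup G, Cfsg.IsInternalDirectProduct (Subgroup.zpowers t) E (Subgroup.centralizer ({t} : Set G)) ∧
          ∃ (F : Type) (_ : Field F) (_ : Fintype F), Odd (Fintype.card F) ∧ 3 < Fintype.card F ∧
            ∃ N : Subgroup ↥E, N.Normal ∧ Nonempty (↥N ≃* Matrix.ProjectiveSpecialLinearGroup (Fin 2) F) ∧
              Subgroup.centralizer (N : Set ↥E) = ⊥) := by
  have hsimple := Walter.simpleStatement_of SEB.sol_all (Walter.R3.rankThreeStatement_of SEB.sol_all)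
  rcases hsimple G hna hab with ⟨F, iF, iT, hq, ⟨e⟩⟩ | hJ
  · left
    rcases hq with ⟨n, hn, hF⟩ | ⟨h35, -⟩
    · rcases Nat.lt_or_ge n 3 with h2 | h3
      · obtain rfl : n = 2 := by omega
        obtain ⟨K, iK, iKf, hK, e'⟩ := psl_four (by rw [hF]; norm_num) e
        exact ⟨K, iK, iKf, Or.inr (Or.inr (by rw [hK])), e'⟩
      · obtain ⟨k, rfl⟩ : ∃ k, n = 3 + k := ⟨n - 3, by omega⟩
        exact ⟨F, iF, iT, Or.inl (by rw [hF, pow_add]; norm_num), ⟨e⟩⟩
    · exact ⟨F, iF, iT, Or.inr h35, ⟨e⟩⟩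
  refine Or.inr ⟨hab, ?_⟩
  obtain ⟨T, hT8, hcyc⟩ := Walter.cyc_jr hJ
  obtain ⟨-, -, t, E, N, F, iF, iT, ht, hE, hNE, hconj, hFo, hF5, ⟨iso⟩, hCE⟩ := hJ
  have ht2 : t * t = 1 := by rw [← pow_two, ← ht, pow_orderOf_eq_one]
  have ht1 : t ≠ 1 := fun e => by rw [e, orderOf_one] at ht; exact absurd ht (by norm_num)
  obtain ⟨S, hS⟩ := (IsPGroup.of_card (n := 1) (by rw [Nat.card_zpowers, ht, pow_one]) :
    IsPGroup 2 (zpowers t)).exists_le_sylow
  have hcS : Walter.Cyc (S : Subgroup G) := by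
    obtain ⟨g, rfl⟩ := MulAction.exists_smul_eq G T S
    exact hcyc.map (MulAut.conj g).toMonoidHom (MulAut.conj g).injective
  have h8 : ∀ R : Sylow 2 G, Nat.card (R : Subgroup G) = 8 ∧ ∀ x ∈ (R : Subgroup G), x ^ 2 = 1 := fun R => by
    obtain ⟨g, rfl⟩ := MulAction.exists_smul_eq G T R
    refine ⟨?_, fun x hx => ?_⟩
    · rw [← Nat.card_congr (Sylow.equivSMul T g).toEquiv]; exact hT8
    · rw [pow_two]; exact (hcyc.map (MulAut.conj g).toMonoidHom (MulAut.conj g).injective).sq x hx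
  have hNsol : ¬ Group.IsSolvable ↥(centralizer ({t} : Set G)) := fun hsol => by
    haveI := hsol
    have hle : N ≤ centralizer ({t} : Set G) := hNE.trans hE.2.1
    haveI : Group.IsSolvable ↥N :=
      Group.isSolvable_of_isSolvable_injective (f := Subgroup.inclusion hle) (Subgroup.inclusion_injective _)
    exact S0810.psl_not_solvable (F := F) (by omega)
      (Group.isSolvable_of_surjective (f := iso.toMonoidHom) iso.surjective)
  have h3 : Walter.RankThree G := by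
    refine ⟨h8, fun u hu hsol => hNsol ?_⟩
    obtain ⟨R, hR⟩ := (IsPGroup.of_card (n := 1) (by rw [Nat.card_zpowers, hu, pow_one]) :
      IsPGroup 2 (zpowers u)).exists_le_sylow
    obtain ⟨g, rfl⟩ := MulAction.exists_smul_eq G R S
    obtain ⟨a, -, -, ha⟩ := hcS.turn
    have hgu : g * u * g⁻¹ ∈ ((g • R : Sylow 2 G) : Subgroup G) := ⟨u, hR (mem_zpowers u), rfl⟩
    have hu1 : g * u * g⁻¹ ≠ 1 := fun e => by
      rw [conj_eq_one_iff.1 e, orderOf_one] at hu; exact absurd hu (by norm_num)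
    obtain ⟨i, hi⟩ := ha _ hgu hu1 t (hS (mem_zpowers t)) ht1
    have hmap : (centralizer ({u} : Set G)).map (MulAut.conj (a ^ i * g)).toMonoidHom = centralizer ({t} : Set G) := by
      ext y
      rw [mem_map_equiv, MulAut.conj_symm_apply, mem_centralizer_singleton_iff, mem_centralizer_singleton_iff, ← hi]
      set h := a ^ i * g with hh
      rw [show a ^ i * (g * u * g⁻¹) * (a ^ i)⁻¹ = h * u * h⁻¹ by rw [hh]; group]
      constructor
      · intro h1
        calc y * (h * u * h⁻¹) = h * (h⁻¹ * y * h * u) * h⁻¹ := by group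
          _ = h * u * h⁻¹ * y := by rw [h1]; group
      · intro h1
        calc h⁻¹ * y * h * u = h⁻¹ * (y * (h * u * h⁻¹)) * h := by group
          _ = u * (h⁻¹ * y * h) := by rw [h1]; group
    haveI := hsol
    have e := ((centralizer ({u} : Set G)).equivMapOfInjective (MulAut.conj (a ^ i * g)).toMonoidHom
      (MulAut.conj (a ^ i * g)).injective).trans (MulEquiv.subgroupCongr hmap)
    exact Group.isSolvable_of_surjective (f := e.toMonoidHom) e.surjective
  have c : Walter.R3.Ctx (S : Subgroup G) :=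
    ⟨⟨inferInstance, hna, hab, fun L _ _ _ hn ha _ => hsimple L hn ha⟩, h3, S, rfl⟩
  have htS : t ∈ (S : Subgroup G) := hS (mem_zpowers t)
  obtain ⟨M, hM, hle⟩ := c.exists_coatom (c.cent_ne_top htS ht1)
  have hm : Walter.R3.Mem (S : Subgroup G) M t := ⟨htS, ht1, hM, hle⟩
  obtain ⟨mm, Fm, hmt⟩ := c.exists_fam hm
  have hOl : Walter.R3.Ol M = ⊥ := hmt ▸ Fm.core_bot c SEB.sol_all htS ht1
  have hMC : M = centralizer ({t} : Set G) := le_antisymm (fun g hg => by
    obtain ⟨o, ho, x, hx, rfl⟩ := c.mem_split SEB.sol_all hm hg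
    rw [hOl, mem_bot] at ho
    rw [ho, one_mul]; exact hx) hle
  refine ⟨t, ht, hMC ▸ hM, E, hE, F, iF, iT, hFo, by omega, N.subgroupOf E, ?_, ⟨?_⟩, ?_⟩
  · exact ⟨fun n hn g => mem_subgroupOf.2 (hconj g g.2 n (mem_subgroupOf.1 hn))⟩
  · exact (subgroupOfEquivOfLe hNE).trans iso
  · refine (Subgroup.eq_bot_iff_forall _).2 fun x hx => Subtype.ext ?_
    have h1 : (x : G) ∈ E ⊓ centralizer (N : Set G) := ⟨x.2, mem_centralizer_iff.2 fun n hn =>
      congrArg Subtype.val (mem_centralizer_iff.1 hx ⟨n, hNE hn⟩ (mem_subgroupOf.2 hn))⟩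
    rw [hCE, mem_bot] at h1
    exact h1

/-- **Simple groups with central Sylow 2-intersections.** -/
theorem simple_ci (hna : ¬ IsMulCommutative G) (h : CI G) :
    (∃ (F : Type) (_ : Field F) (_ : Fintype F),
        (Fintype.card F % 8 = 0 ∨ Fintype.card F % 8 = 3 ∨ Fintype.card F % 8 = 5) ∧
        Nonempty (G ≃* Matrix.ProjectiveSpecialLinearGroup (Fin 2) F)) ∨
    ((∀ S : Sylow 2 G, IsMulCommutative ↥(S : Subgroup G)) ∧
      ∃ t : G, orderOf t = 2 ∧ IsCoatom (Subgroup.centralizer ({t} : Set G)) ∧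
        ∃ E : Subgroup G, Cfsg.IsInternalDirectProduct (Subgroup.zpowers t) E (Subgroup.centralizer ({t} : Set G)) ∧
          ∃ (F : Type) (_ : Field F) (_ : Fintype F), Odd (Fintype.card F) ∧ 3 < Fintype.card F ∧
            ∃ N : Subgroup ↥E, N.Normal ∧ Nonempty (↥N ≃* Matrix.ProjectiveSpecialLinearGroup (Fin 2) F) ∧
              Subgroup.centralizer (N : Set ↥E) = ⊥) ∨
    (∃ (m : ℕ) (F : Type) (_ : Field F) (_ : Fintype F), 1 ≤ m ∧ Fintype.card F = 2 ^ (2 * m + 1) ∧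
        Nonempty (G ≃* ↥(Cfsg.Lie.Sz F (2 ^ (m + 1))))) ∨
    (∃ (n : ℕ) (F : Type) (_ : Field F) (_ : Fintype F), 2 ≤ n ∧ Fintype.card F = 4 ^ n ∧
        Nonempty (G ≃* Cfsg.PSU 3 F (2 ^ n))) := by
  rcases base_all (Nat.card G) G hna h le_rfl with hab | ⟨H, hH⟩
  · rcases abelian_case hna hab with hl | hj
    · exact Or.inl hl
    · exact Or.inr (Or.inl hj)
  rcases ident hna hH with ⟨F, iF, iFF, n, hn, hF, ⟨e⟩⟩ | ⟨F, iF, iFF, m, hm, hF, e⟩ |
    ⟨F, iF, iFF, n, hn, hF, e⟩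
  · left
    rcases Nat.lt_or_ge n 3 with h2 | h3
    · obtain rfl : n = 2 := by omega
      obtain ⟨K, iK, iKf, hK, e'⟩ := psl_four (by rw [hF]; norm_num) e
      exact ⟨K, iK, iKf, Or.inr (Or.inr (by rw [hK])), e'⟩
    · obtain ⟨k, rfl⟩ : ∃ k, n = 3 + k := ⟨n - 3, by omega⟩
      exact ⟨F, iF, iFF, Or.inl (by rw [hF, pow_add]; norm_num), ⟨e⟩⟩
  · exact Or.inr (Or.inr (Or.inl ⟨m, F, iF, iFF, hm, hF, e⟩))
  · exact Or.inr (Or.inr (Or.inr ⟨n, F, iF, iFF, hn, by rw [hF, ← pow_mul, mul_comm, pow_mul]; norm_num, e⟩))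

end Cfsg.Agent.CI
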