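import Cfsg.Agent.Lib.CI.TwoTrans
import Cfsg.Agent.Lib.Walter.TypeFacts
import Cfsg.Agent.Lib.Lie.SuzukiSp4
import Cfsg.Agent.S0330
import Cfsg.Agent.S1138
import Cfsg.Agent.S1141
import Cfsg.Agent.S2086
import Cfsg.Agent.S2089
import Cfsg.Agent.S2111

/-!
# Simple groups with a strongly embedded subgroup: the Sylow 2-subgroups and the covers

The Sylow 2-subgroups have class at most two; a perfect central extension by a non-trivial 2-group has a central quotient
with Sylow 2-subgroups of order 4 or those of `Sz(8)`.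
-/

set_option autoImplicit false
set_option linter.style.haveILetI false
set_option linter.unusedSectionVars false
set_option linter.dupNamespace false

namespace Cfsg.Agent.CI

open Subgroup Cfsg.Agent
open scoped commutatorElement

universe u v

/-- The three families. -/
theorem ident {K : Type u} [Group K] [Finite K] [IsSimpleGroup K] (hna : ¬ IsMulCommutative K) {H : Subgroup K}
    (hH : Cfsg.IsStronglyEmbedded H) :
    (∃ (F : Type) (_ : Field F) (_ : Fintype F) (n : ℕ), 2 ≤ n ∧ Fintype.card F = 2 ^ n ∧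
        Nonempty (K ≃* Matrix.ProjectiveSpecialLinearGroup (Fin 2) F)) ∨
      Cfsg.Lie.IsoSuzuki K ∨
      (∃ (F : Type) (_ : Field F) (_ : Fintype F) (n : ℕ), 2 ≤ n ∧ Fintype.card F = (2 ^ n) ^ 2 ∧
        Nonempty (K ≃* Cfsg.PSU 3 F (2 ^ n))) := by
  have hna' : ∃ a b : K, a * b ≠ b * a := by
    by_contra hc
    push Not at hc
    exact hna ⟨⟨hc⟩⟩
  have hm : SEB.mbar ↥H ≠ 1 := fun hm => by
    have htop := Bender.core_sup_eq_top hH (SEB.oneClass_of_mbar_eq_one hm)
    rw [simple_core hna, bot_sup_eq] at htop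
    exact hH.1 htop
  have hN : H.normalCore = ⊥ := (Subgroup.normalCore_normal H).eq_bot_or_eq_top.resolve_right
    fun h => hH.1 (top_le_iff.1 (h ▸ Subgroup.normalCore_le H))
  obtain ⟨g, hg⟩ : ∃ g : K, g ∉ H := by
    by_contra h
    push Not at h
    exact hH.1 ((Subgroup.eq_top_iff' H).2 h)
  have hca : (QuotientGroup.mk g : K ⧸ H) ≠ QuotientGroup.mk 1 := fun e => hg (by
    have h := QuotientGroup.eq.1 e.symm
    simpa using h)
  obtain ⟨t, Q, hc, hQ⟩ := SEB.ctx_of_solvable hH (SEB.sol_all K H hH hm) hm hN hca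
  rcases hc.classify hQ with ⟨F, iF, iFF, ⟨n, hn, hF⟩, e⟩ | h | h
  · exact Or.inl ⟨F, iF, iFF, n, hn, hF, e⟩
  · exact Or.inr (Or.inl h)
  · exact Or.inr (Or.inr h)

/-- A Sylow subgroup carried along an isomorphism. -/
theorem exists_sylow_equiv {K : Type u} {M : Type v} [Group K] [Group M] [Finite K] [Finite M] (e : K ≃* M)
    (P : Sylow 2 K) : ∃ Q : Sylow 2 M, Nonempty ((P : Subgroup K) ≃* (Q : Subgroup M)) := by
  refine ⟨Sylow.mapSurjective (f := e.toMonoidHom) e.surjective P, ⟨?_⟩⟩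
  exact ((P : Subgroup K).equivMapOfInjective e.toMonoidHom e.injective).trans
    (MulEquiv.subgroupCongr (Sylow.coe_mapSurjective (f := e.toMonoidHom) e.surjective P).symm)

/-- The Sylow 2-subgroups of `PSL₂(2ⁿ)` are commutative of order `2ⁿ`. -/
theorem psl_sylow {F : Type} [Field F] [Fintype F] {n : ℕ} (hn : 2 ≤ n) (hF : Fintype.card F = 2 ^ n)
    (S : Sylow 2 (Matrix.ProjectiveSpecialLinearGroup (Fin 2) F)) :
    IsMulCommutative (S : Subgroup (Matrix.ProjectiveSpecialLinearGroup (Fin 2) F)) ∧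
      Nat.card (S : Subgroup (Matrix.ProjectiveSpecialLinearGroup (Fin 2) F)) = 2 ^ n := by
  classical
  haveI : Finite (Matrix.ProjectiveSpecialLinearGroup (Fin 2) F) := Finite.of_surjective _ Small.PSL2.pr_surjective
  obtain ⟨U', hU'⟩ : ∃ U' : Sylow 2 (Matrix.ProjectiveSpecialLinearGroup (Fin 2) F),
      (U' : Subgroup (Matrix.ProjectiveSpecialLinearGroup (Fin 2) F)) = Small.PSL2.U :=
    ⟨⟨Small.PSL2.U, Small.PSL2.isPGroup_U hF, fun hQ hle => Small.PSL2.U_maximal hQ hle⟩, rfl⟩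
  have hcard : Nat.card (U' : Subgroup (Matrix.ProjectiveSpecialLinearGroup (Fin 2) F)) = 2 ^ n := by
    rw [hU', ← hF, ← Nat.card_eq_fintype_card]
    refine (Nat.card_eq_of_bijective (fun x : F => (⟨Small.PSL2.pr (Small.PSL2.uS x), Small.PSL2.uS_mem x⟩ :
      (Small.PSL2.U : Subgroup (Matrix.ProjectiveSpecialLinearGroup (Fin 2) F))))
      ⟨fun x y e => Small.PSL2.pr_uS_inj (congrArg Subtype.val e), fun g => ?_⟩).symm
    obtain ⟨x, hx⟩ := (Small.PSL2.mem_U _).1 g.2
    exact ⟨x, Subtype.ext hx⟩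
  refine ⟨⟨⟨fun a b => ?_⟩⟩, by rw [← hcard]; exact Nat.card_congr (Sylow.equiv S U').toEquiv⟩
  refine (Sylow.equiv S U').injective (Subtype.ext ?_)
  obtain ⟨x, hx⟩ := (Small.PSL2.mem_U (Sylow.equiv S U' a).1).1 (by rw [← hU']; exact (Sylow.equiv S U' a).2)
  obtain ⟨y, hy⟩ := (Small.PSL2.mem_U (Sylow.equiv S U' b).1).1 (by rw [← hU']; exact (Sylow.equiv S U' b).2)
  rw [map_mul, map_mul, Subgroup.coe_mul, Subgroup.coe_mul, ← hx, ← hy, ← map_mul, ← map_mul, ← Small.PSL2.uS_add,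
    ← Small.PSL2.uS_add, add_comm]

/-- Commutators are central in the Sylow 2-subgroups. -/
theorem sylow_class_two {K : Type u} [Group K] [Finite K] [IsSimpleGroup K] (hna : ¬ IsMulCommutative K)
    {H : Subgroup K} (hH : Cfsg.IsStronglyEmbedded H) (P : Sylow 2 K) :
    commutator (P : Subgroup K) ≤ Subgroup.center (P : Subgroup K) := by
  rw [_root_.commutator_def, Subgroup.commutator_le]
  intro a _ b _
  rcases ident hna hH with ⟨F, iF, iFF, n, hn, hF, ⟨e⟩⟩ | ⟨F, iF, iFF, m, hm, hF, ⟨e⟩⟩ |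
    ⟨F, iF, iFF, n, hn, hF, ⟨e⟩⟩
  · haveI : Finite (Matrix.ProjectiveSpecialLinearGroup (Fin 2) F) := Finite.of_equiv K e.toEquiv
    obtain ⟨Q, ⟨φ⟩⟩ := exists_sylow_equiv e P
    haveI := (psl_sylow hn hF Q).1
    rw [show ⁅a, b⁆ = 1 from φ.injective (by
      rw [map_commutatorElement, map_one, commutatorElement_eq_one_iff_commute]
      exact IsMulCommutative.is_comm.comm _ _)]
    exact one_mem _
  · obtain ⟨f⟩ := Cfsg.Agent.Lie.Suzuki.lie_sz_equiv (F := F) hF hm
    haveI : Finite (Cfsg.Sz F m) := Finite.of_equiv K (e.trans f.symm).toEquiv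
    obtain ⟨Q, ⟨φ⟩⟩ := exists_sylow_equiv (e.trans f.symm) P
    have hQ := (S0330.result hm hF Q).2.2.1
    refine Subgroup.mem_center_iff.2 fun c => φ.injective ?_
    rw [map_mul, map_mul, map_commutatorElement]
    refine Subgroup.mem_center_iff.1 ?_ _
    rw [hQ, _root_.commutator_def]
    exact Subgroup.commutator_mem_commutator (mem_top _) (mem_top _)
  · haveI : Finite (Cfsg.PSU 3 F (2 ^ n)) := Finite.of_equiv K e.toEquiv
    obtain ⟨Q, ⟨φ⟩⟩ := exists_sylow_equiv e P
    have hQ := (S1138.result (S1141.result hn hF Q).2.2).2.1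
    refine Subgroup.mem_center_iff.2 fun c => φ.injective ?_
    rw [map_mul, map_mul, map_commutatorElement]
    refine Subgroup.mem_center_iff.1 ?_ _
    have h1 := hQ (φ a)⁻¹ (φ b)⁻¹
    rwa [inv_inv, inv_inv, ← commutatorElement_def] at h1

/-- The kernel of a stem extension divides the multiplier. -/
theorem ker_card_dvd {M : Type} [Group M] [Finite M] {A : Type} [CommGroup A] [Finite A]
    (h : Cfsg.HasSchurMultiplier M A) {J : Type u} [Group J] [Finite J] (σ : J →* M) (hs : Function.Surjective σ)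
    (hc : σ.ker ≤ Subgroup.center J) (hk : σ.ker ≤ commutator J) : Nat.card σ.ker ∣ Nat.card A := by
  obtain ⟨n, ⟨en⟩⟩ := Finite.exists_equiv_fin J
  let f : J →* Equiv.Perm (Fin n) := en.permCongrHom.toMonoidHom.comp (MulAction.toPermHom J J)
  have hf : Function.Injective f := en.permCongrHom.injective.comp MulAction.toPerm_injective
  let ι := MonoidHom.ofInjective hf
  let σ' : f.range →* M := σ.comp ι.symm.toMonoidHom
  have hker : σ'.ker = σ.ker.map ι.toMonoidHom := by
    ext x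
    refine ⟨fun hx => ⟨ι.symm x, hx, ι.apply_symm_apply x⟩, ?_⟩
    rintro ⟨z, hz, rfl⟩
    show σ (ι.symm (ι z)) = 1
    rw [ι.symm_apply_apply]
    exact hz
  obtain ⟨π, hπ⟩ := h.2 f.range σ' ⟨hs.comp ι.symm.surjective, by
    rw [hker]
    rintro _ ⟨z, hz, rfl⟩
    refine Subgroup.mem_center_iff.2 fun g => ?_
    obtain ⟨j, rfl⟩ := ι.surjective g
    show ι j * ι z = ι z * ι j
    rw [← map_mul, ← map_mul, Subgroup.mem_center_iff.1 (hc hz) j], by
    rw [hker]
    refine (map_mono hk).trans ?_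
    rw [_root_.commutator_def, _root_.commutator_def, Subgroup.map_commutator]
    exact commutator_mono le_top le_top⟩
  have hdvd := Subgroup.card_dvd_of_surjective π hπ
  have hc' : Nat.card (σ.ker.map ι.toMonoidHom) = Nat.card σ.ker := Subgroup.card_map_of_injective ι.injective
  rwa [hker, hc'] at hdvd

open Cfsg.Agent.Lie.Suzuki in
/-- The centre of a Sylow 2-subgroup of a Suzuki group is elementary. -/
theorem sz_center_sq {F : Type*} [Field F] [Fintype F] {m : ℕ} (hm : 1 ≤ m)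
    (hF : Fintype.card F = 2 ^ (2 * m + 1)) (P : Sylow 2 (Cfsg.Sz F m)) :
    ∀ z ∈ Subgroup.center P, z * z = 1 := by
  intro z hz
  obtain ⟨U', hU'⟩ : ∃ U' : Sylow 2 (Cfsg.Sz F m), (U' : Subgroup (Cfsg.Sz F m)) = uSub hF :=
    ⟨(uSub_isPGroup hF).toSylow (not_two_dvd_index hF hm), rfl⟩
  let φ := (Sylow.equiv P U').trans (MulEquiv.subgroupCongr hU')
  have h1 : φ z ∈ Subgroup.center (uSub (m := m) hF) := Subgroup.mem_center_iff.2 fun y => by
    obtain ⟨x, rfl⟩ := φ.surjective y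
    rw [← map_mul, ← map_mul, Subgroup.mem_center_iff.1 hz x]
  rw [uSub_center hF hm] at h1
  obtain ⟨b, hb⟩ := mem_subgroupOf.1 h1
  refine φ.injective (Subtype.ext ?_)
  have h2 : (2 : F) = 0 := two_eq_zero hF
  rw [map_mul, map_one, Subgroup.coe_mul, Subgroup.coe_one, hb, tS_mul hF, add_zero, mul_zero, add_zero,
    show b + b = 0 by linear_combination b * h2, tS_zero]

/-- The quotient of a perfect group by a central 2-group with strongly embedded subgroup, when the kernel is non-trivial. -/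
theorem cover_cases {J : Type u} [Group J] [Finite J] (hperf : ⁅(⊤ : Subgroup J), (⊤ : Subgroup J)⁆ = ⊤)
    {Z : Subgroup J} [Z.Normal] (hZc : Z ≤ Subgroup.center J) (hZ2 : IsPGroup 2 Z) (hZ : Z ≠ ⊥)
    [IsSimpleGroup (J ⧸ Z)] (hna : ¬ IsMulCommutative (J ⧸ Z)) {H : Subgroup (J ⧸ Z)}
    (hH : Cfsg.IsStronglyEmbedded H) (P : Sylow 2 (J ⧸ Z)) :
    (Nat.card (P : Subgroup (J ⧸ Z)) = 4 ∧ IsMulCommutative (P : Subgroup (J ⧸ Z))) ∨
      (Nat.card (P : Subgroup (J ⧸ Z)) = 64 ∧
        Subgroup.center (P : Subgroup (J ⧸ Z)) = commutator (P : Subgroup (J ⧸ Z)) ∧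
        Nat.card (Subgroup.center (P : Subgroup (J ⧸ Z))) = 8 ∧
        ∀ z ∈ Subgroup.center (P : Subgroup (J ⧸ Z)), z * z = 1) := by
  have key : ∀ {M : Type} [Group M] [Finite M] {d : ℕ}, Odd d → Cfsg.HasCyclicSchurMultiplier M d →
      ((J ⧸ Z) ≃* M) → False := by
    intro M _ _ d hd hM e
    haveI : NeZero d := ⟨hd.pos.ne'⟩
    let σ : J →* M := e.toMonoidHom.comp (QuotientGroup.mk' Z)
    have hker : σ.ker = Z := by
      rw [show σ.ker = (QuotientGroup.mk' Z).ker from MonoidHom.ker_mulEquiv_comp _ e, QuotientGroup.ker_mk']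
    have h1 := ker_card_dvd hM σ (e.surjective.comp (QuotientGroup.mk'_surjective Z)) (hker ▸ hZc)
      (by rw [_root_.commutator_def, hperf]; exact le_top)
    rw [hker, Nat.card_congr Multiplicative.toAdd, Nat.card_zmod] at h1
    obtain ⟨k, hk⟩ := IsPGroup.iff_card.1 hZ2
    refine hZ (Subgroup.card_eq_one.1 ?_)
    rcases k with _ | k
    · rw [hk, pow_zero]
    · rw [hk] at h1
      exact absurd ((hd.of_dvd_nat h1)) (Nat.not_odd_iff_even.2 ((Nat.even_pow' k.succ_ne_zero).2 even_two))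
  rcases ident hna hH with ⟨F, iF, iFF, n, hn, hF, ⟨e⟩⟩ | ⟨F, iF, iFF, m, hm, hF, ⟨e⟩⟩ |
    ⟨F, iF, iFF, n, hn, hF, ⟨e⟩⟩
  · haveI : Finite (Matrix.ProjectiveSpecialLinearGroup (Fin 2) F) := Finite.of_equiv _ e.toEquiv
    rcases Nat.lt_or_ge n 3 with h2 | h3
    · obtain rfl : n = 2 := by omega
      obtain ⟨Q, ⟨φ⟩⟩ := exists_sylow_equiv e P
      haveI := (psl_sylow hn hF Q).1
      refine Or.inl ⟨?_, ⟨⟨fun a b => φ.injective (by rw [map_mul, map_mul, IsMulCommutative.is_comm.comm])⟩⟩⟩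
      rw [Nat.card_congr φ.toEquiv, (psl_sylow hn hF Q).2]; norm_num
    · exfalso
      have h8 : 8 ≤ 2 ^ n := (show (8 : ℕ) = 2 ^ 3 by norm_num) ▸ Nat.pow_le_pow_right two_pos h3
      refine key ?_ (S2086.result hF 2 le_rfl (fun _ => by omega) ?_) e
      · refine Odd.of_dvd_nat ?_ (Nat.gcd_dvd_right 2 (2 ^ n - 1))
        exact Nat.Even.sub_odd (by omega) ((Nat.even_pow' (by omega)).2 even_two) odd_one
      · simp only [Set.mem_insert_iff, Set.mem_singleton_iff, Prod.mk.injEq]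
        rintro (⟨-, h⟩ | ⟨-, h⟩ | ⟨h, -⟩ | ⟨h, -⟩ | ⟨h, -⟩)
        · omega
        · have : Even (2 ^ n) := (Nat.even_pow' (by omega)).2 even_two
          rw [h] at this
          exact absurd this (by decide)
        all_goals omega
  · rcases Nat.lt_or_ge m 2 with h1 | h2
    · obtain rfl : m = 1 := by omega
      obtain ⟨f⟩ := Cfsg.Agent.Lie.Suzuki.lie_sz_equiv (F := F) hF hm
      haveI : Finite (Cfsg.Sz F 1) := Finite.of_equiv _ (e.trans f.symm).toEquiv
      obtain ⟨Q, ⟨φ⟩⟩ := exists_sylow_equiv (e.trans f.symm) P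
      obtain ⟨q1, -, q3, q4⟩ := S0330.result hm hF Q
      have hcen : Subgroup.center (P : Subgroup (J ⧸ Z)) = (Subgroup.center Q).map φ.symm.toMonoidHom := by
        ext x
        refine ⟨fun hx => ⟨φ x, Subgroup.mem_center_iff.2 fun y => φ.symm.injective ?_, φ.symm_apply_apply x⟩, ?_⟩
        · rw [map_mul, map_mul, φ.symm_apply_apply]
          exact Subgroup.mem_center_iff.1 hx _
        · rintro ⟨y, hy, rfl⟩
          refine Subgroup.mem_center_iff.2 fun z => φ.injective ?_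
          rw [map_mul, map_mul, MulEquiv.coe_toMonoidHom, φ.apply_symm_apply]
          exact Subgroup.mem_center_iff.1 hy _
      refine Or.inr ⟨?_, ?_, ?_, ?_⟩
      · rw [Nat.card_congr φ.toEquiv]; exact q1.trans (by norm_num)
      · rw [hcen, q3, map_commutator_eq, MonoidHom.range_eq_top.2 φ.symm.surjective, _root_.commutator_def]
      · rw [hcen, Subgroup.card_map_of_injective φ.symm.injective]; exact q4.trans (by norm_num)
      · rw [hcen]
        rintro _ ⟨z, hz, rfl⟩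
        rw [← map_mul, sz_center_sq hm hF Q z hz, map_one]
    · exfalso
      haveI : Finite (Cfsg.Lie.Sz F (2 ^ (m + 1))) := Finite.of_equiv _ e.toEquiv
      exact key odd_one (S2111.result h2 hF) e
  · exfalso
    haveI : Finite (Cfsg.PSU 3 F (2 ^ n)) := Finite.of_equiv _ e.toEquiv
    have h4 : 4 ≤ 2 ^ n := (show (4 : ℕ) = 2 ^ 2 by norm_num) ▸ Nat.pow_le_pow_right two_pos hn
    refine key (Odd.of_dvd_nat (by decide : Odd 3) (Nat.gcd_dvd_left 3 (2 ^ n + 1)))
      (S2089.result 3 (2 ^ n) hF le_rfl (fun h => by omega) ?_) e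
    simp only [Set.mem_insert_iff, Set.mem_singleton_iff, Prod.mk.injEq]
    rintro (⟨h, -⟩ | ⟨h, -⟩ | ⟨h, -⟩) <;> omega

end Cfsg.Agent.CI
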