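import Cfsg.Agent.Lib.CI.Structure
import Cfsg.Agent.Lib.CI.Core
import Cfsg.Agent.Lib.Fusion.Cores

/-!
# Odd groups normalised by `S`, and the centraliser of `S` without odd core
-/

set_option autoImplicit false
set_option linter.style.haveILetI false
set_option linter.unusedSectionVars false
set_option linter.dupNamespace false

namespace Cfsg.Agent.CI

open Subgroup Cfsg.Agent
open scoped commutatorElement

universe u

variable {X : Type u} [Group X] [Finite X]

/-- A subgroup of odd order normalised by `S` is centralised, or the commutators of `S` lie in a cyclic group. -/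
theorem CI.odd_cent (h : CI X) (S : Sylow 2 X) {U : Subgroup X} (hU : Odd (Nat.card U))
    (hSU : (S : Subgroup X) ≤ normalizer (U : Set X)) :
    (∀ u ∈ U, ∀ s ∈ (S : Subgroup X), Commute u s) ∨ CycDerived (S : Subgroup X) :=
  core_lemma S.2 hU hSU fun x hx hxc u hu hux s hs => by
    have hn := h.cent_le_norm hx hxc (mem_centralizer_singleton_iff.2 hux.eq)
    have h1 : ⁅u, s⁆ ∈ (S : Subgroup X) := by
      rw [commutatorElement_def]
      exact mul_mem ((mem_normalizer_iff.1 hn s).1 hs) (inv_mem hs)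
    have h2 : ⁅u, s⁆ ∈ U := by
      rw [commutatorElement_def, mul_assoc u, mul_assoc u]
      exact mul_mem hu ((mem_normalizer_iff.1 (hSU hs) _).1 (inv_mem hu))
    obtain ⟨k, hk⟩ := S.2 ⟨_, h1⟩
    refine commutatorElement_eq_one_iff_commute.1 (orderOf_eq_one_iff.1 (Nat.eq_one_of_dvd_coprimes
      (hU.coprime_two_right.pow_right k) ((Subgroup.orderOf_mk _ h2) ▸ orderOf_dvd_natCard _)
      (orderOf_dvd_of_pow_eq_one (congrArg Subtype.val hk :))))

/-- Without odd core only the identity has odd order and centralises `S`. -/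
theorem cent_sylow_gen (h : CI X) (hO : Cfsg.oddCore X = ⊥) {S : Sylow 2 X}
    (hab : ¬ IsMulCommutative (S : Subgroup X)) (hbase : Base.{u} (Nat.card X)) {r : X} (ho : Odd (orderOf r))
    (hr : ∀ s ∈ (S : Subgroup X), Commute r s) : r = 1 := by
  by_cases hn : (S : Subgroup X).Normal
  · have hrF : r ∈ Cfsg.fittingSubgroup X := by
      refine GW.centralizer_gfit_le_fit (mem_centralizer_iff.2 ?_)
      have hle : Cfsg.generalizedFittingSubgroup X ≤ centralizer ({r} : Set X) := by
        refine sup_le (sSup_le fun K hK => absurd ?_ (comp_not_le_norm hK S)) fun x hx => ?_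
        · rw [normalizer_eq_top_iff.2 hn]; exact le_top
        · exact mem_centralizer_singleton_iff.2 (hr x (fitting_le_sylow hO S hx)).eq.symm
      exact fun x hx => mem_centralizer_singleton_iff.1 (hle hx)
    obtain ⟨k, hk⟩ := S.2 ⟨r, fitting_le_sylow hO S hrF⟩
    exact orderOf_eq_one_iff.1 (Nat.eq_one_of_dvd_coprimes (ho.coprime_two_right.pow_right k) dvd_rfl
      (orderOf_dvd_of_pow_eq_one (congrArg Subtype.val hk :)))
  · obtain ⟨J, c⟩ := exists_str h hO hab hn hbase
    exact c.cent_sylow ho hr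

/-- The image of a group of odd order centralised by `S` lies in the odd core. -/
theorem mem_oddCore_of_cent (h : CI X) {S : Sylow 2 X} (hab : ¬ IsMulCommutative (S : Subgroup X))
    (hbase : Base.{u} (Nat.card X)) {r : X} (ho : Odd (orderOf r)) (hr : ∀ s ∈ (S : Subgroup X), Commute r s) :
    r ∈ Cfsg.oddCore X := by
  obtain ⟨N, hN⟩ : ∃ N, N = Cfsg.oddCore X := ⟨_, rfl⟩
  haveI : N.Normal := hN ▸ inferInstance
  have hodd : Odd (Nat.card N) := hN ▸ Char.card_oddCore_odd X
  have hO : Cfsg.oddCore (X ⧸ N) = ⊥ := by subst hN; exact Fusion.pPrimeCore_quotient_eq_bot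
  obtain ⟨π, hπ⟩ : ∃ π, π = QuotientGroup.mk' N := ⟨_, rfl⟩
  have hs : Function.Surjective π := hπ ▸ QuotientGroup.mk'_surjective N
  have hab' : ¬ IsMulCommutative (Sylow.mapSurjective hs S : Subgroup (X ⧸ N)) := fun hc => by
    refine hab ⟨⟨fun a b => Subtype.ext ?_⟩⟩
    have h1 : π ⁅(a : X), (b : X)⁆ = 1 := by
      rw [map_commutatorElement, commutatorElement_eq_one_iff_commute]
      exact congrArg Subtype.val (hc.is_comm.comm
        ⟨π a, by rw [Sylow.coe_mapSurjective]; exact mem_map_of_mem π a.2⟩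
        ⟨π b, by rw [Sylow.coe_mapSurjective]; exact mem_map_of_mem π b.2⟩)
    have h2 : ⁅(a : X), (b : X)⁆ ∈ N := (QuotientGroup.eq_one_iff _).1 (by rw [hπ] at h1; exact h1)
    obtain ⟨k, hk⟩ := S.2 ⁅a, b⁆
    exact commutatorElement_eq_one_iff_commute.1 (orderOf_eq_one_iff.1 (Nat.eq_one_of_dvd_coprimes
      (hodd.coprime_two_right.pow_right k) ((Subgroup.orderOf_mk _ h2) ▸ orderOf_dvd_natCard _)
      (orderOf_dvd_of_pow_eq_one (congrArg Subtype.val hk :))))
  have h1 : π r = 1 := cent_sylow_gen (h.quotient_odd hodd) hO hab'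
    (hbase.mono (Nat.le_of_dvd Nat.card_pos (Subgroup.card_quotient_dvd_card N)))
    (ho.of_dvd_nat (orderOf_map_dvd π r)) fun s hs' => by
      rw [Sylow.coe_mapSurjective] at hs'
      obtain ⟨t, ht, rfl⟩ := hs'
      exact (hr t ht).map π
  rw [← hN]
  exact (QuotientGroup.eq_one_iff r).1 (by rw [hπ] at h1; exact h1)

end Cfsg.Agent.CI
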