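import Cfsg.Agent.Lib.CI.Component
import Cfsg.Agent.Lib.Walter.R3.Final
import Cfsg.Agent.Lib.Walter.Main
import Cfsg.Agent.Lib.Walter.TypeFacts
import Cfsg.Agent.Lib.Walter.Core.Irred

/-!
# The component is doubly transitive on its Sylow 2-subgroups

Its central quotient has a strongly embedded subgroup: by induction, or, if it has abelian Sylow 2-subgroups, because
irreducibility leaves no element of `S ∩ J` outside the centre of `J` central in `S`.
-/

set_option autoImplicit false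
set_option linter.style.haveILetI false
set_option linter.unusedSectionVars false
set_option linter.dupNamespace false

namespace Cfsg.Agent.CI

open Subgroup Cfsg.Agent Cfsg.Agent.Solv.AbelianTwo

universe u

/-- The inductive hypothesis. -/
def Base (n : ℕ) : Prop :=
  ∀ (L : Type u) [Group L] [Finite L] [IsSimpleGroup L], ¬ IsMulCommutative L → CI L → Nat.card L ≤ n →
    Ab2 L ∨ ∃ H : Subgroup L, Cfsg.IsStronglyEmbedded H

theorem Base.mono {m n : ℕ} (h : Base.{u} n) (hmn : m ≤ n) : Base.{u} m := fun L _ _ _ hna hci hc =>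
  h L hna hci (hc.trans hmn)

/-- Elementary Sylow 2-subgroups of a simple group with abelian ones. -/
theorem sq_of_ab2 {K : Type u} [Group K] [Finite K] [IsSimpleGroup K] (hna : ¬ IsMulCommutative K) (hab : Ab2 K)
    (P : Sylow 2 K) : ∀ x ∈ (P : Subgroup K), x * x = 1 :=
  (Walter.cyc_of_ktype hab
    (Walter.simpleStatement_of SEB.sol_all (Walter.R3.rankThreeStatement_of SEB.sol_all) K hna hab) P).sq

variable {X : Type u} [Group X] [Finite X] {J : Subgroup X}

theorem comp_se (hJ : Cfsg.IsComponent J) (S : Sylow 2 X) (h : CI X) (hO : Cfsg.oddCore X = ⊥)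
    (hab : ¬ IsMulCommutative (S : Subgroup X)) (hbase : Base.{u} (Nat.card X)) :
    ∃ H : Subgroup (J ⧸ Subgroup.center J), Cfsg.IsStronglyEmbedded H := by
  suffices hgen : ∀ Z : Subgroup J, ∀ [Z.Normal], Z = Subgroup.center J →
      ∃ H : Subgroup (J ⧸ Z), Cfsg.IsStronglyEmbedded H from hgen _ rfl
  intro Z _ hZ
  haveI : IsSimpleGroup (J ⧸ Z) := by subst hZ; exact hJ.2.2
  have hZ2 : IsPGroup 2 Z := hZ ▸ comp_center_two hJ hO
  set π := QuotientGroup.mk' Z with hπ
  have hπs : Function.Surjective π := QuotientGroup.mk'_surjective Z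
  have hna : ¬ IsMulCommutative (J ⧸ Z) := fun hc => by
    have h1 : (⊤ : Subgroup J).map π = ⊥ := by
      rw [← comp_perfect hJ, Subgroup.map_commutator, commutator_eq_bot_iff_le_centralizer]
      exact fun a _ => mem_centralizer_iff.2 fun b _ => hc.is_comm.comm b a
    rw [Subgroup.map_eq_bot_iff, hπ, QuotientGroup.ker_mk', hZ] at h1
    exact Solv.qs_center_ne_top hJ.2 (top_le_iff.1 h1)
  have hci : CI (J ⧸ Z) := (h.subgroup J).quotient_two hZ2
  have hker : IsPGroup 2 π.ker := by rw [hπ, QuotientGroup.ker_mk']; exact hZ2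
  have hcard : Nat.card (J ⧸ Z) ≤ Nat.card X :=
    (Nat.le_of_dvd Nat.card_pos (Subgroup.card_quotient_dvd_card Z)).trans
      (Nat.le_of_dvd Nat.card_pos J.card_subgroup_dvd_card)
  rcases hbase _ hna hci hcard with hA | ⟨H, hH⟩
  swap
  · exact ⟨H, hH⟩
  obtain ⟨P, hPe⟩ := (comp_sylIn hJ S).exists_sylow_subgroupOf
  obtain ⟨x, hx, hxn⟩ := exists_noncentral hJ S h hO hab
  have hmP : ∀ y : J, y ∈ (P : Subgroup J) ↔ (y : X) ∈ (S : Subgroup X) := fun y => by
    rw [hPe, mem_subgroupOf]; exact ⟨fun h => h.1, fun h => ⟨h, y.2⟩⟩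
  set P' := Sylow.mapSurjective hπs P with hP'
  have hPm : (P' : Subgroup (J ⧸ Z)) = (P : Subgroup J).map π := Sylow.coe_mapSurjective hπs P
  have hback : ∀ y : J, π y ∈ (P' : Subgroup (J ⧸ Z)) → y ∈ (P : Subgroup J) := fun y hy => by
    rw [hPm] at hy
    rw [← comap_map_eq_self (hker.le_sylow_of_normal P)]
    exact hy
  have hZcen : ∀ y ∈ Z, Cen S (y : X) := fun y hy => by
    have h1 : y ∈ (P : Subgroup J) := hZ2.le_sylow_of_normal P hy
    refine cen_of_centralises hJ S h ((hmP y).1 h1) (mem_centralizer_iff.2 fun j hj => ?_)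
    rw [hZ] at hy
    exact congrArg Subtype.val (Subgroup.mem_center_iff.1 hy ⟨j, hj⟩)
  have hnc : ∀ y ∈ (P : Subgroup J), Cen S (y : X) → y ∈ Z := by
    intro y hy hyc
    let C0 : Subgroup J :=
      { carrier := {y | y ∈ (P : Subgroup J) ∧ Cen S (y : X)}
        one_mem' := ⟨one_mem _, fun s _ => Commute.one_right s⟩
        mul_mem' := fun {a b} ha hb => ⟨mul_mem ha.1 hb.1, fun s hs => (ha.2 s hs).mul_right (hb.2 s hs)⟩
        inv_mem' := fun {a} ha => ⟨inv_mem ha.1, fun s hs => (ha.2 s hs).inv_right⟩ }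
    have hsq := sq_of_ab2 hna hA P'
    rcases Walter.irreducible hna hA P' (C0.map π) (by
        rintro _ ⟨a, ha, rfl⟩
        have h1 : π a ∈ (P' : Subgroup (J ⧸ Z)) := hPm ▸ mem_map_of_mem π ha.1
        exact ⟨h1, by rw [pow_two]; exact hsq _ h1⟩) (by
        rintro n hn _ ⟨a, ha, rfl⟩
        obtain ⟨g, rfl⟩ := hπs n
        have h1 : π g * π a * (π g)⁻¹ ∈ (P' : Subgroup (J ⧸ Z)) :=
          (mem_normalizer_iff.1 hn _).1 (hPm ▸ mem_map_of_mem π ha.1)
        rw [← map_inv, ← map_mul, ← map_mul] at h1 ⊢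
        exact mem_map_of_mem π ⟨hback _ h1, h.cen_conj ((hmP a).1 ha.1) ha.2 ((hmP _).1 (hback _ h1))⟩) with e | e
    · rw [← QuotientGroup.ker_mk' Z]
      exact MonoidHom.mem_ker.2 ((Subgroup.eq_bot_iff_forall _).1 e _ (mem_map_of_mem π ⟨hy, hyc⟩))
    · exfalso
      have hxP : (⟨x, hx.2⟩ : J) ∈ (P : Subgroup J) := (hmP _).2 hx.1
      have h1 := hPm ▸ mem_map_of_mem π hxP
      obtain ⟨a, ha, he⟩ := e _ h1 (by rw [pow_two]; exact hsq _ h1)
      have h2 : a⁻¹ * ⟨x, hx.2⟩ ∈ Z := QuotientGroup.eq.1 he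
      refine hxn fun s hs => ?_
      have := (ha.2 s hs).mul_right (hZcen _ h2 s hs)
      rwa [Subgroup.coe_mul, Subgroup.coe_inv, mul_inv_cancel_left] at this
  refine ⟨normalizer ((P' : Subgroup (J ⧸ Z)) : Set (J ⧸ Z)), ?_, ?_, ?_⟩
  · intro htop
    haveI : (P' : Subgroup (J ⧸ Z)).Normal := normalizer_eq_top_iff.1 htop
    rcases (inferInstance : (P' : Subgroup (J ⧸ Z)).Normal).eq_bot_or_eq_top with e | e
    · refine hxn (hZcen ⟨x, hx.2⟩ ?_)
      rw [← QuotientGroup.ker_mk' Z]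
      exact MonoidHom.mem_ker.2
        ((Subgroup.eq_bot_iff_forall _).1 e _ (hPm ▸ mem_map_of_mem π ((hmP ⟨x, hx.2⟩).2 hx.1)))
    · have hp : IsPGroup 2 (J ⧸ Z) := IsPGroup.iff_card.2 (by
        obtain ⟨k, hk⟩ := IsPGroup.iff_card.1 P'.2
        rw [e, Subgroup.card_top] at hk
        exact ⟨k, hk⟩)
      haveI : Group.IsNilpotent (J ⧸ Z) := hp.isNilpotent
      exact hna ⟨⟨IsSimpleGroup.comm_iff_isSolvable.2 inferInstance⟩⟩
  · have hne : (P' : Subgroup (J ⧸ Z)) ≠ ⊥ := fun e => hxn (hZcen ⟨x, hx.2⟩ (by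
      rw [← QuotientGroup.ker_mk' Z]
      exact MonoidHom.mem_ker.2
        ((Subgroup.eq_bot_iff_forall _).1 e _ (hPm ▸ mem_map_of_mem π ((hmP ⟨x, hx.2⟩).2 hx.1)))))
    obtain ⟨k, hk⟩ := IsPGroup.iff_card.1 P'.2
    have h1 := Subgroup.card_dvd_of_le (le_normalizer (H := (P' : Subgroup (J ⧸ Z))))
    refine even_iff_two_dvd.2 (dvd_trans ?_ h1)
    rw [hk]
    refine dvd_pow_self 2 fun hk0 => hne (Subgroup.card_eq_one.1 ?_)
    rw [hk, hk0, pow_zero]
  · intro g hg
    refine Nat.not_even_iff_odd.1 fun he => ?_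
    obtain ⟨⟨u, hu1, hu2⟩, hu⟩ := exists_prime_orderOf_dvd_card' 2 he.two_dvd
    rw [← Subgroup.orderOf_coe] at hu
    have hin : ∀ w ∈ normalizer ((P' : Subgroup (J ⧸ Z)) : Set (J ⧸ Z)), orderOf w = 2 →
        w ∈ (P' : Subgroup (J ⧸ Z)) := fun w hw hw2 => by
      have hp := P'.2.to_sup_of_normal_left' (IsPGroup.iff_card.2
        ⟨1, by rw [Nat.card_zpowers, hw2, pow_one]⟩ : IsPGroup 2 (zpowers w)) (zpowers_le.2 hw)
      have := sylow_eq_of_le hp le_sup_left
      rw [← this]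
      exact mem_sup_right (mem_zpowers w)
    obtain ⟨v, hv, e⟩ := hu2
    have e' : g * v * g⁻¹ = u := e
    have hv2 : orderOf v = 2 := by
      rw [← orderOf_injective (MulAut.conj g).toMonoidHom (MulAut.conj g).injective v, e]; exact hu
    have huP := hin u hu1 hu
    have hvP := hin v hv hv2
    rw [hPm] at hvP
    obtain ⟨y, hy, rfl⟩ := hvP
    obtain ⟨g', rfl⟩ := hπs g
    rw [← map_inv, ← map_mul, ← map_mul] at e'
    have hgy : g' * y * g'⁻¹ ∈ (P : Subgroup J) := hback _ (e'.symm ▸ huP)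
    have hyn : ¬ Cen S (y : X) := fun hc => by
      have h1 := hnc y hy hc
      rw [show π y = 1 from (QuotientGroup.eq_one_iff y).2 h1, orderOf_one] at hv2
      exact absurd hv2 (by decide)
    have hgN := h.mem_norm ((hmP y).1 hy) hyn (g := (g' : X)) (by simpa using (hmP _).1 hgy)
    refine hg (mem_normalizer_fintype fun w hw => ?_)
    rw [SetLike.mem_coe, hPm] at hw ⊢
    obtain ⟨a, ha, rfl⟩ := hw
    rw [← map_inv, ← map_mul, ← map_mul]
    refine mem_map_of_mem π ((hmP _).2 ?_)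
    simpa using (mem_normalizer_iff.1 hgN _).1 ((hmP a).1 ha)

theorem quotient_center_nonab {J : Type u} [Group J] (hJ : Cfsg.IsQuasisimple J) :
    ¬ IsMulCommutative (J ⧸ Subgroup.center J) := fun hc => by
  haveI := hJ.1
  have h1 : (⊤ : Subgroup J).map (QuotientGroup.mk' (Subgroup.center J)) = ⊥ := by
    rw [← Group.IsPerfect.commutator_eq_top (G := J), _root_.commutator_def, Subgroup.map_commutator,
      commutator_eq_bot_iff_le_centralizer]
    exact fun a _ => mem_centralizer_iff.2 fun b _ => hc.is_comm.comm b a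
  rw [Subgroup.map_eq_bot_iff, QuotientGroup.ker_mk'] at h1
  exact Solv.qs_center_ne_top hJ (top_le_iff.1 h1)

theorem comp_twoTrans (hJ : Cfsg.IsComponent J) (S : Sylow 2 X) (h : CI X) (hO : Cfsg.oddCore X = ⊥)
    (hab : ¬ IsMulCommutative (S : Subgroup X)) (hbase : Base.{u} (Nat.card X)) : TwoTrans J := by
  obtain ⟨H, hH⟩ := comp_se hJ S h hO hab hbase
  haveI := hJ.2.2
  refine (twoTrans_of_se (quotient_center_nonab hJ.2) hH).of_surjective (QuotientGroup.mk' _)
    (QuotientGroup.mk'_surjective _) ?_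
  rw [QuotientGroup.ker_mk']
  exact comp_center_two hJ hO

end Cfsg.Agent.CI
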