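import Cfsg.Agent.Lib.CI.Local
import Cfsg.Agent.Lib.Walter.R3.Basic

/-!
# Simple groups: the central involutions

`S` is a non-abelian Sylow 2-subgroup and no subgroup is strongly embedded. The centralisers of the central involutions
have trivial odd cores; those not inside `N(S)` have a component `J`, their largest perfect subgroup, and not all of
these components coincide.
-/

set_option autoImplicit false
set_option linter.style.haveILetI false
set_option linter.unusedSectionVars false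
set_option linter.dupNamespace false

namespace Cfsg.Agent.CI

open Subgroup Cfsg.Agent
open scoped commutatorElement

universe u

variable {G : Type u} [Group G] [Finite G]

/-- A central involution of `S`. -/
def Inv (S : Sylow 2 G) (e : G) : Prop := e ∈ (S : Subgroup G) ∧ orderOf e = 2 ∧ Cen S e

/-- The setting. -/
structure Ctx (S : Sylow 2 G) : Prop where
  simple : IsSimpleGroup G
  nonab : ¬ IsMulCommutative G
  ci : CI G
  sab : ¬ IsMulCommutative (S : Subgroup G)
  base : ∀ n, n < Nat.card G → Base.{u} n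
  noSE : ∀ H : Subgroup G, ¬ Cfsg.IsStronglyEmbedded H

/-- What is used about the component of the centraliser of a central involution outside `N(S)`. -/
structure Bad (S : Sylow 2 G) (e : G) (J : Subgroup G) : Prop where
  inv : Inv S e
  le : J ≤ centralizer ({e} : Set G)
  perfect : ⁅J, J⁆ = J
  perfect_le : ∀ R : Subgroup G, R ≤ centralizer ({e} : Set G) → ⁅R, R⁆ = R → R ≤ J
  norm : centralizer ({e} : Set G) ≤ normalizer (J : Set G)
  not_norm : ¬ J ≤ normalizer ((S : Subgroup G) : Set G)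
  qs : Cfsg.IsQuasisimple J
  tt : TwoTrans J
  center_two : IsPGroup 2 (Subgroup.center J)
  syl : Fusion.SylIn 2 ((S : Subgroup G) ⊓ J) J
  split : ∀ s ∈ (S : Subgroup G), ∃ p ∈ (S : Subgroup G) ⊓ J, p * s ∈ (S : Subgroup G) ⊓ centralizer (J : Set G)
  nc : ∃ x ∈ (S : Subgroup G) ⊓ J, ¬ Cen S x
  se : ∃ H : Subgroup (J ⧸ Subgroup.center J), Cfsg.IsStronglyEmbedded H

theorem se_map {K L : Type u} [Group K] [Group L] (φ : K ≃* L) {H : Subgroup K} (hH : Cfsg.IsStronglyEmbedded H) :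
    Cfsg.IsStronglyEmbedded (H.map φ.toMonoidHom) := by
  have hc : ∀ A : Subgroup K, Nat.card (A.map φ.toMonoidHom) = Nat.card A := fun A =>
    Subgroup.card_map_of_injective φ.injective
  refine ⟨fun h => hH.1 (Subgroup.map_injective (f := φ.toMonoidHom) φ.injective (h.trans ?_)),
    by rw [hc]; exact hH.2.1, fun g hg => ?_⟩
  · exact (Subgroup.map_top_of_surjective φ.toMonoidHom φ.surjective).symm
  · obtain ⟨k, rfl⟩ := φ.surjective g
    have h1 := hH.2.2 k fun hk => hg ⟨k, hk, rfl⟩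
    rw [← hc] at h1
    convert h1 using 3
    rw [Subgroup.map_inf _ _ _ φ.injective, Subgroup.map_map, Subgroup.map_map]
    congr 2
    ext x
    simp

theorem Inv.cle {S : Sylow 2 G} {e : G} (he : Inv S e) : (S : Subgroup G) ≤ centralizer ({e} : Set G) :=
  fun s hs => mem_centralizer_singleton_iff.2 (he.2.2 s hs).eq

/-- The commutators of a non-abelian Sylow 2-subgroup of a simple group do not lie in a cyclic subgroup. -/
theorem CI.not_cycDerived [IsSimpleGroup G] (h : CI G) (hna : ¬ IsMulCommutative G) {S : Sylow 2 G}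
    (hsab : ¬ IsMulCommutative (S : Subgroup G)) : ¬ CycDerived (S : Subgroup G) := by
  rintro ⟨d, hd, hall⟩
  set D := ⁅(S : Subgroup G), (S : Subgroup G)⁆ with hD
  have hDd : D ≤ zpowers d := commutator_le.2 hall
  have hDne : D ≠ ⊥ := fun e => hsab ⟨⟨fun a b => Subtype.ext (by
    have h1 : ⁅(a : G), (b : G)⁆ ∈ D := commutator_mem_commutator a.2 b.2
    rw [e, mem_bot] at h1
    exact commutatorElement_eq_one_iff_commute.1 h1)⟩⟩
  have hDS : D ≤ (S : Subgroup G) := hDd.trans (zpowers_le.2 hd)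
  obtain ⟨k, hk⟩ := IsPGroup.iff_card.1 (S.2.to_le hDS)
  have hk0 : k ≠ 0 := fun e => hDne (Subgroup.card_eq_one.1 (by rw [hk, e, pow_zero]))
  obtain ⟨z, hz⟩ := exists_prime_orderOf_dvd_card' (G := D) 2 (hk ▸ dvd_pow_self 2 hk0)
  rw [← Subgroup.orderOf_coe] at hz
  -- a cyclic group has one involution
  have huniq : ∀ x ∈ zpowers d, orderOf x = 2 → x = (z : G) := by
    intro x hx hx2
    obtain ⟨i, rfl⟩ := mem_zpowers_iff.1 hx
    obtain ⟨j, hj⟩ := mem_zpowers_iff.1 (hDd z.2)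
    have hN : 0 < orderOf d := orderOf_pos d
    have key : ∀ m : ℤ, orderOf (d ^ m) = 2 → ((orderOf d : ℤ) ∣ 2 * m) ∧ ¬ ((orderOf d : ℤ) ∣ m) := fun m hm => by
      constructor
      · rw [orderOf_dvd_iff_zpow_eq_one, mul_comm, zpow_mul, zpow_two, ← pow_two, ← hm, pow_orderOf_eq_one]
      · rw [orderOf_dvd_iff_zpow_eq_one]
        intro e
        rw [e, orderOf_one] at hm
        exact absurd hm (by decide)
    obtain ⟨⟨a, ha⟩, ha'⟩ := key i hx2
    obtain ⟨⟨b, hb⟩, hb'⟩ := key j (hj.symm ▸ hz)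
    have ho : ∀ y : ℤ, ∀ w : ℤ, 2 * y = (orderOf d : ℤ) * w → ¬ ((orderOf d : ℤ) ∣ y) → Odd w := fun y w h1 h2 => by
      rcases Int.even_or_odd w with ⟨t, ht⟩ | h
      · exact absurd ⟨t, by subst ht; linarith⟩ h2
      · exact h
    obtain ⟨t, ht⟩ := (ho i a ha ha').sub_odd (ho j b hb hb')
    have : (orderOf d : ℤ) ∣ i - j := ⟨t, by
      have : 2 * (i - j) = (orderOf d : ℤ) * (a - b) := by rw [mul_sub, mul_sub, ha, hb]
      rw [ht] at this
      linarith⟩
    rw [← hj]
    rw [orderOf_dvd_iff_zpow_eq_one, zpow_sub, mul_inv_eq_one] at this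
    exact this
  refine h.isolated_false hna hz (hDS z.2) fun n hn => huniq _ ?_ ?_
  · refine hDd ?_
    have h1 : n * (z : G) * n⁻¹ ∈ D.map (MulAut.conj n).toMonoidHom := ⟨_, z.2, rfl⟩
    have hDn : D.map (MulAut.conj n).toMonoidHom = D := by
      rw [hD, Subgroup.map_commutator, show (S : Subgroup G).map (MulAut.conj n).toMonoidHom = (S : Subgroup G) from
        Fusion.mem_normalizer_iff_cj.1 hn]
    rwa [hDn] at h1
  · rw [← hz]
    exact orderOf_injective (MulAut.conj n).toMonoidHom (MulAut.conj n).injective (z : G)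

namespace Ctx

variable {S : Sylow 2 G} (c : Ctx S)
include c

theorem not_cyc : ¬ CycDerived (S : Subgroup G) :=
  haveI := c.simple
  c.ci.not_cycDerived c.nonab c.sab

theorem cent_ne_top {e : G} (he : orderOf e = 2) : centralizer ({e} : Set G) ≠ ⊤ := fun h => by
  haveI := c.simple
  have hc : e ∈ Subgroup.center G :=
    Subgroup.mem_center_iff.2 fun g => mem_centralizer_singleton_iff.1 (h ▸ mem_top g)
  rw [simple_center c.nonab, mem_bot] at hc
  rw [hc, orderOf_one] at he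
  exact absurd he (by decide)

theorem card_lt {H : Subgroup G} (h : H ≠ ⊤) : Nat.card H < Nat.card G :=
  lt_of_le_of_ne (Nat.le_of_dvd Nat.card_pos H.card_subgroup_dvd_card) fun e => h (eq_top_of_card_eq H e)

theorem sylow_ne_bot : (S : Subgroup G) ≠ ⊥ := fun e => c.sab ⟨⟨fun a b => Subtype.ext (by
  have h1 : (a : G) = 1 := (Subgroup.eq_bot_iff_forall _).1 e _ a.2
  have h2 : (b : G) = 1 := (Subgroup.eq_bot_iff_forall _).1 e _ b.2
  simp [h1, h2])⟩⟩

/-- A proper subgroup with the normaliser of `S` and the centralisers of its central involutions. -/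
theorem se_of {M : Subgroup G} (hM : M ≠ ⊤) (hN : normalizer ((S : Subgroup G) : Set G) ≤ M)
    (hc : ∀ e, Inv S e → centralizer ({e} : Set G) ≤ M) : False := by
  have hSM : (S : Subgroup G) ≤ M := le_normalizer.trans hN
  have hcent : ∀ t ∈ (S : Subgroup G), orderOf t = 2 → centralizer ({t} : Set G) ≤ M := fun t ht ht2 => by
    by_cases hcn : Cen S t
    · exact hc t ⟨ht, ht2, hcn⟩
    · exact (c.ci.cent_le_norm ht hcn).trans hN
  have hinto : ∀ u ∈ M, orderOf u = 2 → ∃ m ∈ M, m * u * m⁻¹ ∈ (S : Subgroup G) := fun u hu hu2 => by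
    have hS : Fusion.SylIn 2 (S : Subgroup G) M := (Fusion.sylIn_top S).mono hSM le_top
    obtain ⟨m, hm, hle⟩ := hS.conj_le (Q := zpowers u)
      (IsPGroup.iff_card.2 ⟨1, by rw [Nat.card_zpowers, hu2, pow_one]⟩) (zpowers_le.2 hu)
    exact ⟨m, hm, hle ⟨u, mem_zpowers u, rfl⟩⟩
  refine c.noSE M ⟨hM, ?_, fun g hg => Nat.not_even_iff_odd.1 fun he => ?_⟩
  · obtain ⟨k, hk⟩ := IsPGroup.iff_card.1 S.2
    refine even_iff_two_dvd.2 (dvd_trans ?_ (card_dvd_of_le hSM))
    rw [hk]
    exact dvd_pow_self 2 fun e => c.sylow_ne_bot (Subgroup.card_eq_one.1 (by rw [hk, e, pow_zero]))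
  obtain ⟨⟨u, hu1, hu2⟩, hu⟩ := exists_prime_orderOf_dvd_card' 2 he.two_dvd
  rw [← Subgroup.orderOf_coe] at hu
  obtain ⟨v, hv, e⟩ := hu2
  have e' : g * v * g⁻¹ = u := e
  have hv2 : orderOf v = 2 := by
    rw [← orderOf_injective (MulAut.conj g).toMonoidHom (MulAut.conj g).injective v, e]; exact hu
  obtain ⟨m, hm, hmu⟩ := hinto u hu1 hu
  obtain ⟨m', hm', hmv⟩ := hinto v hv hv2
  set s := m * u * m⁻¹ with hs
  have h1 : (m' * g⁻¹ * m⁻¹) * s * (m' * g⁻¹ * m⁻¹)⁻¹ = m' * v * m'⁻¹ := by rw [hs, ← e']; group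
  obtain ⟨n, hn, hn1⟩ := c.ci.fusion hmu (g := m' * g⁻¹ * m⁻¹) (by rw [h1]; exact hmv)
  have hs2 : orderOf s = 2 := by
    rw [← hu, hs]; exact orderOf_injective (MulAut.conj m).toMonoidHom (MulAut.conj m).injective u
  have h2 : n⁻¹ * (m' * g⁻¹ * m⁻¹) ∈ M := hcent s hmu hs2 (mem_centralizer_singleton_iff.2 (by
    set h := m' * g⁻¹ * m⁻¹
    calc n⁻¹ * h * s = n⁻¹ * (h * s * h⁻¹) * h := by group
      _ = n⁻¹ * (n * s * n⁻¹) * h := by rw [hn1]
      _ = s * (n⁻¹ * h) := by group))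
  refine hg ?_
  have h3 := mul_mem (mul_mem (inv_mem hm') (mul_mem (hN hn) h2)) hm
  rw [show m'⁻¹ * (n * (n⁻¹ * (m' * g⁻¹ * m⁻¹))) * m = g⁻¹ by group] at h3
  exact inv_mem_iff.1 h3

/-- The odd cores of the centralisers are trivial. -/
theorem core_bot {e : G} (he : Inv S e) : Cfsg.oddCore ↥(centralizer ({e} : Set G)) = ⊥ := by
  haveI := c.simple
  let O : G → Subgroup G := fun f => Walter.R3.Ol (centralizer ({f} : Set G))
  have hcom : ∀ f, Inv S f → ∀ u ∈ O f, ∀ s ∈ (S : Subgroup G), Commute u s := fun f hf =>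
    ((c.ci.odd_cent S (Walter.R3.Ol_odd _) (hf.cle.trans (Walter.R3.Ol_norm _)))).resolve_right c.not_cyc
  have hle : ∀ f g, Inv S f → Inv S g → O f ≤ O g := by
    intro f g hf hg u hu
    have huC : u ∈ centralizer ({g} : Set G) := mem_centralizer_singleton_iff.2 (hcom f hf u hu g hg.1).eq
    refine (Walter.R3.mem_Ol huC).2 (mem_oddCore_of_cent (c.ci.subgroup _) (S := S.subtype hg.cle) ?_ ?_ ?_ ?_)
    · intro hc
      refine c.sab ⟨⟨fun a b => Subtype.ext ?_⟩⟩
      exact congrArg (fun w => ((Subtype.val w : centralizer ({g} : Set G)) : G)) (hc.is_comm.comm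
        ⟨⟨a, hg.cle a.2⟩, mem_subgroupOf.2 a.2⟩ ⟨⟨b, hg.cle b.2⟩, mem_subgroupOf.2 b.2⟩)
    · exact c.base _ (c.card_lt (c.cent_ne_top hg.2.1))
    · rw [← Subgroup.orderOf_coe]; exact Walter.R3.orderOf_odd (Walter.R3.Ol_odd _) hu
    · intro s hs
      exact Subtype.ext (hcom f hf u hu s (mem_subgroupOf.1 hs)).eq
  refine Subgroup.map_injective (centralizer ({e} : Set G)).subtype_injective ?_
  rw [Subgroup.map_bot]
  show O e = ⊥
  by_contra hne
  refine c.se_of (M := normalizer (O e : Set G)) (fun htop => ?_) (fun n hn => ?_) (fun f hf => ?_)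
  · haveI : (O e).Normal := normalizer_eq_top_iff.1 htop
    rcases (inferInstance : (O e).Normal).eq_bot_or_eq_top with h | h
    · exact hne h
    · exact c.cent_ne_top he.2.1 (top_le_iff.1 (h ▸ Walter.R3.Ol_le _))
  · have he' : Inv S (n * e * n⁻¹) := ⟨(mem_normalizer_iff.1 hn e).1 he.1, by
      rw [← he.2.1]; exact orderOf_injective (MulAut.conj n).toMonoidHom (MulAut.conj n).injective e,
      c.ci.cen_conj he.1 he.2.2 ((mem_normalizer_iff.1 hn e).1 he.1)⟩
    refine Fusion.mem_normalizer_of_cj_le (le_trans ?_ (hle _ _ he' he))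
    have hC : Fusion.cj (centralizer ({e} : Set G)) n = centralizer ({n * e * n⁻¹} : Set G) := by
      ext x
      rw [Fusion.mem_cj, mem_centralizer_singleton_iff, mem_centralizer_singleton_iff]
      constructor
      · intro h
        calc x * (n * e * n⁻¹) = n * ((n⁻¹ * x * n) * e) * n⁻¹ := by group
          _ = n * (e * (n⁻¹ * x * n)) * n⁻¹ := by rw [h]
          _ = n * e * n⁻¹ * x := by group
      · intro h
        calc n⁻¹ * x * n * e = n⁻¹ * (x * (n * e * n⁻¹)) * n := by group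
          _ = n⁻¹ * (n * e * n⁻¹ * x) * n := by rw [h]
          _ = e * (n⁻¹ * x * n) := by group
    refine Walter.R3.le_Ol (hC ▸ Fusion.cj_mono (Walter.R3.Ol_le _) n) ?_
      (by rw [Fusion.card_cj]; exact Walter.R3.Ol_odd _)
    rw [← hC, ← Fusion.cj_normalizer]
    exact Fusion.cj_mono (Walter.R3.Ol_norm _) n
  · rw [show O e = O f from le_antisymm (hle e f he hf) (hle f e hf he)]
    exact Walter.R3.Ol_norm _

/-- A centraliser outside `N(S)` has its component. -/
theorem exists_bad {e : G} (he : Inv S e) (hbad : ¬ centralizer ({e} : Set G) ≤ normalizer ((S : Subgroup G) : Set G)) :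
    ∃ J, Bad S e J := by
  haveI := c.simple
  set C := centralizer ({e} : Set G) with hC
  set S' := S.subtype he.cle with hS'
  have hmS : ∀ x : C, x ∈ (S' : Subgroup C) ↔ (x : G) ∈ (S : Subgroup G) := fun x => mem_subgroupOf
  have hab : ¬ IsMulCommutative (S' : Subgroup C) := fun hc =>
    c.sab ⟨⟨fun a b => Subtype.ext (congrArg (fun w => ((Subtype.val w : C) : G)) (hc.is_comm.comm
      ⟨⟨a, he.cle a.2⟩, (hmS _).2 a.2⟩ ⟨⟨b, he.cle b.2⟩, (hmS _).2 b.2⟩))⟩⟩
  have hn : ¬ (S' : Subgroup C).Normal := fun hn => hbad fun x hx => mem_normalizer_fintype fun s hs =>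
    (hmS _).1 (hn.conj_mem ⟨s, he.cle hs⟩ ((hmS _).2 hs) ⟨x, hx⟩)
  obtain ⟨J₀, s⟩ := exists_str (c.ci.subgroup C) (c.core_bot he) hab hn (c.base _ (c.card_lt (c.cent_ne_top he.2.1)))
  set J := J₀.map C.subtype with hJ
  have hJe : J₀ = J.subgroupOf C := (comap_map_eq_self_of_injective C.subtype_injective J₀).symm
  have hcen : ∀ x : C, x ∈ (S' : Subgroup C) → (Cen S' x ↔ Cen S (x : G)) := fun x _ =>
    ⟨fun h t ht => congrArg Subtype.val (h ⟨t, he.cle ht⟩ ((hmS _).2 ht)).eq,
      fun h t ht => Subtype.ext (h t ((hmS t).1 ht)).eq⟩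
  let iso : J₀ ≃* J := J₀.equivMapOfInjective C.subtype C.subtype_injective
  have hperf : ⁅J, J⁆ = J := by rw [hJ, ← Subgroup.map_commutator, Solv.qs_self_commutator s.comp.2]
  refine ⟨J, he, map_subtype_le _, hperf, fun R hR hRp => ?_, fun x hx => ?_, fun hle => ?_,
    Local.isQuasisimple_congr iso s.comp.2, ?_, ?_, ?_, fun t ht => ?_, ?_, ?_⟩
  · have h1 : ⁅R.subgroupOf C, R.subgroupOf C⁆ = R.subgroupOf C := by
      refine Subgroup.map_injective C.subtype_injective ?_
      rw [Subgroup.map_commutator, map_subgroupOf_eq_of_le hR, hRp]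
    rw [← map_subgroupOf_eq_of_le hR]
    exact map_mono (s.perfect_le h1)
  · refine mem_normalizer_fintype ?_
    rintro _ ⟨j, hj, rfl⟩
    exact ⟨⟨x, hx⟩ * j * ⟨x, hx⟩⁻¹, s.normal.conj_mem j hj _, rfl⟩
  · refine comp_not_le_norm s.comp S' fun j hj => mem_normalizer_fintype fun t ht => ?_
    exact (hmS _).2 ((mem_normalizer_iff.1 (hle (mem_map_of_mem C.subtype hj)) t).1 ((hmS t).1 ht))
  · refine s.tt.of_surjective iso.symm.toMonoidHom iso.symm.surjective ?_
    rw [(MonoidHom.ker_eq_bot_iff _).2 iso.symm.injective]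
    exact IsPGroup.of_bot
  · intro z
    have hz : iso.symm (z : J) ∈ Subgroup.center J₀ := Subgroup.mem_center_iff.2 fun y => by
      refine iso.injective ?_
      rw [map_mul, map_mul, iso.apply_symm_apply]
      exact Subgroup.mem_center_iff.1 z.2 _
    obtain ⟨k, hk⟩ := comp_center_two s.comp (c.core_bot he) ⟨_, hz⟩
    refine ⟨k, Subtype.ext (iso.symm.injective ?_)⟩
    rw [SubgroupClass.coe_pow, map_pow, Subgroup.coe_one, map_one]
    exact congrArg Subtype.val hk
  · have h1 := s.sylIn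
    refine ⟨inf_le_right, S.2.to_le inf_le_left, fun hd => h1.not_dvd ?_⟩
    have e1 : ((S' : Subgroup C) ⊓ J₀) = ((S : Subgroup G) ⊓ J).subgroupOf C := by
      rw [hJe]; ext x; exact ⟨fun h => ⟨(hmS x).1 h.1, h.2⟩, fun h => ⟨(hmS x).2 h.1, h.2⟩⟩
    rwa [e1, hJe, relIndex_subgroupOf (map_subtype_le _)]
  · obtain ⟨p, hp, hpt⟩ := s.split ((hmS ⟨t, he.cle ht⟩).2 ht)
    refine ⟨p, ⟨(hmS p).1 hp.1, mem_map_of_mem C.subtype hp.2⟩, (hmS _).1 hpt.1, mem_centralizer_iff.2 ?_⟩
    rintro _ ⟨j, hj, rfl⟩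
    exact congrArg Subtype.val (mem_centralizer_iff.1 hpt.2 j hj)
  · obtain ⟨x, hx, hxn⟩ := exists_noncentral s.comp S' s.ci s.core s.nonab
    exact ⟨x, ⟨(hmS x).1 hx.1, mem_map_of_mem C.subtype hx.2⟩, fun h => hxn ((hcen x hx.1).2 h)⟩
  · obtain ⟨H, hH⟩ := s.se
    have hZ : (Subgroup.center J₀).map iso.toMonoidHom = Subgroup.center J := by
      ext x
      refine ⟨?_, fun hx => ⟨iso.symm x, Subgroup.mem_center_iff.2 fun y => iso.injective ?_, iso.apply_symm_apply x⟩⟩
      · rintro ⟨z, hz, rfl⟩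
        refine Subgroup.mem_center_iff.2 fun y => iso.symm.injective ?_
        rw [map_mul, map_mul, MulEquiv.coe_toMonoidHom, iso.symm_apply_apply]
        exact Subgroup.mem_center_iff.1 hz _
      · rw [map_mul, map_mul, iso.apply_symm_apply]
        exact Subgroup.mem_center_iff.1 hx _
    exact ⟨_, se_map (QuotientGroup.congr _ _ iso hZ) hH⟩

end Ctx

end Cfsg.Agent.CI
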