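import Cfsg.Agent.Lib.CI.Final
import Cfsg.Agent.Lib.CI.Ext
import Cfsg.Agent.Lib.Solv.PLength
import Cfsg.Agent.Lib.Small.UCover.Main
import Cfsg.Agent.S2112

/-!
# The groups with central Sylow 2-intersections

Modulo the odd core either the Sylow 2-subgroup is normal, or the component is `SL(2,5)`, or a non-cyclic derived
subgroup makes the Sylow 2-subgroup centralise the odd core, and the component lifts to a cover of `Sz(q)` or `PSU₃(q)`.
-/

set_option autoImplicit false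
set_option linter.style.haveILetI false
set_option linter.unusedSectionVars false
set_option linter.dupNamespace false

namespace Cfsg.Agent.CI

open Subgroup Cfsg.Agent
open scoped commutatorElement

universe u v

section cyc

variable {G : Type u} [Group G]

theorem CycDerived.mono {S T : Subgroup G} (h : CycDerived S) (hT : T ≤ S) : CycDerived T := by
  obtain ⟨c, -, hc⟩ := h
  haveI : IsCyclic ↥(T ⊓ zpowers c) :=
    isCyclic_of_injective (Subgroup.inclusion (inf_le_right : T ⊓ zpowers c ≤ zpowers c))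
      (Subgroup.inclusion_injective _)
  obtain ⟨g, hg⟩ := IsCyclic.exists_generator (α := ↥(T ⊓ zpowers c))
  refine ⟨g, g.2.1, fun a ha b hb => ?_⟩
  have h1 : ⁅a, b⁆ ∈ T := by
    rw [commutatorElement_def]; exact mul_mem (mul_mem (mul_mem ha hb) (inv_mem ha)) (inv_mem hb)
  obtain ⟨i, hi⟩ := hg ⟨⁅a, b⁆, h1, hc a (hT ha) b (hT hb)⟩
  exact ⟨i, congrArg Subtype.val hi⟩

theorem CycDerived.map {H : Type v} [Group H] {S : Subgroup G} (h : CycDerived S) (f : G →* H) :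
    CycDerived (S.map f) := by
  obtain ⟨c, hcS, hc⟩ := h
  refine ⟨f c, mem_map_of_mem f hcS, ?_⟩
  rintro _ ⟨a, ha, rfl⟩ _ ⟨b, hb, rfl⟩
  obtain ⟨i, hi⟩ := mem_zpowers_iff.1 (hc a ha b hb)
  exact ⟨i, by show f c ^ i = _; rw [← map_zpow, hi, map_commutatorElement]⟩

theorem CycDerived.of_map {H : Type v} [Group H] {S : Subgroup G} (f : G →* H) (hf : Function.Injective f)
    (h : CycDerived (S.map f)) : CycDerived S := by
  obtain ⟨_, ⟨c, hcS, rfl⟩, hc⟩ := h
  refine ⟨c, hcS, fun a ha b hb => ?_⟩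
  obtain ⟨i, hi⟩ := mem_zpowers_iff.1 (hc _ (mem_map_of_mem f ha) _ (mem_map_of_mem f hb))
  exact ⟨i, hf (by show f (c ^ i) = _; rw [map_zpow, hi, map_commutatorElement])⟩

end cyc

theorem card_comap {L : Type u} [Group L] {J : Type v} [Group J] (f : L →* J) (hf : Function.Surjective f)
    (Z : Subgroup J) : Nat.card (Z.comap f) = Nat.card f.ker * Nat.card Z := by
  have h := Subgroup.relIndex_ker (f := f) (K := Z.comap f)
  rw [map_comap_eq_self_of_surjective hf] at h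
  rw [← h, Subgroup.relIndex, ← Nat.card_congr (subgroupOfEquivOfLe (ker_le_comap f Z)).toEquiv]
  exact ((f.ker.subgroupOf (Z.comap f)).card_mul_index).symm

/-- A group with normal Sylow 2-subgroup modulo the odd core. -/
theorem solvable_case {G : Type u} [Group G] [Finite G] {N : Subgroup G} [N.Normal] (hN : Odd (Nat.card N))
    (S : Sylow 2 (G ⧸ N)) (hS : (S : Subgroup (G ⧸ N)).Normal) :
    Group.IsSolvable G ∧ Cfsg.PLengthLE 2 1 G := by
  haveI := hS
  haveI : Fact (Nat.Prime 2) := ⟨Nat.prime_two⟩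
  set π := QuotientGroup.mk' N with hπ
  have hπs : Function.Surjective π := QuotientGroup.mk'_surjective N
  have hodd : Odd (S : Subgroup (G ⧸ N)).index :=
    Nat.not_even_iff_odd.1 fun he => S.not_dvd_index he.two_dvd
  refine ⟨?_, (Solv.PLen.pLengthLE_iff 1).2 ?_⟩
  · haveI : Group.IsSolvable ↥(S : Subgroup (G ⧸ N)) := by
      haveI := S.2.isNilpotent
      infer_instance
    haveI : Group.IsSolvable ((G ⧸ N) ⧸ (S : Subgroup (G ⧸ N))) := Bender.AbelianSolvable.odd_solvable' hodd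
    haveI : Group.IsSolvable (G ⧸ N) := Group.isSolvable_of_ker_le_range (S : Subgroup (G ⧸ N)).subtype
      (QuotientGroup.mk' (S : Subgroup (G ⧸ N))) (by rw [QuotientGroup.ker_mk', Subgroup.range_subtype])
    haveI : Group.IsSolvable ↥N := Bender.AbelianSolvable.odd_solvable' hN
    exact Group.isSolvable_of_ker_le_range N.subtype π (by rw [hπ, QuotientGroup.ker_mk', Subgroup.range_subtype])
  have hle : N ≤ (S : Subgroup (G ⧸ N)).comap π := fun x hx => by
    rw [mem_comap, show π x = 1 from (QuotientGroup.eq_one_iff x).2 hx]; exact one_mem _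
  let f : ℕ → Subgroup G
    | 0 => ⊥
    | 1 => N
    | 2 => (S : Subgroup (G ⧸ N)).comap π
    | _ + 3 => ⊤
  refine ⟨f, rfl, fun n hn => ?_, fun n => ?_, fun n => ?_, fun n => ?_⟩
  · obtain ⟨k, rfl⟩ : ∃ k, n = k + 3 := ⟨n - 3, by omega⟩
    rfl
  · rcases n with _ | _ | _ | n <;> simp only [f] <;> infer_instance
  · rcases n with _ | _ | _ | n
    · exact bot_le
    · exact hle
    · exact le_top
    · exact le_rfl
  rcases n with _ | _ | _ | n
  · show Solv.PLen.OkIndex 2 0 ((⊥ : Subgroup G).relIndex N)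
    rw [Subgroup.relIndex_bot_left, Solv.PLen.OkIndex, if_pos (by decide)]
    exact hN.coprime_two_right
  · show Solv.PLen.OkIndex 2 1 (N.relIndex ((S : Subgroup (G ⧸ N)).comap π))
    have h := Subgroup.relIndex_ker (f := π) (K := (S : Subgroup (G ⧸ N)).comap π)
    rw [map_comap_eq_self_of_surjective hπs, hπ, QuotientGroup.ker_mk'] at h
    rw [hπ, h, Solv.PLen.OkIndex, if_neg (by decide)]
    exact IsPGroup.iff_card.1 S.2
  · show Solv.PLen.OkIndex 2 2 (((S : Subgroup (G ⧸ N)).comap π).relIndex ⊤)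
    rw [Subgroup.relIndex_top_right, Subgroup.index_comap_of_surjective _ hπs, Solv.PLen.OkIndex,
      if_pos (by decide)]
    exact hodd.coprime_two_right
  · show Solv.PLen.OkIndex 2 (n + 3) ((⊤ : Subgroup G).relIndex ⊤)
    rw [Subgroup.relIndex_self]
    exact Solv.PLen.OkIndex.one

/-- The possible components. -/
theorem comp_shape {J : Type u} [Group J] [Finite J] (hperf : ⁅(⊤ : Subgroup J), (⊤ : Subgroup J)⁆ = ⊤)
    (hci : CI J) {Z : Subgroup J} [Z.Normal] (hZc : Z ≤ Subgroup.center J) (hZ2 : IsPGroup 2 Z)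
    [IsSimpleGroup (J ⧸ Z)] (hna : ¬ IsMulCommutative (J ⧸ Z)) {H : Subgroup (J ⧸ Z)}
    (hH : Cfsg.IsStronglyEmbedded H) (P : Sylow 2 J) (hP : ¬ IsMulCommutative (P : Subgroup J)) :
    Nonempty (J ≃* Matrix.SpecialLinearGroup (Fin 2) (ZMod 5)) ∨
      (¬ CycDerived (P : Subgroup J) ∧
        ((∃ (F : Type) (_ : Field F) (_ : Fintype F) (m : ℕ), 1 ≤ m ∧ Fintype.card F = 2 ^ (2 * m + 1) ∧
            Nonempty ((J ⧸ Z) ≃* ↥(Cfsg.Lie.Sz F (2 ^ (m + 1))))) ∨
          (∃ (F : Type) (_ : Field F) (_ : Fintype F) (n : ℕ), 2 ≤ n ∧ Fintype.card F = (2 ^ n) ^ 2 ∧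
            Nonempty ((J ⧸ Z) ≃* Cfsg.PSU 3 F (2 ^ n))))) := by
  set π := QuotientGroup.mk' Z with hπ
  have hπs : Function.Surjective π := QuotientGroup.mk'_surjective Z
  set P' := Sylow.mapSurjective hπs P with hP'
  have hci' : CI (J ⧸ Z) := hci.quotient_two hZ2
  have hcyc : ¬ IsMulCommutative (P' : Subgroup (J ⧸ Z)) → ¬ CycDerived (P : Subgroup J) := fun h hc => by
    refine hci'.not_cycDerived hna h ?_
    rw [hP', Sylow.coe_mapSurjective]
    exact hc.map π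
  rcases ident hna hH with ⟨F, iF, iFF, n, hn, hF, ⟨e⟩⟩ | ⟨F, iF, iFF, m, hm, hF, ⟨e⟩⟩ |
    ⟨F, iF, iFF, n, hn, hF, ⟨e⟩⟩
  · left
    haveI : Finite (Matrix.ProjectiveSpecialLinearGroup (Fin 2) F) := Finite.of_equiv _ e.toEquiv
    obtain ⟨Q, ⟨φ⟩⟩ := exists_sylow_equiv e P'
    haveI := (psl_sylow hn hF Q).1
    have hcomm : IsMulCommutative (P' : Subgroup (J ⧸ Z)) :=
      ⟨⟨fun a b => φ.injective (by rw [map_mul, map_mul, IsMulCommutative.is_comm.comm])⟩⟩
    have hZ : Z ≠ ⊥ := fun hZ => by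
      refine hP ⟨⟨fun a b => Subtype.ext ?_⟩⟩
      have hinj : Function.Injective π := (MonoidHom.ker_eq_bot_iff _).1 (by rw [hπ, QuotientGroup.ker_mk', hZ])
      refine hinj ?_
      have hm : ∀ x : (P : Subgroup J), π x ∈ (P' : Subgroup (J ⧸ Z)) := fun x => by
        rw [hP', Sylow.coe_mapSurjective]; exact mem_map_of_mem π x.2
      show π ((a : J) * b) = π ((b : J) * a)
      rw [map_mul, map_mul]
      exact congrArg Subtype.val (hcomm.is_comm.comm ⟨_, hm a⟩ ⟨_, hm b⟩)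
    have hn2 : n = 2 := by
      rcases cover_cases hperf hZc hZ2 hZ hna hH P' with ⟨h4, -⟩ | ⟨-, hc, h8, -⟩
      · rw [Nat.card_congr φ.toEquiv, (psl_sylow hn hF Q).2] at h4
        exact Nat.pow_right_injective le_rfl (h4.trans (by norm_num : 4 = 2 ^ 2))
      · exfalso
        rw [hc, show commutator (P' : Subgroup (J ⧸ Z)) = ⊥ from by
          haveI := hcomm
          rw [_root_.commutator_def, commutator_eq_bot_iff_le_centralizer]
          exact fun a _ => mem_centralizer_iff.2 fun b _ => IsMulCommutative.is_comm.comm b a,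
          Subgroup.card_bot] at h8
        exact absurd h8 (by norm_num)
    subst hn2
    have h60 : Nat.card (J ⧸ Z) = 60 := by
      have h1 := Classical.Dickson.card_psl F
      rw [hF, ← Nat.card_congr e.toEquiv, show Nat.gcd 2 (2 ^ 2 - 1) = 1 from rfl, mul_one] at h1
      exact h1.trans (by norm_num)
    exact sl_two_five hperf hZc hZ2 hZ h60 hH P hP
  · obtain ⟨f⟩ := Cfsg.Agent.Lie.Suzuki.lie_sz_equiv (F := F) hF hm
    haveI : Finite (Cfsg.Sz F m) := Finite.of_equiv _ (e.trans f.symm).toEquiv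
    obtain ⟨Q, ⟨φ⟩⟩ := exists_sylow_equiv (e.trans f.symm) P'
    refine Or.inr ⟨hcyc fun hc => ?_, Or.inl ⟨F, iF, iFF, m, hm, hF, ⟨e⟩⟩⟩
    haveI := hc
    obtain ⟨-, -, q3, q4⟩ := S0330.result hm hF Q
    rw [q3, show commutator Q = ⊥ from by
      rw [_root_.commutator_def, commutator_eq_bot_iff_le_centralizer]
      exact fun a _ => mem_centralizer_iff.2 fun b _ => φ.symm.injective (by
        rw [map_mul, map_mul, IsMulCommutative.is_comm.comm]), Subgroup.card_bot] at q4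
    exact absurd q4.symm (Nat.one_lt_two_pow (by omega)).ne'
  · haveI : Finite (Cfsg.PSU 3 F (2 ^ n)) := Finite.of_equiv _ e.toEquiv
    obtain ⟨Q, ⟨φ⟩⟩ := exists_sylow_equiv e P'
    refine Or.inr ⟨hcyc fun hc => ?_, Or.inr ⟨F, iF, iFF, n, hn, hF, ⟨e⟩⟩⟩
    haveI := hc
    obtain ⟨x, y, hxy⟩ := (S1141.result hn hF Q).2.2.2.2.1
    exact hxy (φ.symm.injective (by rw [map_mul, map_mul, IsMulCommutative.is_comm.comm]))

/-- The lift of the component: a group with centre inside the odd core centralised by `S`. -/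
theorem exists_lift {G : Type u} [Group G] [Finite G] {N : Subgroup G} [N.Normal] (hN : Odd (Nat.card N))
    (S : Sylow 2 G) {J : Subgroup (G ⧸ N)}
    (c : Str (Sylow.mapSurjective (QuotientGroup.mk'_surjective N) S) J)
    (hcent : ∀ u ∈ N, ∀ s ∈ (S : Subgroup G), Commute u s) :
    ∃ (A L : Subgroup G), IsMulCommutative ↥A ∧ IsPGroup 2 ↥A ∧ (A ⊔ L).Normal ∧ Odd (A ⊔ L).index ∧
      (∀ a ∈ A, ∀ l ∈ L, a * l = l * a) ∧ ⁅(⊤ : Subgroup L), (⊤ : Subgroup L)⁆ = ⊤ ∧
      ∃ f : L →* J, Function.Surjective f ∧ f.ker ≤ Subgroup.center L ∧ Odd (Nat.card f.ker) ∧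
        (Subgroup.center J = ⊥ → A ⊓ L = ⊥) := by
  set π := QuotientGroup.mk' N with hπ
  have hπs : Function.Surjective π := QuotientGroup.mk'_surjective N
  haveI := c.normal
  haveI : (Cfsg.fittingSubgroup (G ⧸ N)).Normal := Solv.fittingSubgroup_normal
  set F := Cfsg.fittingSubgroup (G ⧸ N) with hFdef
  obtain ⟨-, -, hSJF⟩ := c.odd_index
  have hFS : F ≤ (Sylow.mapSurjective hπs S : Subgroup (G ⧸ N)) := fitting_le_sylow c.core _
  have hS' : ∀ y, y ∈ (Sylow.mapSurjective hπs S : Subgroup (G ⧸ N)) ↔ ∃ s ∈ (S : Subgroup G), π s = y := fun y => by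
    rw [Sylow.coe_mapSurjective, Subgroup.mem_map]
  have hFJ : ∀ a ∈ F, ∀ j ∈ J, j * a = a * j := fun a ha j hj => by
    rw [hFdef, ← c.inf_cent_eq] at ha
    exact mem_centralizer_iff.1 ha.2 j hj
  have hker : ∀ x, π x = 1 ↔ x ∈ N := fun x => QuotientGroup.eq_one_iff x
  have hinj : ∀ x : G, (∃ k : ℕ, x ^ 2 ^ k = 1) → x ∈ N → x = 1 := fun x ⟨k, hk⟩ hx =>
    orderOf_eq_one_iff.1 (Nat.eq_one_of_dvd_coprimes (hN.coprime_two_right.pow_right k)
      ((Subgroup.orderOf_mk _ hx) ▸ orderOf_dvd_natCard _) (orderOf_dvd_of_pow_eq_one hk))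
  have hpow : ∀ s ∈ (S : Subgroup G), ∃ k : ℕ, s ^ 2 ^ k = 1 := fun s hs => by
    obtain ⟨k, hk⟩ := S.2 ⟨s, hs⟩
    exact ⟨k, congrArg Subtype.val hk⟩
  -- the centraliser of the core
  set C := centralizer (N : Set G) with hC
  haveI : C.Normal := hC ▸ inferInstance
  have hSC : (S : Subgroup G) ≤ C := fun s hs => mem_centralizer_iff.2 fun u hu => (hcent u hu s hs).eq
  have hJC : J ≤ C.map π := by
    haveI : (C.map π).Normal := Subgroup.Normal.map inferInstance _ hπs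
    rcases Solv.qs_normal_le_center_or_top c.comp.2 ((C.map π).subgroupOf J) with h | h
    · exact Subgroup.subgroupOf_eq_top.1 h
    · exfalso
      obtain ⟨x, hx, hxn⟩ := exists_noncentral c.comp _ c.ci c.core c.nonab
      obtain ⟨s, hs, hsx⟩ := (hS' x).1 hx.1
      have h1 : (⟨x, hx.2⟩ : J) ∈ Subgroup.center J := h (mem_subgroupOf.2 ⟨s, hSC hs, hsx⟩)
      exact hxn (c.cen hx.1 (mem_centralizer_iff.2 fun j hj =>
        congrArg Subtype.val (Subgroup.mem_center_iff.1 h1 ⟨j, hj⟩)))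
  set D := C ⊓ J.comap π with hD
  haveI : D.Normal := hD ▸ inferInstance
  let g : D →* J :=
    { toFun := fun d => ⟨π (d : G), d.2.2⟩
      map_one' := Subtype.ext (map_one π)
      map_mul' := fun a b => Subtype.ext (map_mul π (a : G) b) }
  have hgs : Function.Surjective g := by
    rintro ⟨j, hj⟩
    obtain ⟨x, hx, rfl⟩ := hJC hj
    exact ⟨⟨x, hx, hj⟩, rfl⟩
  have hgc : g.ker ≤ Subgroup.center D := fun x hx => Subgroup.mem_center_iff.2 fun y => Subtype.ext
    (mem_centralizer_iff.1 y.2.1 _ ((hker _).1 (congrArg Subtype.val hx))).symm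
  obtain ⟨hperf, hmap⟩ := derived_cover g hgs hgc c.perfect
  set L := ⁅D, D⁆ with hL
  have hLD : L ≤ D := Subgroup.commutator_le_left D D
  have hLe : (commutator D).map D.subtype = L := by
    rw [_root_.commutator_def, Subgroup.map_commutator, ← MonoidHom.range_eq_map, Subgroup.range_subtype]
  have hLp : ⁅L, L⁆ = L := by rw [← hLe, ← Subgroup.map_commutator, hperf]
  let f : L →* J := g.comp (Subgroup.inclusion hLD)
  have hfs : Function.Surjective f := by
    intro j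
    obtain ⟨d, hd, e⟩ : j ∈ (commutator D).map g := hmap ▸ mem_top _
    exact ⟨⟨d, hLe ▸ mem_map_of_mem D.subtype hd⟩, e⟩
  have hfker : ∀ x : L, f x = 1 → (x : G) ∈ N := fun x hx => (hker _).1 (congrArg Subtype.val hx)
  have hfc : f.ker ≤ Subgroup.center L := fun x hx => Subgroup.mem_center_iff.2 fun y => Subtype.ext
    (mem_centralizer_iff.1 (hLD y.2).1 _ (hfker x hx)).symm
  have hfo : Odd (Nat.card f.ker) := by
    refine hN.of_dvd_nat ?_
    have h1 : f.ker.map L.subtype ≤ N := by rintro _ ⟨x, hx, rfl⟩; exact hfker x hx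
    rw [← Subgroup.card_map_of_injective (K := f.ker) L.subtype_injective]
    exact Subgroup.card_dvd_of_le h1
  have hLmap : L.map π = J := by
    refine le_antisymm ?_ fun j hj => ?_
    · rintro _ ⟨x, hx, rfl⟩; exact (hLD hx).2
    · obtain ⟨x, e⟩ := hfs ⟨j, hj⟩
      exact ⟨x, x.2, congrArg Subtype.val e⟩
  -- the abelian part
  set A := (S : Subgroup G) ⊓ F.comap π with hA
  have hAC : A ≤ C := inf_le_left.trans hSC
  have hsplit : ∀ x ∈ F.comap π, ∃ n ∈ N, ∃ a ∈ A, x = n * a := fun x hx => by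
    obtain ⟨s, hs, e⟩ := (hS' _).1 (hFS hx)
    refine ⟨x * s⁻¹, (hker _).1 (by rw [map_mul, map_inv, e, mul_inv_cancel]), s,
      ⟨hs, show π s ∈ F from e ▸ hx⟩, by group⟩
  haveI : A.Normal := ⟨fun a ha x => by
    obtain ⟨n, hn, b, hb, e⟩ := hsplit (x * a * x⁻¹) ((inferInstance : (F.comap π).Normal).conj_mem a ha.2 x)
    have hcm : Commute n b := hcent n hn b hb.1
    obtain ⟨i, hi⟩ := hpow a ha.1
    obtain ⟨j, hj⟩ := hpow b hb.1
    have ha' : (x * a * x⁻¹) ^ 2 ^ (i + j) = 1 := by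
      rw [conj_pow, pow_add, pow_mul, hi, one_pow, mul_one, mul_inv_cancel]
    have hb' : b ^ 2 ^ (i + j) = 1 := by rw [pow_add, mul_comm, pow_mul, hj, one_pow]
    rw [e, hcm.mul_pow, hb', mul_one] at ha'
    rw [e, hinj n ⟨_, ha'⟩ hn, one_mul]
    exact hb⟩
  have hAab : IsMulCommutative ↥A := ⟨⟨fun a b => Subtype.ext (commutatorElement_eq_one_iff_commute.1 (hinj _
    (hpow _ (by
      rw [commutatorElement_def]
      exact mul_mem (mul_mem (mul_mem a.2.1 b.2.1) (inv_mem a.2.1)) (inv_mem b.2.1)))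
    ((hker _).1 (by
      rw [map_commutatorElement, commutatorElement_eq_one_iff_commute]
      have hb : π b ∈ F := b.2.2
      rw [hFdef, ← c.inf_cent_eq] at hb
      exact c.cen hb.1 hb.2 _ (hFS a.2.2)))))⟩⟩
  have hA2 : IsPGroup 2 ↥A := S.2.to_le inf_le_left
  have hAL : ∀ a ∈ A, ∀ l ∈ L, a * l = l * a := by
    intro a ha
    have haC := hAC ha
    have key : ∀ d ∈ D, ∃ n ∈ N, n ∈ C ∧ a * d * a⁻¹ = n * d := fun d hd => by
      refine ⟨a * d * a⁻¹ * d⁻¹, (hker _).1 ?_, mul_mem (mul_mem (mul_mem haC hd.1) (inv_mem haC)) (inv_mem hd.1),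
        by group⟩
      rw [map_mul, map_mul, map_mul, map_inv, map_inv, ← hFJ _ ha.2 _ hd.2, mul_inv_cancel_right, mul_inv_cancel]
    have hle : L ≤ centralizer ({a} : Set G) := by
      refine commutator_le.2 fun d hd e he => mem_centralizer_singleton_iff.2 ?_
      obtain ⟨n, hn, hnC, h1⟩ := key d hd
      obtain ⟨n', hn', hnC', h2⟩ := key e he
      have cd : ∀ z ∈ C, Commute n z := fun z hz => (mem_centralizer_iff.1 hz n hn)
      have ce : ∀ z ∈ C, Commute n' z := fun z hz => (mem_centralizer_iff.1 hz n' hn')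
      have h3 : ⁅n * d, n' * e⁆ = ⁅d, e⁆ := by
        rw [commutatorElement_def, commutatorElement_def]
        calc n * d * (n' * e) * (n * d)⁻¹ * (n' * e)⁻¹ = n * (d * n') * (e * d⁻¹ * n⁻¹) * e⁻¹ * n'⁻¹ := by group
          _ = n * (n' * d) * (n⁻¹ * (e * d⁻¹)) * e⁻¹ * n'⁻¹ := by
              rw [(ce d hd.1).eq, ((cd (e * d⁻¹) (mul_mem he.1 (inv_mem hd.1))).inv_left).eq]
          _ = n * (n' * d * n⁻¹) * (e * d⁻¹ * e⁻¹ * n'⁻¹) := by group
          _ = n * (n⁻¹ * (n' * d)) * (n'⁻¹ * (e * d⁻¹ * e⁻¹)) := by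
              rw [((cd (n' * d) (mul_mem hnC' hd.1)).inv_left).eq,
                ((ce (e * d⁻¹ * e⁻¹) (mul_mem (mul_mem he.1 (inv_mem hd.1)) (inv_mem he.1))).inv_left).eq]
          _ = n' * (d * n'⁻¹) * e * d⁻¹ * e⁻¹ := by group
          _ = n' * (n'⁻¹ * d) * e * d⁻¹ * e⁻¹ := by rw [((ce d hd.1).inv_left).eq]
          _ = d * e * d⁻¹ * e⁻¹ := by group
      have h4 : a * ⁅d, e⁆ * a⁻¹ = ⁅d, e⁆ := by
        rw [show a * ⁅d, e⁆ * a⁻¹ = ⁅a * d * a⁻¹, a * e * a⁻¹⁆ by simp only [commutatorElement_def]; group,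
          h1, h2, h3]
      exact (mul_inv_eq_iff_eq_mul.1 h4).symm
    exact fun l hl => (mem_centralizer_singleton_iff.1 (hle hl)).symm
  haveI : L.Normal := hL ▸ inferInstance
  refine ⟨A, L, hAab, hA2, inferInstance, ?_, hAL, ?_, f, hfs, hfc, hfo, fun hZ => ?_⟩
  · -- odd index
    have h2 : (Sylow.mapSurjective hπs S : Subgroup (G ⧸ N)) ≤ (A ⊔ L).map π := by
      refine hSJF.trans (sup_le ?_ fun y hy => ?_)
      · rw [← hLmap]; exact map_mono le_sup_right
      · obtain ⟨s, hs, rfl⟩ := (hS' y).1 (hFS hy)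
        exact mem_map_of_mem π (mem_sup_left ⟨hs, hy⟩)
    have h3 : Odd ((A ⊔ L).map π).index := Nat.not_even_iff_odd.1 fun he =>
      (Sylow.mapSurjective hπs S).not_dvd_index (he.two_dvd.trans (Subgroup.index_dvd_of_le h2))
    rw [Subgroup.index_map, MonoidHom.range_eq_top.2 hπs, Subgroup.index_top, mul_one, hπ, QuotientGroup.ker_mk',
      sup_comm (A ⊔ L) N] at h3
    rw [← Subgroup.relIndex_mul_index (le_sup_right : A ⊔ L ≤ N ⊔ (A ⊔ L)), Subgroup.relIndex_sup_right]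
    exact Odd.mul (hN.of_dvd_nat (Subgroup.relIndex_dvd_card _ _)) h3
  · refine Subgroup.map_injective L.subtype_injective ?_
    rw [Subgroup.map_commutator, ← MonoidHom.range_eq_map, Subgroup.range_subtype, hLp]
  · refine (Subgroup.eq_bot_iff_forall _).2 fun x hx => hinj x (hpow x hx.1.1) ((hker x).1 ?_)
    have hxJ : π x ∈ J := (hLD hx.2).2
    have h1 : (⟨π x, hxJ⟩ : J) ∈ Subgroup.center J :=
      Subgroup.mem_center_iff.2 fun j => Subtype.ext (hFJ _ hx.1.2 j j.2)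
    rw [hZ, mem_bot] at h1
    exact congrArg Subtype.val h1

/-- Perfect covers of the Suzuki groups with odd kernel over a central 2-group. -/
theorem sz_cover {L : Type u} [Group L] [Finite L] {J : Type v} [Group J] [Finite J]
    (hL : ⁅(⊤ : Subgroup L), (⊤ : Subgroup L)⁆ = ⊤) (f : L →* J) (hf : Function.Surjective f)
    (hfc : f.ker ≤ Subgroup.center L) (hfo : Odd (Nat.card f.ker)) {Z : Subgroup J} [Z.Normal]
    (hZc : Z ≤ Subgroup.center J) (hK : Subgroup.center (J ⧸ Z) = ⊥) {F : Type} [Field F] [Fintype F] {m : ℕ}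
    (hm : 1 ≤ m) (hF : Fintype.card F = 2 ^ (2 * m + 1)) (e : (J ⧸ Z) ≃* ↥(Cfsg.Lie.Sz F (2 ^ (m + 1)))) :
    (Z = ⊥ ∧ Nonempty (L ≃* ↥(Cfsg.Lie.Sz F (2 ^ (m + 1))))) ∨
      (Fintype.card F = 8 ∧ Subgroup.center L ≠ ⊥ ∧ Nonempty (L ⧸ Subgroup.center L ≃* ↥(Cfsg.Lie.Sz F 4))) := by
  haveI : Finite ↥(Cfsg.Lie.Sz F (2 ^ (m + 1))) := Finite.of_equiv _ e.toEquiv
  let g : J →* ↥(Cfsg.Lie.Sz F (2 ^ (m + 1))) := e.toMonoidHom.comp (QuotientGroup.mk' Z)
  have hgk : g.ker = Z := by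
    rw [show g.ker = (QuotientGroup.mk' Z).ker from MonoidHom.ker_mulEquiv_comp _ e, QuotientGroup.ker_mk']
  have hgfs : Function.Surjective (g.comp f) :=
    (e.surjective.comp (QuotientGroup.mk'_surjective Z)).comp hf
  have hkc := ker_comp_central hL f hfc g (hgk ▸ hZc)
  have hkk : (g.comp f).ker = Z.comap f := by rw [← MonoidHom.comap_ker, hgk]
  have hcard : Nat.card (g.comp f).ker = Nat.card f.ker * Nat.card Z := by rw [hkk, card_comap f hf Z]
  have hkL : (g.comp f).ker ≤ commutator L := by rw [_root_.commutator_def, hL]; exact le_top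
  by_cases hZ : Z = ⊥
  · refine Or.inl ⟨hZ, ?_⟩
    have h1 : Nat.card f.ker = 1 := by
      rcases Nat.lt_or_ge m 2 with h | h
      · obtain rfl : m = 1 := by omega
        have h4 := ker_card_dvd (S2112.result (F := F) (by rw [hF]; norm_num)) (g.comp f) hgfs hkc hkL
        rw [hcard, hZ, Subgroup.card_bot, mul_one, Nat.card_congr Multiplicative.toAdd, Nat.card_prod, Nat.card_zmod] at h4
        exact Nat.eq_one_of_dvd_coprimes (Nat.Coprime.pow_right 2 hfo.coprime_two_right) dvd_rfl (by simpa using h4)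
      · have h1 := ker_card_dvd (S2111.result h hF) (g.comp f) hgfs hkc hkL
        rw [hcard, hZ, Subgroup.card_bot, mul_one, Nat.card_congr Multiplicative.toAdd, Nat.card_zmod] at h1
        exact Nat.dvd_one.1 h1
    exact ⟨MulEquiv.ofBijective (g.comp f) ⟨(MonoidHom.ker_eq_bot_iff _).1 (Subgroup.card_eq_one.1 (by
      rw [hcard, h1, hZ, Subgroup.card_bot, mul_one])), hgfs⟩⟩
  · right
    obtain rfl : m = 1 := by
      by_contra hne
      have h1 := ker_card_dvd (S2111.result (m := m) (by omega) hF) (g.comp f) hgfs hkc hkL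
      rw [hcard, Nat.card_congr Multiplicative.toAdd, Nat.card_zmod, Nat.dvd_one, mul_eq_one] at h1
      exact hZ (Subgroup.card_eq_one.1 h1.2)
    have hcen : Subgroup.center L = (g.comp f).ker := by
      refine le_antisymm (fun x hx => ?_) hkc
      have h1 : QuotientGroup.mk' Z (f x) ∈ Subgroup.center (J ⧸ Z) := Subgroup.mem_center_iff.2 fun y => by
        obtain ⟨y, rfl⟩ := (QuotientGroup.mk'_surjective Z).comp hf y
        show QuotientGroup.mk' Z (f y) * QuotientGroup.mk' Z (f x) = QuotientGroup.mk' Z (f x) * QuotientGroup.mk' Z (f y)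
        rw [← map_mul, ← map_mul, ← map_mul, ← map_mul, Subgroup.mem_center_iff.1 hx y]
      rw [hK, mem_bot] at h1
      rw [hkk, mem_comap, ← QuotientGroup.ker_mk' Z]
      exact h1
    refine ⟨by rw [hF]; norm_num, ?_, ⟨?_⟩⟩
    · rw [hcen]
      intro hb
      rw [hb, Subgroup.card_bot] at hcard
      exact hZ (Subgroup.card_eq_one.1 (mul_eq_one.1 hcard.symm).2)
    · exact (QuotientGroup.quotientMulEquivOfEq hcen).trans
        (QuotientGroup.quotientKerEquivOfSurjective (g.comp f) hgfs)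

/-- Perfect covers of `PSU₃(q)`, `q` even, with odd kernel over a central 2-group. -/
theorem psu_cover {L : Type u} [Group L] [Finite L] {J : Type v} [Group J] [Finite J]
    (hL : ⁅(⊤ : Subgroup L), (⊤ : Subgroup L)⁆ = ⊤) (f : L →* J) (hf : Function.Surjective f)
    (hfc : f.ker ≤ Subgroup.center L) {Z : Subgroup J} [Z.Normal] (hZc : Z ≤ Subgroup.center J)
    (hZ2 : IsPGroup 2 Z) {F : Type} [Field F] [Fintype F] {n : ℕ}
    (hn : 2 ≤ n) (hF : Fintype.card F = (2 ^ n) ^ 2) (e : (J ⧸ Z) ≃* Cfsg.PSU 3 F (2 ^ n)) :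
    Z = ⊥ ∧ (Nonempty (L ≃* Cfsg.PSU 3 F (2 ^ n)) ∨ Nonempty (L ≃* ↥(Cfsg.SU 3 F (2 ^ n)))) := by
  classical
  haveI : Finite (Cfsg.PSU 3 F (2 ^ n)) := Finite.of_equiv _ e.toEquiv
  let g : J →* Cfsg.PSU 3 F (2 ^ n) := e.toMonoidHom.comp (QuotientGroup.mk' Z)
  have hgk : g.ker = Z := by
    rw [show g.ker = (QuotientGroup.mk' Z).ker from MonoidHom.ker_mulEquiv_comp _ e, QuotientGroup.ker_mk']
  have hgfs : Function.Surjective (g.comp f) :=
    (e.surjective.comp (QuotientGroup.mk'_surjective Z)).comp hf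
  have hkc := ker_comp_central hL f hfc g (hgk ▸ hZc)
  have hkk : (g.comp f).ker = Z.comap f := by rw [← MonoidHom.comap_ker, hgk]
  have hcard : Nat.card (g.comp f).ker = Nat.card f.ker * Nat.card Z := by rw [hkk, card_comap f hf Z]
  have hkL : (g.comp f).ker ≤ commutator L := by rw [_root_.commutator_def, hL]; exact le_top
  set d := Nat.gcd 3 (2 ^ n + 1) with hd
  haveI : NeZero d := ⟨(Nat.gcd_pos_of_pos_left _ (by norm_num : 0 < 3)).ne'⟩
  have h4 : 4 ≤ 2 ^ n := (show (4 : ℕ) = 2 ^ 2 by norm_num) ▸ Nat.pow_le_pow_right two_pos hn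
  have hM : Cfsg.HasCyclicSchurMultiplier (Cfsg.PSU 3 F (2 ^ n)) d := by
    refine S2089.result 3 (2 ^ n) hF le_rfl (fun h => by omega) ?_
    simp only [Set.mem_insert_iff, Set.mem_singleton_iff, Prod.mk.injEq]
    rintro (⟨h, -⟩ | ⟨h, -⟩ | ⟨h, -⟩) <;> omega
  have hA : Nat.card (Multiplicative (ZMod d)) = d := by rw [Nat.card_congr Multiplicative.toAdd, Nat.card_zmod]
  have hdvd := ker_card_dvd hM (g.comp f) hgfs hkc hkL
  rw [hA] at hdvd
  have hd3 : d ∣ 3 := Nat.gcd_dvd_left _ _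
  have hZ : Z = ⊥ := by
    obtain ⟨k, hk⟩ := IsPGroup.iff_card.1 hZ2
    refine Subgroup.card_eq_one.1 (Nat.eq_one_of_dvd_coprimes (Nat.Coprime.pow_right k (by norm_num : Nat.Coprime 3 2))
      (((dvd_mul_left _ _).trans (hcard ▸ hdvd)).trans hd3) (hk ▸ dvd_rfl))
  refine ⟨hZ, ?_⟩
  rcases (Nat.dvd_prime Nat.prime_three).1 (hdvd.trans hd3) with h1 | h3
  · exact Or.inl ⟨MulEquiv.ofBijective (g.comp f)
      ⟨(MonoidHom.ker_eq_bot_iff _).1 (Subgroup.card_eq_one.1 h1), hgfs⟩⟩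
  have hk3 : Nat.card (g.comp f).ker = d :=
    h3.trans (Nat.dvd_antisymm (h3 ▸ hdvd) hd3)
  right
  obtain ⟨p, r, s, hp, hchar, hqp, he, hs⟩ := Classical.exists_usigma hF
  letI : StarRing F := Small.Hermitian.starRingOfInvolution s.toRingHom hs.involutive
  haveI : Finite (Cfsg.SU 3 F (2 ^ n)) := Subtype.finite
  have hperf : commutator (Cfsg.SU 3 F (2 ^ n)) = ⊤ :=
    Small.Unitary.commutator_eq_top hs.apply_eq hF le_rfl (fun h => by omega)
  have hZSU : Nat.card ↥(Subgroup.center (Cfsg.SU 3 F (2 ^ n))) = d :=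
    Classical.UCount.card_center_SU hs (by norm_num)
  let τ : ↥(Cfsg.SU 3 F (2 ^ n)) →* Cfsg.PSU 3 F (2 ^ n) := QuotientGroup.mk' (Subgroup.center _)
  have hτ : τ.ker = Subgroup.center (Cfsg.SU 3 F (2 ^ n)) := QuotientGroup.ker_mk' _
  exact stem_unique hM (g.comp f) τ hgfs (QuotientGroup.mk'_surjective _) hkc hτ.le hL
    (by rw [← _root_.commutator_def, hperf]) (hk3.trans hA.symm) (by rw [hτ, hZSU, hA])

/-- The component `SL(2,5)`: the structure modulo the odd core. -/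
theorem sl_case {G : Type u} [Group G] [Finite G] {N : Subgroup G} [N.Normal] (hodd : Odd (Nat.card N))
    {S : Sylow 2 (G ⧸ N)} {J : Subgroup (G ⧸ N)} (c : Str S J)
    (e : J ≃* Matrix.SpecialLinearGroup (Fin 2) (ZMod 5)) :
    ∃ (N M : Subgroup G) (_ : N.Normal) (_ : M.Normal) (_ : (N.subgroupOf M).Normal), N < M ∧ Odd (Nat.card ↥N) ∧ Odd M.index ∧
      ∃ A L : Subgroup (↥M ⧸ N.subgroupOf M), IsMulCommutative ↥A ∧ IsPGroup 2 ↥A ∧
        Nonempty (↥L ≃* Matrix.SpecialLinearGroup (Fin 2) (ZMod 5)) ∧ (∀ a ∈ A, ∀ l ∈ L, a * l = l * a) ∧ A ⊔ L = ⊤ := by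
  set π := QuotientGroup.mk' N with hπ
  have hπs : Function.Surjective π := QuotientGroup.mk'_surjective N
  obtain ⟨hMn, hMo, -⟩ := c.odd_index
  haveI := hMn
  set M := (J ⊔ Cfsg.fittingSubgroup (G ⧸ N)).comap π with hM
  have hNM : N ≤ M := fun x hx => by
    rw [hM, mem_comap, show π x = 1 from (QuotientGroup.eq_one_iff x).2 hx]; exact one_mem _
  let φ : ↥M →* G ⧸ N := π.comp M.subtype
  have hφk : φ.ker = N.subgroupOf M := by
    ext x; rw [mem_subgroupOf, MonoidHom.mem_ker]; exact QuotientGroup.eq_one_iff _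
  let ψ : ↥M ⧸ N.subgroupOf M →* G ⧸ N := QuotientGroup.lift _ φ hφk.ge
  have hψ : Function.Injective ψ := (MonoidHom.ker_eq_bot_iff _).1 (by
    rw [QuotientGroup.ker_lift, hφk, QuotientGroup.map_mk'_self])
  have hψr : ψ.range = J ⊔ Cfsg.fittingSubgroup (G ⧸ N) := by
    ext y
    refine ⟨?_, fun hy => ?_⟩
    · rintro ⟨x, rfl⟩
      obtain ⟨x, rfl⟩ := QuotientGroup.mk_surjective x
      exact x.2
    · obtain ⟨x, rfl⟩ := hπs y
      exact ⟨QuotientGroup.mk ⟨x, hy⟩, rfl⟩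
  refine ⟨N, M, inferInstance, inferInstance, inferInstance, lt_of_le_of_ne hNM fun e' => ?_, hodd, ?_,
    (Cfsg.fittingSubgroup (G ⧸ N)).comap ψ, J.comap ψ, ?_, ?_, ⟨?_⟩, fun a ha l hl => hψ ?_, ?_⟩
  · refine Solv.qs_center_ne_top c.comp.2 (eq_top_iff.2 fun j _ => ?_)
    obtain ⟨x, hx⟩ := hπs (j : G ⧸ N)
    have h1 : x ∈ N := e' ▸ (show x ∈ M from by rw [hM, mem_comap, hx]; exact mem_sup_left j.2)
    rw [show j = 1 from Subtype.ext (hx.symm.trans ((QuotientGroup.eq_one_iff x).2 h1))]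
    exact one_mem _
  · rw [hM, Subgroup.index_comap_of_surjective _ hπs]; exact hMo
  · refine ⟨⟨fun a b => Subtype.ext (hψ ?_)⟩⟩
    have hb : ψ b ∈ Cfsg.fittingSubgroup (G ⧸ N) := b.2
    replace hb := c.inf_cent_eq.ge hb
    rw [Subgroup.coe_mul, Subgroup.coe_mul, map_mul, map_mul]
    exact (c.cen hb.1 hb.2 _ (fitting_le_sylow c.core _ a.2)).eq
  · exact (fitting_two c.core).comap_of_injective ψ hψ
  · refine MulEquiv.trans (MulEquiv.ofBijective
      ({ toFun := fun x => ⟨ψ x.1, x.2⟩, map_one' := Subtype.ext (map_one ψ),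
         map_mul' := fun a b => Subtype.ext (map_mul ψ a.1 b.1) } : ↥(J.comap ψ) →* ↥J)
      ⟨fun a b e' => Subtype.ext (hψ (congrArg Subtype.val e')), fun j => ?_⟩) e
    obtain ⟨x, hx⟩ : (j : G ⧸ N) ∈ ψ.range := hψr ▸ mem_sup_left j.2
    exact ⟨⟨x, show ψ x ∈ J from hx ▸ j.2⟩, Subtype.ext hx⟩
  · rw [map_mul, map_mul]
    have ha' : ψ a ∈ Cfsg.fittingSubgroup (G ⧸ N) := ha
    replace ha' := c.inf_cent_eq.ge ha'
    exact (mem_centralizer_iff.1 ha'.2 _ hl).symm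
  · refine Subgroup.map_injective hψ ?_
    have h1 : Cfsg.fittingSubgroup (G ⧸ N) ≤ ψ.range := hψr.ge.trans' le_sup_right
    have h2 : J ≤ ψ.range := hψr.ge.trans' le_sup_left
    rw [Subgroup.map_sup, map_comap_eq_self h1, map_comap_eq_self h2, ← MonoidHom.range_eq_map, hψr, sup_comm]

/-- **The structure of the groups with central Sylow 2-intersections.** -/
theorem struct_ci {G : Type u} [Group G] [Finite G] (h : CI G) :
    (Group.IsSolvable G ∧ Cfsg.PLengthLE 2 1 G) ∨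
    (∀ S : Sylow 2 G, IsMulCommutative ↥(S : Subgroup G)) ∨
    (∃ (N M : Subgroup G) (_ : N.Normal) (_ : M.Normal) (_ : (N.subgroupOf M).Normal), N < M ∧ Odd (Nat.card ↥N) ∧ Odd M.index ∧
      ∃ A L : Subgroup (↥M ⧸ N.subgroupOf M), IsMulCommutative ↥A ∧ IsPGroup 2 ↥A ∧
        Nonempty (↥L ≃* Matrix.SpecialLinearGroup (Fin 2) (ZMod 5)) ∧ (∀ a ∈ A, ∀ l ∈ L, a * l = l * a) ∧ A ⊔ L = ⊤) ∨
    (∃ (M : Subgroup G), M.Normal ∧ Odd M.index ∧ ∃ A L : Subgroup G, IsMulCommutative ↥A ∧ IsPGroup 2 ↥A ∧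
      ((Cfsg.IsInternalDirectProduct A L M ∧
          ((∃ (m : ℕ) (F : Type) (_ : Field F) (_ : Fintype F), 1 ≤ m ∧ Fintype.card F = 2 ^ (2 * m + 1) ∧
              Nonempty (↥L ≃* ↥(Cfsg.Lie.Sz F (2 ^ (m + 1))))) ∨
            (∃ (n : ℕ) (F : Type) (_ : Field F) (_ : Fintype F), 2 ≤ n ∧ Fintype.card F = 4 ^ n ∧
              (Nonempty (↥L ≃* Cfsg.PSU 3 F (2 ^ n)) ∨ Nonempty (↥L ≃* ↥(Cfsg.SU 3 F (2 ^ n))))))) ∨
        (A ≤ M ∧ L ≤ M ∧ (∀ a ∈ A, ∀ l ∈ L, a * l = l * a) ∧ A ⊔ L = M ∧ Group.IsPerfect ↥L ∧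
          Subgroup.center ↥L ≠ ⊥ ∧
          ∃ (F : Type) (_ : Field F) (_ : Fintype F), Fintype.card F = 8 ∧
            Nonempty (↥L ⧸ Subgroup.center ↥L ≃* ↥(Cfsg.Lie.Sz F 4))))) := by
  refine or_iff_not_imp_left.2 fun hsol => or_iff_not_imp_left.2 fun hab => ?_
  push Not at hab
  obtain ⟨S, hS⟩ := hab
  obtain ⟨N, hN⟩ : ∃ N, N = Cfsg.oddCore G := ⟨_, rfl⟩
  haveI : N.Normal := hN ▸ inferInstance
  have hodd : Odd (Nat.card N) := hN ▸ Char.card_oddCore_odd G
  have hO : Cfsg.oddCore (G ⧸ N) = ⊥ := by subst hN; exact Fusion.pPrimeCore_quotient_eq_bot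
  set π := QuotientGroup.mk' N with hπ
  have hπs : Function.Surjective π := QuotientGroup.mk'_surjective N
  have hab' : ¬ IsMulCommutative (Sylow.mapSurjective hπs S : Subgroup (G ⧸ N)) := fun hc => by
    refine hS ⟨⟨fun a b => Subtype.ext ?_⟩⟩
    have h2 : ⁅(a : G), (b : G)⁆ ∈ N := (QuotientGroup.eq_one_iff _).1 (by
      show π ⁅(a : G), (b : G)⁆ = 1
      rw [map_commutatorElement, commutatorElement_eq_one_iff_commute]
      exact congrArg Subtype.val (hc.is_comm.comm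
        ⟨π a, by rw [Sylow.coe_mapSurjective]; exact mem_map_of_mem π a.2⟩
        ⟨π b, by rw [Sylow.coe_mapSurjective]; exact mem_map_of_mem π b.2⟩))
    obtain ⟨k, hk⟩ := S.2 ⁅a, b⁆
    exact commutatorElement_eq_one_iff_commute.1 (orderOf_eq_one_iff.1 (Nat.eq_one_of_dvd_coprimes
      (hodd.coprime_two_right.pow_right k) ((Subgroup.orderOf_mk _ h2) ▸ orderOf_dvd_natCard _)
      (orderOf_dvd_of_pow_eq_one (congrArg Subtype.val hk :))))
  have hn : ¬ (Sylow.mapSurjective hπs S : Subgroup (G ⧸ N)).Normal := fun hn =>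
    hsol (solvable_case hodd _ hn)
  obtain ⟨J, c⟩ := exists_str (h.quotient_odd hodd) hO hab' hn (base_all _)
  obtain ⟨P, hP⟩ := c.exists_P
  have hPab : ¬ IsMulCommutative (P : Subgroup J) := fun hc => by
    refine hab' ⟨⟨fun a b => Subtype.ext ?_⟩⟩
    obtain ⟨p, hp, hpa⟩ := c.split a.2
    obtain ⟨q, hq, hqb⟩ := c.split b.2
    have h1 : Commute p q := congrArg (fun y : (P : Subgroup J) => ((y : J) : G ⧸ N)) (hc.is_comm.comm
      ⟨⟨p, hp.2⟩, (hP _).2 hp.1⟩ ⟨⟨q, hq.2⟩, (hP _).2 hq.1⟩)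
    have ca := c.cen hpa.1 hpa.2
    have cb := c.cen hqb.1 hqb.2
    have h2 : Commute (p⁻¹ * (p * (a : G ⧸ N))) (q⁻¹ * (q * (b : G ⧸ N))) :=
      (h1.inv_inv.mul_right (cb _ (inv_mem hp.1))).mul_left ((ca _ (inv_mem hq.1)).symm.mul_right (cb _ hpa.1))
    rwa [inv_mul_cancel_left, inv_mul_cancel_left] at h2
  obtain ⟨H, hH⟩ := c.se
  haveI : IsSimpleGroup (J ⧸ Subgroup.center J) := c.comp.2.2
  have hZ2 : IsPGroup 2 (Subgroup.center J) := comp_center_two c.comp c.core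
  have hna := quotient_center_nonab c.comp.2
  rcases comp_shape c.perfect (c.ci.subgroup J) le_rfl hZ2 hna hH P hPab with ⟨e⟩ | ⟨hcyc, hcases⟩
  · obtain ⟨e'⟩ := e
    exact Or.inl (sl_case hodd c e')
  · right
    have hcent : ∀ u ∈ N, ∀ s ∈ (S : Subgroup G), Commute u s := by
      refine (h.odd_cent S hodd (by rw [normalizer_eq_top_iff.2 inferInstance]; exact le_top)).resolve_right fun hc => ?_
      refine hcyc (CycDerived.of_map J.subtype J.subtype_injective ((hc.map π).mono ?_))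
      rintro _ ⟨y, hy, rfl⟩
      rw [← Sylow.coe_mapSurjective hπs S]
      exact (hP y).1 hy
    obtain ⟨A, L, hA, hA2, hMn, hMi, hAL, hL, f, hfs, hfc, hfo, hdis⟩ := exists_lift hodd S c hcent
    refine ⟨A ⊔ L, hMn, hMi, A, L, hA, hA2, ?_⟩
    rcases hcases with ⟨F, iF, iFF, m, hm, hF, ⟨e⟩⟩ | ⟨F, iF, iFF, n, hn', hF, ⟨e⟩⟩
    · rcases sz_cover hL f hfs hfc hfo le_rfl (simple_center hna) hm hF e with ⟨hZ, e'⟩ | ⟨h8, hc, e'⟩
      · exact Or.inl ⟨⟨le_sup_left, le_sup_right, hAL, hdis hZ, rfl⟩, Or.inl ⟨m, F, iF, iFF, hm, hF, e'⟩⟩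
      · exact Or.inr ⟨le_sup_left, le_sup_right, hAL, rfl,
          ⟨by rw [_root_.commutator_def]; exact hL⟩, hc, F, iF, iFF, h8, e'⟩
    · obtain ⟨hZ, e'⟩ := psu_cover hL f hfs hfc le_rfl hZ2 hn' hF e
      exact Or.inl ⟨⟨le_sup_left, le_sup_right, hAL, hdis hZ, rfl⟩,
        Or.inr ⟨n, F, iF, iFF, hn', by rw [hF, ← pow_mul, mul_comm, pow_mul]; norm_num, e'⟩⟩

end Cfsg.Agent.CI
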