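import Cfsg.Agent.Lib.CI.Quotient

/-!
# Groups with central Sylow intersections and trivial odd core

With a non-abelian, non-normal Sylow 2-subgroup `S`: `S = (S ∩ J) (S ∩ C(J))`, the second factor central and normal in
the group, and no element of odd order centralises `S`.
-/

set_option autoImplicit false
set_option linter.style.haveILetI false
set_option linter.unusedSectionVars false
set_option linter.dupNamespace false

namespace Cfsg.Agent.CI

open Subgroup Cfsg.Agent
open scoped commutatorElement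

universe u

variable {X : Type u} [Group X] [Finite X]

/-- The data of the component. -/
structure Str (S : Sylow 2 X) (J : Subgroup X) : Prop where
  ci : CI X
  core : Cfsg.oddCore X = ⊥
  nonab : ¬ IsMulCommutative (S : Subgroup X)
  comp : Cfsg.IsComponent J
  normal : J.Normal
  tt : TwoTrans J
  se : ∃ H : Subgroup (J ⧸ Subgroup.center J), Cfsg.IsStronglyEmbedded H

theorem exists_str (h : CI X) (hO : Cfsg.oddCore X = ⊥) {S : Sylow 2 X} (hab : ¬ IsMulCommutative (S : Subgroup X))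
    (hn : ¬ (S : Subgroup X).Normal) (hbase : Base.{u} (Nat.card X)) : ∃ J, Str S J := by
  obtain ⟨J, hJ⟩ := exists_component h hO hn
  exact ⟨J, h, hO, hab, hJ, comp_normal hJ S h hO hab, comp_twoTrans hJ S h hO hab hbase,
    comp_se hJ S h hO hab hbase⟩

/-- Conjugation moves the Sylow 2-subgroups of a normal subgroup. -/
theorem exists_sylow_conj {J : Subgroup X} [J.Normal] (Q : Sylow 2 J) (g : X) :
    ∃ Q' : Sylow 2 J, ∀ y : J, y ∈ (Q' : Subgroup J) ↔ ∃ z ∈ (Q : Subgroup J), g * z * g⁻¹ = (y : X) := by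
  have hs : Function.Surjective (MulAut.conjNormal (H := J) g).toMonoidHom := (MulAut.conjNormal (H := J) g).surjective
  refine ⟨Sylow.mapSurjective hs Q, fun y => ?_⟩
  rw [Sylow.coe_mapSurjective]
  refine ⟨fun ⟨z, hz, e⟩ => ⟨z, hz, ?_⟩, fun ⟨z, hz, e⟩ => ⟨z, hz, Subtype.ext ?_⟩⟩
  · rw [← e]; exact (MulAut.conjNormal_apply g z).symm
  · rw [← e]; exact MulAut.conjNormal_apply g z

namespace Str

variable {S : Sylow 2 X} {J : Subgroup X} (c : Str S J)
include c

theorem sylIn : Fusion.SylIn 2 ((S : Subgroup X) ⊓ J) J := comp_sylIn c.comp S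

theorem perfect : ⁅(⊤ : Subgroup J), (⊤ : Subgroup J)⁆ = ⊤ := comp_perfect c.comp

theorem cen {a : X} (ha : a ∈ (S : Subgroup X)) (haJ : a ∈ centralizer (J : Set X)) : Cen S a :=
  cen_of_centralises c.comp S c.ci ha haJ

/-- The Sylow subgroup of `J` inside `S`. -/
theorem exists_P : ∃ P : Sylow 2 J, ∀ y : J, y ∈ (P : Subgroup J) ↔ (y : X) ∈ (S : Subgroup X) := by
  obtain ⟨P, hPe⟩ := c.sylIn.exists_sylow_subgroupOf
  exact ⟨P, fun y => by rw [hPe, mem_subgroupOf]; exact ⟨fun h => h.1, fun h => ⟨h, y.2⟩⟩⟩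

theorem exists_other (P : Sylow 2 J) : ∃ Q : Sylow 2 J, Q ≠ P := by
  by_contra hall
  push Not at hall
  haveI : (P : Subgroup J).Normal :=
    normalizer_eq_top_iff.1 (eq_top_iff.2 fun g _ => Sylow.smul_eq_iff_mem_normalizer.1 (hall _))
  have ho : Odd (P : Subgroup J).index := Nat.not_even_iff_odd.1 fun he => P.not_dvd_index he.two_dvd
  have htop := top_le_iff.1 (Walter.perfect_le_of_odd_index ho c.perfect)
  haveI : Group.IsNilpotent J := by
    have hp : IsPGroup 2 J := IsPGroup.iff_card.2 (by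
      obtain ⟨k, hk⟩ := IsPGroup.iff_card.1 P.2
      rw [htop, Subgroup.card_top] at hk
      exact ⟨k, hk⟩)
    exact hp.isNilpotent
  haveI := Solv.qs_nontrivial c.comp.2
  exact top_ne_bot (Walter.perfect_eq_bot c.perfect)

/-- `S = (S ∩ J) (S ∩ C(J))`. -/
theorem split {s : X} (hs : s ∈ (S : Subgroup X)) :
    ∃ p ∈ (S : Subgroup X) ⊓ J, p * s ∈ (S : Subgroup X) ⊓ centralizer (J : Set X) := by
  haveI := c.normal
  obtain ⟨P, hP⟩ := c.exists_P
  obtain ⟨Q, hQ⟩ := c.exists_other P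
  obtain ⟨Q', hQ'⟩ := exists_sylow_conj Q s
  have hne : Q' ≠ P := fun e => hQ (Sylow.ext (Subgroup.ext fun y => by
    rw [hP]
    constructor
    · intro hy
      have h1 : (⟨s * y * s⁻¹, c.normal.conj_mem y y.2 s⟩ : J) ∈ (Q' : Subgroup J) := (hQ' _).2 ⟨y, hy, rfl⟩
      rw [e, hP] at h1
      have := mul_mem (mul_mem (inv_mem hs) h1) hs
      rwa [show s⁻¹ * (s * (y : X) * s⁻¹) * s = y by group] at this
    · intro hy
      have h1 : (⟨s * y * s⁻¹, c.normal.conj_mem y y.2 s⟩ : J) ∈ (Q' : Subgroup J) := by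
        rw [e, hP]
        exact mul_mem (mul_mem hs hy) (inv_mem hs)
      obtain ⟨z, hz, e'⟩ := (hQ' _).1 h1
      rwa [show z = y from Subtype.ext (mul_left_cancel (mul_right_cancel e'))] at hz))
  obtain ⟨p, hp, hpQ⟩ := c.tt P Q' Q hne hQ
  set t : X := p * s with ht
  have hpS := (hP p).1 hp
  refine ⟨p, ⟨hpS, p.2⟩, ?_⟩
  have htS : t ∈ (S : Subgroup X) := mul_mem hpS hs
  have htN : ∀ z ∈ (Q : Subgroup J).map J.subtype, t * z * t⁻¹ ∈ (Q : Subgroup J).map J.subtype := by
    rintro _ ⟨z, hz, rfl⟩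
    refine ⟨p * ⟨s * z * s⁻¹, c.normal.conj_mem z z.2 s⟩ * p⁻¹, ?_, ?_⟩
    · conv_lhs => rw [← hpQ]
      refine sylow_mem_smul.2 ?_
      rw [show p⁻¹ * (p * ⟨s * z * s⁻¹, c.normal.conj_mem z z.2 s⟩ * p⁻¹) * p =
        (⟨s * z * s⁻¹, c.normal.conj_mem z z.2 s⟩ : J) by group]
      exact (hQ' _).2 ⟨z, hz, rfl⟩
    · show (p : X) * (s * z * s⁻¹) * (p : X)⁻¹ = t * z * t⁻¹
      rw [ht]; group
  have hp2 : IsPGroup 2 ((Q : Subgroup J).map J.subtype ⊔ zpowers t : Subgroup X) :=
    (Q.2.map J.subtype).to_sup_of_normal_left' (S.2.to_le (zpowers_le.2 htS))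
      (zpowers_le.2 (mem_normalizer_fintype htN))
  obtain ⟨T, hT⟩ := hp2.exists_le_sylow
  have hTS : T ≠ S := by
    rintro rfl
    refine hQ (Sylow.ext (sylow_eq_of_le P.2 (S := Q) fun y hy => (hP y).2 (hT (mem_sup_left ?_))).symm)
    exact mem_map_of_mem J.subtype hy
  have htT := hT (mem_sup_right (mem_zpowers t))
  have hle : ∀ y : J, y ∈ (P : Subgroup J) ⊔ (Q : Subgroup J) → Commute (y : X) t := by
    intro y hy
    have : (P : Subgroup J) ⊔ (Q : Subgroup J) ≤ (centralizer ({t} : Set X)).comap J.subtype := sup_le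
      (fun a ha => mem_centralizer_singleton_iff.2 (c.ci S T hTS.symm t htS htT _ ((hP a).1 ha)).eq)
      (fun a ha => mem_centralizer_singleton_iff.2
        (c.ci T S hTS t htT htS _ (hT (mem_sup_left (mem_map_of_mem J.subtype ha)))).eq)
    exact mem_centralizer_singleton_iff.1 (this hy)
  exact ⟨htS, mem_centralizer_iff.2 fun j hj =>
    (hle ⟨j, hj⟩ (by rw [c.tt.sup_eq_top c.perfect hQ]; exact mem_top _)).eq⟩

/-- `S ∩ C(J)` lies in the Fitting subgroup. -/
theorem inf_cent_le_fitting : (S : Subgroup X) ⊓ centralizer (J : Set X) ≤ Cfsg.fittingSubgroup X := by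
  intro a ha
  refine GW.centralizer_gfit_le_fit (mem_centralizer_iff.2 ?_)
  have hle : Cfsg.generalizedFittingSubgroup X ≤ centralizer ({a} : Set X) := by
    refine sup_le (sSup_le fun K hK x hx => ?_) fun x hx => ?_
    · rw [comp_unique c.comp S c.ci c.core c.nonab hK] at hx
      exact mem_centralizer_singleton_iff.2 (mem_centralizer_iff.1 ha.2 x hx)
    · exact mem_centralizer_singleton_iff.2 (c.cen ha.1 ha.2 x (fitting_le_sylow c.core S hx)).eq
  exact fun x hx => mem_centralizer_singleton_iff.1 (hle hx)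

/-- `S ∩ C(J) = F(X)`. -/
theorem inf_cent_eq : (S : Subgroup X) ⊓ centralizer (J : Set X) = Cfsg.fittingSubgroup X :=
  le_antisymm c.inf_cent_le_fitting (le_inf (fitting_le_sylow c.core S) fun a ha => by
    have h1 := Solv.layer_commutator_fitting (G := X)
    rw [Subgroup.commutator_eq_bot_iff_le_centralizer] at h1
    exact mem_centralizer_iff.2 fun j hj =>
      (mem_centralizer_iff.1 (h1 (Solv.component_le_layer c.comp hj)) a ha).symm)

/-- The normal subgroup of odd index. -/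
theorem odd_index : (J ⊔ Cfsg.fittingSubgroup X).Normal ∧ Odd (J ⊔ Cfsg.fittingSubgroup X).index ∧
    (S : Subgroup X) ≤ J ⊔ Cfsg.fittingSubgroup X := by
  haveI := c.normal
  haveI : (Cfsg.fittingSubgroup X).Normal := Solv.fittingSubgroup_normal
  have hle : (S : Subgroup X) ≤ J ⊔ Cfsg.fittingSubgroup X := fun s hs => by
    obtain ⟨p, hp, hps⟩ := c.split hs
    rw [c.inf_cent_eq] at hps
    rw [show s = p⁻¹ * (p * s) by group]
    exact mul_mem (mem_sup_left (inv_mem hp.2)) (mem_sup_right hps)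
  exact ⟨inferInstance, Nat.not_even_iff_odd.1 fun he =>
    S.not_dvd_index (he.two_dvd.trans (Subgroup.index_dvd_of_le hle)), hle⟩

/-- Every perfect subgroup lies in `J`. -/
theorem perfect_le {R : Subgroup X} (hR : ⁅R, R⁆ = R) : R ≤ J := by
  haveI := c.normal
  haveI := c.odd_index.1
  have h1 : R ≤ J ⊔ Cfsg.fittingSubgroup X := Walter.perfect_le_of_odd_index c.odd_index.2.1 hR
  rw [← hR]
  refine (commutator_mono h1 h1).trans (Subgroup.commutator_le.2 ?_)
  intro a ha b hb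
  haveI : (Cfsg.fittingSubgroup X).Normal := Solv.fittingSubgroup_normal
  obtain ⟨j, hj, f, hf, rfl⟩ := Subgroup.mem_sup_of_normal_right.1 ha
  obtain ⟨j', hj', f', hf', rfl⟩ := Subgroup.mem_sup_of_normal_right.1 hb
  rw [← QuotientGroup.eq_one_iff]
  show QuotientGroup.mk' J ⁅j * f, j' * f'⁆ = 1
  rw [map_commutatorElement, map_mul, map_mul, show QuotientGroup.mk' J j = 1 from (QuotientGroup.eq_one_iff j).2 hj,
    show QuotientGroup.mk' J j' = 1 from (QuotientGroup.eq_one_iff j').2 hj', one_mul, one_mul,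
    ← map_commutatorElement, commutatorElement_eq_one_iff_commute.2 ?_, map_one]
  rw [← c.inf_cent_eq] at hf hf'
  exact c.cen hf'.1 hf'.2 f hf.1

/-- No element of odd order centralises `S`. -/
theorem cent_sylow {r : X} (ho : Odd (orderOf r)) (hr : ∀ s ∈ (S : Subgroup X), Commute r s) : r = 1 := by
  haveI := c.normal
  obtain ⟨P, hP⟩ := c.exists_P
  have hPfix : ∀ y : J, y ∈ (P : Subgroup J) → ∀ g : X, (∀ s ∈ (S : Subgroup X), Commute g s) → g * y * g⁻¹ = y :=
    fun y hy g hg => by rw [(hg _ ((hP y).1 hy)).eq, mul_inv_cancel_right]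
  have hfix : ∀ Q : Sylow 2 J, ∀ y ∈ (Q : Subgroup J),
      (⟨r * y * r⁻¹, c.normal.conj_mem y y.2 r⟩ : J) ∈ (Q : Subgroup J) := by
    intro Q y hy
    by_cases hQ : Q = P
    · subst hQ
      rw [show (⟨r * y * r⁻¹, c.normal.conj_mem y y.2 r⟩ : J) = y from Subtype.ext (hPfix y hy r hr)]
      exact hy
    obtain ⟨Q', hQ'⟩ := exists_sylow_conj Q r
    have hne : Q' ≠ P := fun e => hQ (Sylow.ext (Subgroup.ext fun z => by
      constructor
      · intro hz
        have h1 : (⟨r * z * r⁻¹, c.normal.conj_mem z z.2 r⟩ : J) ∈ (Q' : Subgroup J) := (hQ' _).2 ⟨z, hz, rfl⟩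
        rw [e] at h1
        have h2 := hPfix _ h1 r⁻¹ fun s hs => (hr s hs).inv_left
        rw [hP] at h1 ⊢
        rw [show r⁻¹ * (r * (z : X) * r⁻¹) * r⁻¹⁻¹ = z by group] at h2
        rwa [h2]
      · intro hz
        have h1 : z ∈ (Q' : Subgroup J) := e ▸ hz
        obtain ⟨w, hw, e'⟩ := (hQ' _).1 h1
        rw [← hPfix z hz r hr] at e'
        rwa [show w = z from Subtype.ext (mul_left_cancel (mul_right_cancel e'))] at hw))
    obtain ⟨p, hp, hpQ⟩ := c.tt P Q' Q hne hQ
    have hpS := (hP p).1 hp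
    obtain ⟨N, hN⟩ : ∃ N, N = normalizer (((Q : Subgroup J).map J.subtype : Subgroup X) : Set X) := ⟨_, rfl⟩
    have hu : (p : X) * r ∈ N := by
      rw [hN]
      refine mem_normalizer_fintype ?_
      rintro _ ⟨z, hz, rfl⟩
      refine ⟨p * ⟨r * z * r⁻¹, c.normal.conj_mem z z.2 r⟩ * p⁻¹, ?_, ?_⟩
      · conv_lhs => rw [← hpQ]
        refine sylow_mem_smul.2 ?_
        rw [show p⁻¹ * (p * ⟨r * z * r⁻¹, c.normal.conj_mem z z.2 r⟩ * p⁻¹) * p =
          (⟨r * z * r⁻¹, c.normal.conj_mem z z.2 r⟩ : J) by group]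
        exact (hQ' _).2 ⟨z, hz, rfl⟩
      · show (p : X) * (r * z * r⁻¹) * (p : X)⁻¹ = (p : X) * r * z * ((p : X) * r)⁻¹
        group
    have hpn : (p : X) ^ orderOf r ∈ N := by
      have := pow_mem hu (orderOf r)
      rwa [((hr _ hpS).symm).mul_pow, pow_orderOf_eq_one, mul_one] at this
    obtain ⟨k, hk⟩ := S.2 ⟨p, hpS⟩
    have hk' : (p : X) ^ 2 ^ k = 1 := congrArg Subtype.val hk
    have hpN : (p : X) ∈ N := by
      have hco : (orderOf r).Coprime (orderOf (p : X)) :=
        (ho.coprime_two_right.pow_right k).coprime_dvd_right (orderOf_dvd_of_pow_eq_one hk')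
      obtain ⟨m, hm⟩ := exists_pow_eq_self_of_coprime hco
      rw [← hm]
      exact pow_mem hpn m
    have hrN : r ∈ N := by
      have := mul_mem (inv_mem hpN) hu
      rwa [inv_mul_cancel_left] at this
    rw [hN] at hrN
    obtain ⟨w, hw, e⟩ := (mem_normalizer_iff.1 hrN _).1 (mem_map_of_mem J.subtype hy)
    rwa [show w = ⟨r * y * r⁻¹, c.normal.conj_mem y y.2 r⟩ from Subtype.ext e] at hw
  -- `[r, J]` fixes all Sylow subgroups, hence is central
  let ρ : MulAut J := MulAut.conjNormal r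
  have hρ : ∀ y : J, ((ρ y : J) : X) = r * y * r⁻¹ := fun y => MulAut.conjNormal_apply r y
  have hfix' : ∀ (Q : Sylow 2 J) (y : J), y ∈ (Q : Subgroup J) → ρ y ∈ (Q : Subgroup J) := fun Q y hy => by
    rw [show ρ y = ⟨r * y * r⁻¹, c.normal.conj_mem y y.2 r⟩ from Subtype.ext (hρ y)]
    exact hfix Q y hy
  let N : Subgroup J := ⨅ Q : Sylow 2 J, normalizer ((Q : Subgroup J) : Set J)
  have hNc : N ≤ Subgroup.center J := by
    haveI : N.Normal := ⟨fun n hn g => by
      rw [show N = ⨅ Q : Sylow 2 J, normalizer ((Q : Subgroup J) : Set J) from rfl, Subgroup.mem_iInf] at hn ⊢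
      intro Q
      have h1 := Sylow.smul_eq_iff_mem_normalizer.2 (hn (g⁻¹ • Q))
      refine Sylow.smul_eq_iff_mem_normalizer.1 ?_
      rw [mul_smul, mul_smul, h1, smul_inv_smul]⟩
    refine (Solv.qs_normal_le_center_or_top c.comp.2 N).resolve_left fun htop => ?_
    obtain ⟨Q, hQ⟩ := c.exists_other P
    refine hQ ?_
    obtain ⟨g, rfl⟩ := MulAction.exists_smul_eq J P Q
    refine Sylow.smul_eq_iff_mem_normalizer.2 ?_
    exact Subgroup.mem_iInf.1 (show g ∈ N from htop ▸ mem_top g) P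
  have hcomm : ∀ y : J, y⁻¹ * ρ y ∈ Subgroup.center J := fun y => hNc (Subgroup.mem_iInf.2 fun Q => by
    refine mem_normalizer_fintype fun z hz => ?_
    obtain ⟨w, hw⟩ := ρ.surjective z
    have hwQ : w ∈ (Q : Subgroup J) := by
      have hinj : Function.Bijective (fun v : (Q : Subgroup J) => (⟨ρ v, hfix' Q v v.2⟩ : (Q : Subgroup J))) :=
        Finite.injective_iff_bijective.1 fun a b e => Subtype.ext (ρ.injective (congrArg Subtype.val e))
      obtain ⟨v, hv⟩ := hinj.2 ⟨z, hz⟩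
      rw [← show (v : J) = w from ρ.injective ((congrArg Subtype.val hv).trans hw.symm)]
      exact v.2
    have h1 : y * w * y⁻¹ ∈ ((y • Q : Sylow 2 J) : Subgroup J) := sylow_mem_smul.2 (by
      rwa [show y⁻¹ * (y * w * y⁻¹) * y = w by group])
    have h2 := sylow_mem_smul.1 (hfix' _ _ h1)
    rwa [map_mul, map_mul, map_inv, hw, show y⁻¹ * (ρ y * z * (ρ y)⁻¹) * y = y⁻¹ * ρ y * z * (y⁻¹ * ρ y)⁻¹ by
      group] at h2)
  let δ : J →* J :=
    { toFun := fun y => y⁻¹ * ρ y
      map_one' := by simp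
      map_mul' := fun a b => by
        have h1 := Subgroup.mem_center_iff.1 (hcomm a) b⁻¹
        calc (a * b)⁻¹ * ρ (a * b) = b⁻¹ * (a⁻¹ * ρ a) * ρ b := by rw [map_mul]; group
          _ = a⁻¹ * ρ a * (b⁻¹ * ρ b) := by rw [h1]; group }
  have hδ : (⊤ : Subgroup J).map δ = ⊥ := by
    rw [← c.perfect, Subgroup.map_commutator, commutator_eq_bot_iff_le_centralizer]
    rintro _ ⟨a, -, rfl⟩
    refine mem_centralizer_iff.2 ?_
    rintro _ ⟨b, -, rfl⟩
    exact Subgroup.mem_center_iff.1 (hcomm a) _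
  have hrJ : r ∈ centralizer (J : Set X) := mem_centralizer_iff.2 fun j hj => by
    have h1 : (⟨j, hj⟩ : J)⁻¹ * ρ ⟨j, hj⟩ = 1 := (Subgroup.eq_bot_iff_forall _).1 hδ _ ⟨⟨j, hj⟩, mem_top _, rfl⟩
    have h2 := congrArg Subtype.val (inv_mul_eq_one.1 h1)
    rw [hρ] at h2
    exact eq_mul_inv_iff_mul_eq.1 h2
  have hrF : r ∈ Cfsg.fittingSubgroup X := by
    refine GW.centralizer_gfit_le_fit (mem_centralizer_iff.2 ?_)
    have hle : Cfsg.generalizedFittingSubgroup X ≤ centralizer ({r} : Set X) := by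
      refine sup_le (sSup_le fun K hK x hx => ?_) fun x hx => ?_
      · rw [comp_unique c.comp S c.ci c.core c.nonab hK] at hx
        exact mem_centralizer_singleton_iff.2 (mem_centralizer_iff.1 hrJ x hx)
      · exact mem_centralizer_singleton_iff.2 (hr x (fitting_le_sylow c.core S hx)).eq.symm
    exact fun x hx => mem_centralizer_singleton_iff.1 (hle hx)
  obtain ⟨k, hk⟩ := S.2 ⟨r, fitting_le_sylow c.core S hrF⟩
  exact orderOf_eq_one_iff.1 (Nat.eq_one_of_dvd_coprimes (ho.coprime_two_right.pow_right k) dvd_rfl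
    (orderOf_dvd_of_pow_eq_one (congrArg Subtype.val hk :)))

end Str

end Cfsg.Agent.CI
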