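import Cfsg.Agent.Lib.CI.Basic
import Cfsg.Agent.Lib.Bender.SolSimple
import Cfsg.Agent.Lib.Bender.Solvable.Main
import Cfsg.Agent.Lib.Walter.CentralizerShape

/-!
# A Sylow 2-subgroup transitive on the others

In a simple group with a strongly embedded subgroup a Sylow 2-subgroup is transitive on the remaining ones; the property
passes to central extensions by 2-groups, and in a perfect group it makes two distinct Sylow 2-subgroups generate.
-/

set_option autoImplicit false
set_option linter.style.haveILetI false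
set_option linter.unusedSectionVars false
set_option linter.dupNamespace false

namespace Cfsg.Agent.CI

open Subgroup Cfsg.Agent

universe u v

/-- Every Sylow 2-subgroup is transitive on the others. -/
def TwoTrans (K : Type u) [Group K] : Prop :=
  ∀ P Q R : Sylow 2 K, Q ≠ P → R ≠ P → ∃ p ∈ (P : Subgroup K), p • Q = R

variable {K : Type u} [Group K] [Finite K]

theorem twoTrans_of_se [IsSimpleGroup K] (hna : ¬ IsMulCommutative K) {H : Subgroup K}
    (hH : Cfsg.IsStronglyEmbedded H) : TwoTrans K := by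
  have hna' : ∃ a b : K, a * b ≠ b * a := by
    by_contra hc
    push Not at hc
    exact hna ⟨⟨hc⟩⟩
  have hm : SEB.mbar ↥H ≠ 1 := fun hm => by
    have htop := Bender.core_sup_eq_top hH (SEB.oneClass_of_mbar_eq_one hm)
    rw [simple_core hna, bot_sup_eq] at htop
    exact hH.1 htop
  have hN : H.normalCore = ⊥ := (Subgroup.normalCore_normal H).eq_bot_or_eq_top.resolve_right
    fun h => hH.1 (top_le_iff.1 (h ▸ Subgroup.normalCore_le H))
  obtain ⟨g, hg⟩ : ∃ g : K, g ∉ H := by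
    by_contra h
    push Not at h
    exact hH.1 ((Subgroup.eq_top_iff' H).2 h)
  have hca : (QuotientGroup.mk g : K ⧸ H) ≠ QuotientGroup.mk 1 := fun e => hg (by
    have h := QuotientGroup.eq.1 e.symm
    simpa using h)
  have hfix : ∀ x : K, x • (QuotientGroup.mk 1 : K ⧸ H) = QuotientGroup.mk 1 ↔ x ∈ H := fun x => by
    rw [← MulAction.mem_stabilizer_iff, MulAction.stabilizer_quotient]
  obtain ⟨t₀, Q₀, hc₀, -⟩ := SEB.ctx_of_solvable hH (SEB.sol_all K H hH hm) hm hN hca
  have hmax : IsCoatom H := by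
    refine ⟨hH.1, fun M hlt => ?_⟩
    obtain ⟨m, hmM, hmH⟩ := SetLike.exists_of_lt hlt
    refine eq_top_iff.2 fun x _ => ?_
    by_cases hx : x ∈ H
    · exact hlt.le hx
    have hx' : x • (QuotientGroup.mk 1 : K ⧸ H) ≠ QuotientGroup.mk 1 := fun e => hx ((hfix x).1 e)
    have hm' : m • (QuotientGroup.mk 1 : K ⧸ H) ≠ QuotientGroup.mk 1 := fun e => hmH ((hfix m).1 e)
    obtain ⟨h, h1, h2⟩ := MulAction.is_two_pretransitive_iff.1 hc₀.hS.two_transitive hm'.symm hx'.symm
    rw [← mul_smul] at h2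
    have h3 : x⁻¹ * (h * m) ∈ H := (hfix _).1 (by rw [mul_smul, h2, inv_smul_smul])
    have := mul_mem (mul_mem (hlt.le ((hfix h).1 h1)) hmM) (hlt.le (inv_mem h3))
    rwa [show h * m * (x⁻¹ * (h * m))⁻¹ = x by group] at this
  obtain ⟨t, Q, hc, -, hQM, -, hNQ, S, hS⟩ := Bender.exists_Q SEB.sol_all hna' hmax hH
  set c : K ⧸ H := QuotientGroup.mk 1 with hcdef
  have hst : MulAction.stabilizer K c = H := MulAction.stabilizer_quotient H
  have htr : ∀ x : K ⧸ H, x ≠ c → ∃ q ∈ Q, q • (t • c) = x := by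
    intro x hx
    obtain ⟨h, h1, h2⟩ := MulAction.is_two_pretransitive_iff.1 hc.hS.two_transitive
      (show c ≠ t • c from fun e => hc.hS.not_mem e.symm) (Ne.symm hx)
    have hh : h ∈ (Q ⊔ (MulAction.stabilizer K c ⊓ MulAction.stabilizer K (t • c)) : Subgroup K) := by
      rw [hc.hS.sup_eq]; exact h1
    have hD : MulAction.stabilizer K c ⊓ MulAction.stabilizer K (t • c) ≤ normalizer (Q : Set K) := fun d hd =>
      mem_normalizer_fintype fun y hy => hc.hS.conj_mem d (Subgroup.mem_inf.1 hd).1 y hy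
    rw [← SetLike.mem_coe, coe_mul_of_right_le_normalizer_left _ _ hD] at hh
    obtain ⟨q, hq, d, hd, e⟩ := hh
    obtain rfl : q * d = h := e
    refine ⟨q, hq, ?_⟩
    have hd2 : d • (t • c) = t • c := hd.2
    rw [← h2, mul_smul, hd2]
  have hsyl : ∀ x : K, x • S = S ↔ x ∈ H := fun x => by
    rw [← hNQ, ← hS]
    exact Sylow.smul_eq_iff_mem_normalizer
  intro P R₁ R₂ h1 h2
  obtain ⟨a, rfl⟩ := MulAction.exists_smul_eq K S P
  obtain ⟨b, rfl⟩ := MulAction.exists_smul_eq K (a • S) R₁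
  obtain ⟨d, rfl⟩ := MulAction.exists_smul_eq K (a • S) R₂
  have key : ∀ y : K, y • (a • S) ≠ a • S → (a⁻¹ * y * a) • c ≠ c := fun y hy e => hy (by
    have h3 := (hsyl _).2 ((hfix _).1 e)
    rw [mul_smul, mul_smul, inv_smul_eq_iff] at h3
    exact h3)
  obtain ⟨q₁, hq₁, e₁⟩ := htr _ (key b h1)
  obtain ⟨q₂, hq₂, e₂⟩ := htr _ (key d h2)
  have h3 : (q₂ * q₁⁻¹) • ((a⁻¹ * b * a) • c) = (a⁻¹ * d * a) • c := by
    rw [← e₁, mul_smul, inv_smul_smul, e₂]
  rw [← mul_smul] at h3
  have h4 : ((a⁻¹ * d * a)⁻¹ * (q₂ * q₁⁻¹ * (a⁻¹ * b * a))) • S = S := (hsyl _).2 ((hfix _).1 (by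
    rw [mul_smul, h3, inv_smul_smul]))
  rw [mul_smul, inv_smul_eq_iff] at h4
  refine ⟨a * (q₂ * q₁⁻¹) * a⁻¹, ?_, ?_⟩
  · rw [show ((a • S : Sylow 2 K) : Subgroup K) = (a • S).toSubgroup from rfl]
    refine sylow_mem_smul.2 ?_
    rw [show a⁻¹ * (a * (q₂ * q₁⁻¹) * a⁻¹) * a = q₂ * q₁⁻¹ by group, hS]
    exact mul_mem hq₂ (inv_mem hq₁)
  · have := congrArg (fun T : Sylow 2 K => a • T) h4
    simp only [← mul_smul] at this ⊢
    convert this using 1 <;> congr 1 <;> group

/-- The property passes to a central extension by a 2-group. -/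
theorem TwoTrans.of_surjective {J : Type v} [Group J] [Finite J] (h : TwoTrans K) (f : J →* K)
    (hf : Function.Surjective f) (hker : IsPGroup 2 f.ker) : TwoTrans J := by
  have inj : ∀ P Q : Sylow 2 J, Sylow.mapSurjective hf P = Sylow.mapSurjective hf Q → P = Q := fun P Q e => by
    have h1 := congrArg (fun T : Sylow 2 K => (T : Subgroup K)) e
    simp only [Sylow.coe_mapSurjective] at h1
    refine Sylow.ext ?_
    have hle : ∀ R : Sylow 2 J, f.ker ≤ R := fun R => hker.le_sylow_of_normal R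
    rw [← comap_map_eq_self (hle P), ← comap_map_eq_self (hle Q)]
    exact congrArg (Subgroup.comap f) h1
  intro P Q R hQ hR
  obtain ⟨p', hp', e⟩ := h (Sylow.mapSurjective hf P) (Sylow.mapSurjective hf Q) (Sylow.mapSurjective hf R)
    (fun e => hQ (inj _ _ e)) (fun e => hR (inj _ _ e))
  rw [Sylow.coe_mapSurjective] at hp'
  obtain ⟨p, hp, rfl⟩ := hp'
  refine ⟨p, hp, inj _ _ ?_⟩
  rw [← e]
  refine Sylow.ext ?_
  simp only [Sylow.coe_mapSurjective, Sylow.smul_def, Sylow.pointwise_smul_def, Subgroup.pointwise_smul_def,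
    Subgroup.map_map]
  congr 1
  ext x
  simp

section Perfect

variable (h : TwoTrans K) (hperf : ⁅(⊤ : Subgroup K), (⊤ : Subgroup K)⁆ = ⊤)
include h hperf

theorem TwoTrans.sup_eq_top {P Q : Sylow 2 K} (hne : Q ≠ P) : (P : Subgroup K) ⊔ (Q : Subgroup K) = ⊤ := by
  set N : Subgroup K := ⨆ R : Sylow 2 K, (R : Subgroup K) with hN
  have hall : N ≤ (P : Subgroup K) ⊔ (Q : Subgroup K) := iSup_le fun R x hx => by
    by_cases e : R = P
    · exact mem_sup_left (e ▸ hx)
    obtain ⟨p, hp, rfl⟩ := h P Q R hne e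
    have hx' := sylow_mem_smul.1 hx
    rw [show x = p * (p⁻¹ * x * p) * p⁻¹ by group]
    exact mul_mem (mul_mem (mem_sup_left hp) (mem_sup_right hx')) (inv_mem (mem_sup_left hp))
  haveI : N.Normal := Fusion.normal_iff_cj.2 fun g => Fusion.cj_eq_of_cj_le (by
    rw [hN]
    refine (Subgroup.map_iSup _ _).le.trans (iSup_le fun R => ?_)
    refine le_trans ?_ (le_iSup _ (g • R))
    rintro _ ⟨x, hx, rfl⟩
    refine sylow_mem_smul.2 ?_
    show g⁻¹ * (g * x * g⁻¹) * g ∈ (R : Subgroup K)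
    rwa [show g⁻¹ * (g * x * g⁻¹) * g = x by group])
  have hodd : Odd N.index := Nat.not_even_iff_odd.1 fun he =>
    P.not_dvd_index (he.two_dvd.trans (Subgroup.index_dvd_of_le (le_iSup (fun R : Sylow 2 K => (R : Subgroup K)) P)))
  exact top_le_iff.1 ((Walter.perfect_le_of_odd_index hodd hperf).trans hall)

theorem TwoTrans.inf_le_center (hci : CI K) {P Q : Sylow 2 K} (hne : Q ≠ P) {x : K} (hP : x ∈ (P : Subgroup K))
    (hQ : x ∈ (Q : Subgroup K)) : x ∈ Subgroup.center K := by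
  have hle : (P : Subgroup K) ⊔ (Q : Subgroup K) ≤ centralizer ({x} : Set K) := sup_le
    (fun p hp => mem_centralizer_singleton_iff.2 (hci P Q hne.symm x hP hQ p hp).eq)
    (fun q hq => mem_centralizer_singleton_iff.2 (hci Q P hne x hQ hP q hq).eq)
  rw [h.sup_eq_top hperf hne] at hle
  exact Subgroup.mem_center_iff.2 fun g => mem_centralizer_singleton_iff.1 (hle (mem_top g))

end Perfect

end Cfsg.Agent.CI
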